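import Cfsg.Agent.FS.Sw.Sem

/-!
# The filter on pairs: the precomputed data are correct (helper79, project FS)
-/

set_option autoImplicit false

namespace Cfsg.Agent.FS.Sw

open Cfsg.Agent.FS.Pc Finset

universe u

/-! ### parity -/

theorem par_succ (r a : ℕ) : par (r + 1) a = xor (a.testBit r) (par r a) := rfl

theorem par_congr {a b : ℕ} : ∀ r, (∀ i, i < r → a.testBit i = b.testBit i) → par r a = par r b
  | 0, _ => rfl
  | r + 1, h => by rw [par_succ, par_succ, h r (Nat.lt_succ_self r), par_congr r fun i hi => h i (by omega)]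

theorem par_xor (a b : ℕ) : ∀ r, par r (a ^^^ b) = xor (par r a) (par r b)
  | 0 => rfl
  | r + 1 => by
    rw [par_succ, par_succ, par_succ, par_xor a b r, Nat.testBit_xor]
    cases a.testBit r <;> cases b.testBit r <;> cases par r a <;> cases par r b <;> rfl

theorem par_zero : ∀ r, par r 0 = false
  | 0 => rfl
  | r + 1 => by rw [par_succ, par_zero r, Nat.zero_testBit]; rfl

theorem cnt_par (X : ℕ) : ∀ K, (cnt K X).testBit 0 = par K X
  | 0 => Nat.zero_testBit 0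
  | K + 1 => by
    have h1 := cnt_par X K
    unfold cnt at h1 ⊢
    rw [range_add_one, filter_insert, par_succ, ← h1]
    cases h2 : X.testBit K
    · rw [if_neg (by simp), Bool.false_xor]
    · rw [if_pos rfl, card_insert_of_notMem (by simp), Nat.testBit_zero, Nat.testBit_zero]
      generalize (filter (fun i => X.testBit i = true) (range K)).card = m
      rcases Nat.mod_two_eq_zero_or_one m with h | h
      · rw [h, show (m + 1) % 2 = 1 by omega]
        rfl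
      · rw [h, show (m + 1) % 2 = 0 by omega]
        rfl

/-! ### repacking -/

theorem repack_spec {w : ℕ} (hw : w ≤ 32) (R : ℕ) : ∀ m, repack w R m < 2 ^ (32 * m) ∧
    ∀ i, i < m → Pc.get 32 (repack w R m) i = Pc.get w R i
  | 0 => ⟨Nat.two_pow_pos _, fun i hi => by omega⟩
  | m + 1 => by
    obtain ⟨h1, h2⟩ := repack_spec hw R m
    have h3 : repack w R (m + 1) = repack w R m + Pc.get w R m <<< (32 * m) := by
      show repack w R m + (Nat.land (R >>> (w * m)) (msk w)) <<< (32 * m) = _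
      rw [land_msk]
      rfl
    have h4 : Pc.get w R m < 2 ^ 32 := (get_lt _ _ _).trans_le (Nat.pow_le_pow_right (by norm_num) hw)
    rw [h3]
    refine ⟨by rw [Nat.mul_succ]; exact cat_lt h1 h4, fun i hi => ?_⟩
    rcases Nat.lt_succ_iff_lt_or_eq.1 hi with h5 | h5
    · rw [get_cat_lo _ h1 h5, h2 i h5]
    · have h6 := get_cat_hi (Pc.get w R m) h1 0
      rw [Nat.add_zero, get_zero_of_lt h4] at h6
      rw [h5, h6]

theorem tri_lt {k j n : ℕ} (hj : j ≤ k) (hn : k < n) : tri k j < tri n 0 := by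
  have h1 : ∀ k, tri (k + 1) 0 = tri k 0 + k + 1 := fun k => by
    unfold tri
    rw [show (k + 1) * (k + 1 + 1) = k * (k + 1) + 2 * (k + 1) by ring, Nat.add_mul_div_left _ _ (by norm_num)]
    omega
  induction n, hn using Nat.le_induction with
  | base => rw [h1, show tri k j = tri k 0 + j from rfl]; omega
  | succ n hn ih => rw [h1]; omega

variable {G : Type u} [Group G]

theorem ext_repack {z : G} {x : ℕ → G} {c r n w R : ℕ} (h : Ext z x c r n w R) (hw : w ≤ 32) :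
    Ext z x c r n 32 (repack w R (tri n 0)) :=
  ⟨⟨h.pc.tsq, h.pc.tc, fun k hk => by rw [(repack_spec hw R _).2 _ (tri_lt le_rfl hk)]; exact h.pc.pw k hk,
    fun k hk j hj => by rw [(repack_spec hw R _).2 _ (tri_lt hj.le hk)]; exact h.pc.cj k hk j hj⟩,
    h.width.trans hw, h.z2, h.zc, h.span, h.card⟩

/-! ### planes -/

theorem pa_lt (n k : ℕ) : pa n k < 2 ^ 5 := Nat.and_lt_two_pow _ (by norm_num)

theorem perm1 : ∀ n, n < 8 → (∀ i, i < 5 → n + n ≤ swf 5 (n + n) i ∧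
    ∀ k, k < 32 → k.testBit i = (pa n k).testBit (swf 5 (n + n) i - (n + n))) ∧
      ∀ i, i < n + n → swf 5 (n + n) (i + 5) = i := by decide +kernel

theorem perm2 : ∀ n, n < 8 → ∀ i, i < n + n + 5 →
    swf n n i = if i < n then i + n else if i < n + n then i - n else i := by decide +kernel

theorem addr_lt {n a b : ℕ} (ha : a < 2 ^ n) (hb : b < 2 ^ n) : 2 ^ n * a + b < 2 ^ (n + n) := by
  rw [Nat.pow_add]
  nlinarith

theorem addr_lt' {s t a b : ℕ} (ha : a < 2 ^ t) (hb : b < 2 ^ s) : 2 ^ s * a + b < 2 ^ (s + t) := by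
  rw [Nat.pow_add]
  nlinarith

theorem plane_lt (n X k : ℕ) : plane n (2 ^ (2 ^ n * 2 ^ n) - 1) X k < 2 ^ (2 ^ n * 2 ^ n) :=
  Nat.and_lt_two_pow _ (Nat.sub_lt (Nat.two_pow_pos _) Nat.one_pos)

theorem testBit_plane {n p : ℕ} (hp : p < 2 ^ (n + n)) (X k : ℕ) :
    (plane n (2 ^ (2 ^ n * 2 ^ n) - 1) X k).testBit p = X.testBit (2 ^ (n + n) * pa n k + p) := by
  unfold plane
  rw [nland, nshr, shl_eq, nadd, Nat.testBit_and, Nat.testBit_shiftRight, Nat.testBit_two_pow_sub_one,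
    decide_eq_true (by rwa [← Nat.pow_add]), Bool.and_true, Nat.mul_comm]

theorem testBit_PM {n : ℕ} (hn : n ≤ 7) (T : ℕ) {k p : ℕ} (hk : k < 32) (hp : p < 2 ^ (n + n)) :
    (swps (n + n + 5) 5 (n + n) T).testBit (2 ^ (n + n) * pa n k + p) = (Pc.get 32 T p).testBit k := by
  obtain ⟨h1, h2⟩ := perm1 n (by omega)
  rw [← testBit_of_get hk]
  refine (prm_swps (by norm_num) T _ le_rfl).1 _ _ (addr_lt' (pa_lt n k) hp)
    (by rw [Nat.add_comm _ 5]; exact addr_lt' (s := 5) hp hk) fun i hi => ?_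
  rw [show 32 = 2 ^ 5 from rfl, Nat.testBit_two_pow_mul_add _ hk, Nat.testBit_two_pow_mul_add _ hp]
  by_cases h3 : i < 5
  · rw [if_pos h3, if_neg (not_lt.2 (h1 i h3).1), (h1 i h3).2 k hk]
  · obtain ⟨j, rfl⟩ : ∃ j, i = j + 5 := ⟨i - 5, by omega⟩
    rw [if_neg h3, h2 j (by omega), if_pos (by omega), Nat.add_sub_cancel]

theorem testBit_PT {n : ℕ} (h1 : 1 ≤ n) (hn : n ≤ 7) (X : ℕ) {k a b : ℕ} (hk : k < 2 ^ 5) (ha : a < 2 ^ n)
    (hb : b < 2 ^ n) : (swps (n + n + 5) n n X).testBit (2 ^ (n + n) * k + (2 ^ n * a + b)) =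
      X.testBit (2 ^ (n + n) * k + (2 ^ n * b + a)) := by
  refine (prm_swps h1 X _ (by omega)).1 _ _ (addr_lt' hk (addr_lt ha hb)) (addr_lt' hk (addr_lt hb ha)) fun i hi => ?_
  rw [perm2 n (by omega) i hi, Nat.testBit_two_pow_mul_add _ (addr_lt ha hb),
    Nat.testBit_two_pow_mul_add _ (addr_lt hb ha), Nat.testBit_two_pow_mul_add _ ha, Nat.testBit_two_pow_mul_add _ hb]
  by_cases h2 : i < n
  · simp only [if_pos h2]
    rw [if_pos (by omega), if_pos (by omega), if_neg (by omega), Nat.add_sub_cancel]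
  · simp only [if_neg h2]
    by_cases h3 : i < n + n
    · simp only [if_pos h3]
      rw [if_pos (by omega), if_pos (by omega)]
    · simp only [if_neg h3]

theorem testBit_diag (n X j : ℕ) : (diag (ones (2 ^ n + 1) n) (2 ^ (2 ^ n + 1) - 2) X).testBit j =
    (decide (j < 2 ^ n) && X.testBit (2 ^ n * j + j)) := by
  unfold diag
  rw [nmod, nland, testBit_cmp (f := fun i => X.testBit ((2 ^ n + 1) * i)) (Nat.succ_pos _)
    (land_ones_lt (Nat.succ_pos _) X) (fun i hi => get_land_ones (Nat.succ_pos _) hi)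
    fun D hD _ => lt_sub_two_of_lt (Nat.two_pow_pos n) (Nat.lt_succ_self _) hD, Nat.succ_mul]

theorem diag_lt (n X : ℕ) : diag (ones (2 ^ n + 1) n) (2 ^ (2 ^ n + 1) - 2) X < 2 ^ 2 ^ n :=
  lt_of_testBit fun i hi => by rw [testBit_diag, decide_eq_false (by omega), Bool.false_and]

theorem testBit_orPl (n F2 X r p : ℕ) : ∀ j, (orPl n F2 X r j).testBit p = true ↔
    ∃ i, i < j ∧ (plane n F2 X (r + i)).testBit p = true
  | 0 => by
    rw [show orPl n F2 X r 0 = 0 from rfl, Nat.zero_testBit]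
    exact ⟨fun h => (by cases h), fun ⟨i, hi, _⟩ => by omega⟩
  | j + 1 => by
    rw [show orPl n F2 X r (j + 1) = orPl n F2 X r j ||| plane n F2 X (r + j) from rfl, Nat.testBit_or,
      Bool.or_eq_true, testBit_orPl n F2 X r p j]
    constructor
    · rintro (⟨i, hi, h⟩ | h)
      · exact ⟨i, by omega, h⟩
      · exact ⟨j, by omega, h⟩
    · rintro ⟨i, hi, h⟩
      rcases Nat.lt_succ_iff_lt_or_eq.1 hi with h1 | h1
      · exact Or.inl ⟨i, h1, h⟩
      · exact Or.inr (h1 ▸ h)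

theorem diags_spec (n F2 X r : ℕ) : ∀ j,
    diags n F2 (ones (2 ^ n + 1) n) (2 ^ (2 ^ n + 1) - 2) X r j < 2 ^ (2 ^ n * j) ∧ ∀ i, i < j →
      Pc.get (2 ^ n) (diags n F2 (ones (2 ^ n + 1) n) (2 ^ (2 ^ n + 1) - 2) X r j) i =
        diag (ones (2 ^ n + 1) n) (2 ^ (2 ^ n + 1) - 2) (plane n F2 X (r + i))
  | 0 => ⟨Nat.two_pow_pos _, fun i hi => by omega⟩
  | j + 1 => by
    obtain ⟨h1, h2⟩ := diags_spec n F2 X r j
    have h3 : diags n F2 (ones (2 ^ n + 1) n) (2 ^ (2 ^ n + 1) - 2) X r (j + 1) =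
        diags n F2 (ones (2 ^ n + 1) n) (2 ^ (2 ^ n + 1) - 2) X r j +
          diag (ones (2 ^ n + 1) n) (2 ^ (2 ^ n + 1) - 2) (plane n F2 X (r + j)) <<< (2 ^ n * j) := by
      rw [Nat.mul_comm, ← shl_eq]
      rfl
    have h4 := diag_lt n (plane n F2 X (r + j))
    rw [h3]
    refine ⟨by rw [Nat.mul_succ]; exact cat_lt h1 h4, fun i hi => ?_⟩
    rcases Nat.lt_succ_iff_lt_or_eq.1 hi with h5 | h5
    · rw [get_cat_lo _ h1 h5, h2 i h5]
    · have h6 := get_cat_hi (diag (ones (2 ^ n + 1) n) (2 ^ (2 ^ n + 1) - 2) (plane n F2 X (r + j))) h1 0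
      rw [get_zero_of_lt h4] at h6
      rw [h5]
      exact h6

theorem sqt_spec {n Dg : ℕ} {sq : ℕ → ℕ} : ∀ j,
    (∀ i, i < j → ∀ y, y < 2 ^ n → (Pc.get (2 ^ n) Dg i).testBit y = (sq y).testBit i) → ∀ X, X < 2 ^ 2 ^ n →
      sqt n (2 ^ 2 ^ n - 1) (2 ^ n + 1) Dg j X < 2 ^ ((2 ^ n + 1) * 2 ^ j) ∧ ∀ u, u < 2 ^ j → ∀ y,
        (Pc.get (2 ^ n + 1) (sqt n (2 ^ 2 ^ n - 1) (2 ^ n + 1) Dg j X) u).testBit y =
          (X.testBit y && decide (sq y % 2 ^ j = u))
  | 0, _, X, hX => by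
    have h1 : X < 2 ^ (2 ^ n + 1) := hX.trans (Nat.pow_lt_pow_right (by norm_num) (Nat.lt_succ_self _))
    refine ⟨by rw [Nat.pow_zero, Nat.mul_one]; exact h1, fun u hu y => ?_⟩
    obtain rfl : u = 0 := by simpa using hu
    rw [show sqt n (2 ^ 2 ^ n - 1) (2 ^ n + 1) Dg 0 X = X from rfl, get_zero_of_lt h1, Nat.pow_zero, Nat.mod_one,
      decide_eq_true rfl, Bool.and_true]
  | j + 1, h, X, hX => by
    have h0 : sqt n (2 ^ 2 ^ n - 1) (2 ^ n + 1) Dg (j + 1) X =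
        frc (Nat.land X (row n (2 ^ 2 ^ n - 1) Dg j)) fun Y => Nat.add
          (frc (Nat.xor X Y) (sqt n (2 ^ 2 ^ n - 1) (2 ^ n + 1) Dg j))
          (Nat.shiftLeft (sqt n (2 ^ 2 ^ n - 1) (2 ^ n + 1) Dg j Y) (Nat.shiftLeft (2 ^ n + 1) j)) := rfl
    rw [h0, frc_eq, frc_eq, row_eq, shl_eq (2 ^ n + 1), nadd, nshl, nland, nxor]
    have hY : X &&& Pc.get (2 ^ n) Dg j < 2 ^ 2 ^ n := Nat.and_lt_two_pow _ (get_lt _ _ _)
    obtain ⟨a1, a2⟩ := sqt_spec j (fun i hi => h i (by omega)) _ (xor_lt hX hY)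
    obtain ⟨b1, b2⟩ := sqt_spec j (fun i hi => h i (by omega)) _ hY
    refine ⟨by rw [Nat.pow_succ, Nat.mul_two, Nat.mul_add]; exact cat_lt a1 b1, fun u hu y => ?_⟩
    have hm : sq y % 2 ^ (j + 1) = sq y % 2 ^ j + 2 ^ j * (sq y / 2 ^ j % 2) := Nat.mod_pow_succ
    have hl : sq y % 2 ^ j < 2 ^ j := Nat.mod_lt _ (Nat.two_pow_pos j)
    have hb : ∀ hy : y < 2 ^ n, (Pc.get (2 ^ n) Dg j).testBit y = decide (sq y / 2 ^ j % 2 = 1) := fun hy => by
      rw [h j (Nat.lt_succ_self j) y hy, Nat.testBit_eq_decide_div_mod_eq]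
    cases hx : X.testBit y
    · by_cases h1 : u < 2 ^ j
      · rw [get_cat_lo _ a1 h1, a2 u h1, Nat.testBit_xor, Nat.testBit_and, hx]
        rfl
      · obtain ⟨v, rfl⟩ := Nat.exists_eq_add_of_le (not_lt.1 h1)
        rw [get_cat_hi _ a1, b2 v (by rw [Nat.pow_succ] at hu; omega), Nat.testBit_and, hx]
        rfl
    have hy := lt_of_testBit_true hX hx
    by_cases h1 : u < 2 ^ j
    · rw [get_cat_lo _ a1 h1, a2 u h1, Nat.testBit_xor, Nat.testBit_and, hx, hb hy, hm]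
      rcases Nat.mod_two_eq_zero_or_one (sq y / 2 ^ j) with h2 | h2
      · rw [h2]
        simp
      · rw [h2, decide_eq_false (show ¬ sq y % 2 ^ j + 2 ^ j * 1 = u by omega)]
        simp
    · obtain ⟨v, rfl⟩ := Nat.exists_eq_add_of_le (not_lt.1 h1)
      rw [get_cat_hi _ a1, b2 v (by rw [Nat.pow_succ] at hu; omega), Nat.testBit_and, hx, hb hy, hm]
      rcases Nat.mod_two_eq_zero_or_one (sq y / 2 ^ j) with h2 | h2
      · rw [h2, decide_eq_false (show ¬ sq y % 2 ^ j + 2 ^ j * 0 = 2 ^ j + v by omega)]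
        simp
      · rw [h2, show decide (sq y % 2 ^ j + 2 ^ j * 1 = 2 ^ j + v) = decide (sq y % 2 ^ j = v) from
          decide_eq_decide.2 (by omega)]
        simp

/-! ### the lists -/

/-- the list `e (r - 1), …, e 0` -/
noncomputable def EL (e : ℕ → ℕ) (r : ℕ) : List ℕ := Nat.rec (motive := fun _ => List ℕ) [] (fun i L => e i :: L) r

theorem mkE_eq {α : Type} (n F2 N2 O1 md PM D : ℕ) : ∀ (r : ℕ) (k : List ℕ → α), mkE n F2 N2 O1 md PM D r k =
    k (EL (fun i => plane n F2 D i + diag O1 md (plane n F2 PM i) <<< N2) r)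
  | 0, _ => rfl
  | r + 1, k => by
    have h : mkE n F2 N2 O1 md PM D (r + 1) k =
      frc (Nat.add (plane n F2 D r) (Nat.shiftLeft (diag O1 md (plane n F2 PM r)) N2)) fun e =>
        mkE n F2 N2 O1 md PM D r fun L => k (e :: L) := rfl
    rw [h, frc_eq, mkE_eq n F2 N2 O1 md PM D r]
    rfl

theorem testBit_xorL (e : ℕ → ℕ) (c p v : ℕ) : ∀ r A, (∀ i, i < r → (e i).testBit p = v.testBit i) →
    (xorL (EL e r) c r A).testBit p = xor (A.testBit p) (par r (v &&& c))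
  | 0, A, _ => (Bool.xor_false _).symm
  | r + 1, A, h => by
    have h0 : xorL (EL e (r + 1)) c (r + 1) A =
      ite' (tb c r) (frc (Nat.xor A (e r)) (xorL (EL e r) c r)) (xorL (EL e r) c r A) := rfl
    rw [h0, tb_eq, frc_eq, par_succ, Nat.testBit_and]
    cases c.testBit r
    · rw [ite'_false, testBit_xorL e c p v r A fun i hi => h i (by omega), Bool.and_false, Bool.false_xor]
    · rw [ite'_true, testBit_xorL e c p v r _ fun i hi => h i (by omega), nxor, Nat.testBit_xor,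
        h r (Nat.lt_succ_self r), Bool.and_true, Bool.xor_assoc]

theorem mkU_eq {α : Type} (f : ℕ → ℕ) : ∀ (us : List ℕ) (k : List (ℕ × ℕ) → α),
    mkU f us k = k (us.map fun u => (u, f u))
  | [], _ => rfl
  | u :: us, k => by
    have h : mkU f (u :: us) k = frc u fun u => frc (f u) fun m => mkU f us fun L => k ((u, m) :: L) := rfl
    rw [h, frc_eq, frc_eq, mkU_eq f us]
    rfl

theorem mkC_eq {α : Type} (f : ℕ → ℕ → ℕ) : ∀ (cs : List (ℕ × List ℕ)) (k : List (ℕ × List (ℕ × ℕ)) → α),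
    mkC f cs k = k (cs.map fun c => (c.1, c.2.map fun u => (u, f c.1 u)))
  | [], _ => rfl
  | c :: cs, k => by
    have h : mkC f (c :: cs) k = frc c.1 fun v => mkU (f v) c.2 fun U => mkC f cs fun L => k ((v, U) :: L) := rfl
    rw [h, frc_eq, mkU_eq, mkC_eq f cs]
    rfl

theorem cjm_spec (n F2 PM PT r v u : ℕ) : cjm n (2 ^ 2 ^ n - 1) F2 PM PT r v u < 2 ^ 2 ^ n ∧
    ∀ g, (cjm n (2 ^ 2 ^ n - 1) F2 PM PT r v u).testBit g = true → g < 2 ^ n ∧ ∀ i, i < n →
      (plane n F2 PM (r + i)).testBit (2 ^ n * v + g) = (plane n F2 PT (r + i)).testBit (2 ^ n * u + g) := by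
  have h1 : ∀ j, Nat.rec (motive := fun _ => ℕ) 0 (fun i A => Nat.lor A
      (Nat.xor (row n (2 ^ 2 ^ n - 1) (plane n F2 PM (Nat.add r i)) v)
        (row n (2 ^ 2 ^ n - 1) (plane n F2 PT (Nat.add r i)) u))) j < 2 ^ 2 ^ n ∧ ∀ g, g < 2 ^ n →
      Nat.testBit (Nat.rec (motive := fun _ => ℕ) 0 (fun i A => Nat.lor A
        (Nat.xor (row n (2 ^ 2 ^ n - 1) (plane n F2 PM (Nat.add r i)) v)
          (row n (2 ^ 2 ^ n - 1) (plane n F2 PT (Nat.add r i)) u))) j) g = false → ∀ i, i < j →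
      (plane n F2 PM (r + i)).testBit (2 ^ n * v + g) = (plane n F2 PT (r + i)).testBit (2 ^ n * u + g) := by
    intro j
    induction j with
    | zero => exact ⟨Nat.two_pow_pos _, fun g _ _ i hi => by omega⟩
    | succ j ih =>
      refine ⟨Nat.or_lt_two_pow ih.1 (xor_lt (by rw [row_eq]; exact get_lt _ _ _) (by rw [row_eq]; exact get_lt _ _ _)),
        fun g hg h2 i hi => ?_⟩
      have h3 : Nat.testBit (_ ||| (_ ^^^ _)) g = false := h2
      rw [Nat.testBit_or, Bool.or_eq_false_iff] at h3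
      rcases Nat.lt_succ_iff_lt_or_eq.1 hi with h4 | h4
      · exact ih.2 g hg h3.1 i h4
      · have h5 := h3.2
        rw [Nat.testBit_xor, row_eq, row_eq, ← testBit_of_get hg, ← testBit_of_get hg, nadd] at h5
        rw [h4]
        revert h5
        cases (plane n F2 PM (r + j)).testBit (2 ^ n * v + g) <;>
          cases (plane n F2 PT (r + j)).testBit (2 ^ n * u + g) <;> simp
  have h2 : cjm n (2 ^ 2 ^ n - 1) F2 PM PT r v u < 2 ^ 2 ^ n :=
    xor_lt (Nat.sub_lt (Nat.two_pow_pos _) Nat.one_pos) (h1 n).1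
  refine ⟨h2, fun g hg => ?_⟩
  have h3 := lt_of_testBit_true h2 hg
  refine ⟨h3, (h1 n).2 g h3 ?_⟩
  unfold cjm at hg
  rw [nxor, Nat.testBit_xor, Nat.testBit_two_pow_sub_one, decide_eq_true h3, Bool.true_xor, Bool.not_eq_true'] at hg
  exact hg

/-! ### the data -/

/-- the table -/
noncomputable def vT (n r w R : ℕ) : ℕ := tab r n 32 (repack w R (tri n 0))

/-- the planes -/
noncomputable def vPM (n r w R : ℕ) : ℕ := swps (n + n + 5) 5 (n + n) (vT n r w R)

/-- the transposed planes -/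
noncomputable def vPT (n r w R : ℕ) : ℕ := swps (n + n + 5) n n (vPM n r w R)

/-- the value computed by `pre` -/
noncomputable def preV (n r w R : ℕ) (cs : List (ℕ × List ℕ)) : Pre :=
  ⟨n, r, 2 ^ n, 2 ^ 2 ^ n - 1, 2 ^ n + 1, 2 ^ n * 2 ^ n, 2 ^ (2 ^ n * 2 ^ n) - 1, ones (2 ^ n) n,
    (2 ^ (2 ^ n - 1) - 1) * ones (2 ^ n) n, ones (2 ^ n + 1) n, 2 ^ (2 ^ n + 1) - 1, 2 ^ 2 ^ n - 2, vT n r w R,
    orPl n (2 ^ (2 ^ n * 2 ^ n) - 1) (vPM n r w R ^^^ vPT n r w R) r n,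
    (2 ^ (2 ^ n * 2 ^ n) - 1) ^^^ orPl n (2 ^ (2 ^ n * 2 ^ n) - 1) (vPM n r w R) r n,
    sqt n (2 ^ 2 ^ n - 1) (2 ^ n + 1) (diags n (2 ^ (2 ^ n * 2 ^ n) - 1) (ones (2 ^ n + 1) n) (2 ^ (2 ^ n + 1) - 2)
      (vPM n r w R) r n) n (2 ^ 2 ^ n - 1),
    EL (fun i => plane n (2 ^ (2 ^ n * 2 ^ n) - 1) (vPM n r w R ^^^ vPT n r w R) i +
      diag (ones (2 ^ n + 1) n) (2 ^ (2 ^ n + 1) - 2) (plane n (2 ^ (2 ^ n * 2 ^ n) - 1) (vPM n r w R) i) <<<
        (2 ^ n * 2 ^ n)) r,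
    cs.map fun c => (c.1, c.2.map fun u =>
      (u, cjm n (2 ^ 2 ^ n - 1) (2 ^ (2 ^ n * 2 ^ n) - 1) (vPM n r w R) (vPT n r w R) r c.1 u))⟩

theorem pre_eq {α : Type} (n r w R : ℕ) (cs : List (ℕ × List ℕ)) (k : Pre → α) :
    pre n r w R cs k = k (preV n r w R cs) := by
  unfold pre
  simp only [frc_eq]
  rw [mkE_eq, mkC_eq]
  simp only [one_shl, shl_eq (2 ^ n), msk_eq, Nat.pred_eq_sub_one, Nat.succ_eq_add_one, Nat.sub_sub]
  rfl

theorem conc_eq {α : Type} (p : Pre) (c : ℕ) (k : ℕ → ℕ → ℕ → α) : p.conc c k =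
    k (p.NC0 ||| (xorL p.E c p.r 0 &&& p.F2)) (xorL p.E c p.r 0 >>> p.N2)
      (p.sq 0 &&& (p.F ^^^ xorL p.E c p.r 0 >>> p.N2)) := by
  unfold Pre.conc
  simp only [frc_eq]
  rfl

theorem ok_preV {z : G} {x : ℕ → G} {c r n w R : ℕ} (h : Ext z x c r n w R) (h1 : 1 ≤ n) (h7 : n ≤ 7) (hw : w ≤ 32)
    (cs : List (ℕ × List ℕ)) : Ok (preV n r w R cs) z (el x n) c
      ((preV n r w R cs).NC0 ||| (xorL (preV n r w R cs).E c r 0 &&& (preV n r w R cs).F2))
      (xorL (preV n r w R cs).E c r 0 >>> (preV n r w R cs).N2)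
      ((preV n r w R cs).sq 0 &&& ((preV n r w R cs).F ^^^ xorL (preV n r w R cs).E c r 0 >>> (preV n r w R cs).N2))
      (fun y => Pc.get 32 (vT n r w R) (2 ^ n * y + y) >>> r) := by
  have hE := ext_repack h hw
  have hrn : r + n ≤ 32 := hE.width
  have hm : ∀ {a b : ℕ}, a < 2 ^ n → b < 2 ^ n → Pc.get 32 (vT n r w R) (2 ^ n * a + b) >>> r < 2 ^ n ∧
      el x n a * el x n b = el x n (Pc.get 32 (vT n r w R) (2 ^ n * a + b) >>> r) *
        zp z (par r (Pc.get 32 (vT n r w R) (2 ^ n * a + b) &&& c)) := fun ha hb => hE.mul ha hb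
  have hPM : ∀ {k a b : ℕ}, k < 32 → a < 2 ^ n → b < 2 ^ n →
      (plane n (2 ^ (2 ^ n * 2 ^ n) - 1) (vPM n r w R) k).testBit (2 ^ n * a + b) =
        (Pc.get 32 (vT n r w R) (2 ^ n * a + b)).testBit k := fun hk ha hb => by
    rw [testBit_plane (addr_lt ha hb)]
    exact testBit_PM h7 _ hk (addr_lt ha hb)
  have hPT : ∀ {k a b : ℕ}, k < 32 → a < 2 ^ n → b < 2 ^ n →
      (plane n (2 ^ (2 ^ n * 2 ^ n) - 1) (vPT n r w R) k).testBit (2 ^ n * a + b) =
        (Pc.get 32 (vT n r w R) (2 ^ n * b + a)).testBit k := fun hk ha hb => by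
    rw [testBit_plane (addr_lt ha hb)]
    exact (testBit_PT h1 h7 _ (pa_lt _ _) ha hb).trans (testBit_PM h7 _ hk (addr_lt hb ha))
  have hD : ∀ {k a b : ℕ}, k < 32 → a < 2 ^ n → b < 2 ^ n →
      (plane n (2 ^ (2 ^ n * 2 ^ n) - 1) (vPM n r w R ^^^ vPT n r w R) k).testBit (2 ^ n * a + b) =
        (Pc.get 32 (vT n r w R) (2 ^ n * a + b) ^^^ Pc.get 32 (vT n r w R) (2 ^ n * b + a)).testBit k :=
    fun hk ha hb => by
      rw [Nat.testBit_xor, ← hPM hk ha hb, ← hPT hk ha hb, testBit_plane (addr_lt ha hb),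
        testBit_plane (addr_lt ha hb), testBit_plane (addr_lt ha hb), Nat.testBit_xor]
  have hQ : ∀ y v, (∀ i, i < r → (decide (y < 2 ^ n) && (plane n (2 ^ (2 ^ n * 2 ^ n) - 1) (vPM n r w R) i).testBit
      (2 ^ n * y + y)) = v.testBit i) →
      (xorL (preV n r w R cs).E c r 0 >>> (preV n r w R cs).N2).testBit y = par r (v &&& c) := fun y v hv => by
    rw [Nat.testBit_shiftRight]
    refine (testBit_xorL _ c _ v r 0 fun i hi => ?_).trans (by rw [Nat.zero_testBit, Bool.false_xor])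
    show Nat.testBit (_ + _ <<< (2 ^ n * 2 ^ n)) (2 ^ n * 2 ^ n + y) = _
    rw [testBit_cat _ (plane_lt _ _ _), if_neg (by omega), Nat.add_sub_cancel_left, testBit_diag, hv i hi]
  have zpc : ∀ (e : Bool) (y : G), zp z e * y = y * zp z e := fun e y => by
    cases e
    · exact (one_mul y).trans (mul_one y).symm
    · exact h.zc y
  refine ⟨h1, h7, rfl, rfl, rfl, rfl, rfl, rfl, rfl, rfl, rfl, h.z2, h.zc, h.span', h.inj, el_nil x n,
    fun y hy g => ?_, fun a b ha hb => ?_, fun a b ha hb => ?_, lt_of_testBit fun y hy => ?_,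
    fun y hy => (hm hy hy).1, fun y hy => ?_, fun u hu y => ?_, rfl, fun d hd u hu hd1 hu1 => ?_⟩
  · obtain ⟨a, -, e, rfl⟩ := h.span' g
    have h2 : el x n a ∈ Subgroup.centralizer {y} := el_mem a n fun k hk => by
      have h3 : el x n (2 ^ k) * y = y * el x n (2 ^ k) := hy k hk
      have h4 := el_top x (Nat.two_pow_pos k)
      rw [Nat.zero_xor, el_nil, mul_one] at h4
      rw [el_of_lt x (Nat.pow_lt_pow_right (by norm_num) (Nat.lt_succ_self k)) hk, h4] at h3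
      exact Subgroup.mem_centralizer_singleton_iff.2 h3
    rw [mul_assoc, zpc, ← mul_assoc, Subgroup.mem_centralizer_singleton_iff.1 h2, mul_assoc]
  · have ha' : a >>> 1 < 2 ^ n := by
      have : a < 2 * 2 ^ n := ha
      rw [Nat.shiftRight_eq_div_pow]
      omega
    have hb' : b >>> 1 < 2 ^ n := by
      have : b < 2 * 2 ^ n := hb
      rw [Nat.shiftRight_eq_div_pow]
      omega
    obtain ⟨h2, h3⟩ := hm ha' hb'
    have h4 : (preV n r w R cs).mul c a b = (Pc.get 32 (vT n r w R) (2 ^ n * (a >>> 1) + b >>> 1) >>> r) * 2 +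
        (cnt r ((Pc.get 32 (vT n r w R) (2 ^ n * (a >>> 1) + b >>> 1) &&& c) % 2 ^ r) ^^^ (a ^^^ b)) % 2 := by
      have h5 : Nat.land (Nat.shiftRight (vT n r w R) (Nat.shiftLeft (Nat.add (Nat.shiftLeft (Nat.shiftRight a 1) n)
          (Nat.shiftRight b 1)) 5)) 4294967295 = Pc.get 32 (vT n r w R) (2 ^ n * (a >>> 1) + b >>> 1) := by
        rw [shl_eq, shl_eq, Nat.mul_comm _ (2 ^ n), Nat.mul_comm _ (2 ^ 5)]
        exact Nat.and_two_pow_sub_one_eq_mod _ 32
      show Nat.add (Nat.shiftLeft (Nat.shiftRight (Nat.land _ 4294967295) r) 1) (Nat.land (Nat.xor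
        (pop (Nat.land (Nat.land (Nat.land _ 4294967295) c) (msk r))) (Nat.xor a b)) 1) = _
      erw [h5]
      rw [land_msk, pop_eq (by omega) (Nat.mod_lt _ (Nat.two_pow_pos r)), shl_eq, nland, Nat.and_one_is_mod]
      rfl
    rw [h4]
    generalize Pc.get 32 (vT n r w R) (2 ^ n * (a >>> 1) + b >>> 1) = t at h2 h3 ⊢
    have h5 := Nat.mod_lt (cnt r ((t &&& c) % 2 ^ r) ^^^ (a ^^^ b)) (show 0 < 2 by norm_num)
    refine ⟨by show _ < 2 * 2 ^ n; omega, ?_⟩
    unfold e2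
    have h6 : (t >>> r * 2 + (cnt r ((t &&& c) % 2 ^ r) ^^^ (a ^^^ b)) % 2) >>> 1 = t >>> r := by
      rw [Nat.shiftRight_eq_div_pow _ 1]
      omega
    have h8 : (t >>> r * 2 + (cnt r ((t &&& c) % 2 ^ r) ^^^ (a ^^^ b)) % 2).testBit 0 =
        xor (par r (t &&& c)) (xor (a.testBit 0) (b.testBit 0)) := by
      rw [← Nat.testBit_xor, ← par_congr (a := (t &&& c) % 2 ^ r) r fun i hi => by
        rw [Nat.testBit_mod_two_pow, decide_eq_true hi, Bool.true_and], ← cnt_par, ← Nat.testBit_xor,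
        Nat.testBit_zero, Nat.testBit_zero]
      congr 1
      rw [Nat.mul_comm, Nat.mul_add_mod, Nat.mod_mod]
    rw [h6, h8, zp_xor h.z2, ← mul_assoc (el x n (t >>> r)), ← h3, zp_xor h.z2, mul_assoc,
      ← mul_assoc (zp z (a.testBit 0)), zpc]
    simp only [mul_assoc]
  · have ha' : a < 2 ^ n := ha
    have hb' : b < 2 ^ n := hb
    obtain ⟨h2, h3⟩ := hm ha' hb'
    obtain ⟨h4, h5⟩ := hm hb' ha'
    have h6 : (xorL (preV n r w R cs).E c r 0 &&& (preV n r w R cs).F2).testBit (2 ^ n * a + b) =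
        xor (par r (Pc.get 32 (vT n r w R) (2 ^ n * a + b) &&& c))
          (par r (Pc.get 32 (vT n r w R) (2 ^ n * b + a) &&& c)) := by
      have h7 : 2 ^ n * a + b < 2 ^ n * 2 ^ n := by rw [← Nat.pow_add]; exact addr_lt ha' hb'
      rw [← par_xor, ← Nat.and_xor_distrib_right, Nat.testBit_and,
        show (preV n r w R cs).F2 = 2 ^ (2 ^ n * 2 ^ n) - 1 from rfl, Nat.testBit_two_pow_sub_one, decide_eq_true h7,
        Bool.and_true]
      refine (testBit_xorL _ c _ _ r 0 fun i hi => ?_).trans (by rw [Nat.zero_testBit, Bool.false_xor])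
      show Nat.testBit (_ + _ <<< (2 ^ n * 2 ^ n)) _ = _
      rw [testBit_cat _ (plane_lt _ _ _), if_pos h7, hD (by omega) ha' hb']
    have h8 : (preV n r w R cs).NC0.testBit (2 ^ n * a + b) = true ↔
        Pc.get 32 (vT n r w R) (2 ^ n * a + b) >>> r ≠ Pc.get 32 (vT n r w R) (2 ^ n * b + a) >>> r := by
      refine (testBit_orPl _ _ _ _ _ n).trans ⟨fun ⟨i, hi, h9⟩ h10 => ?_, fun h9 => ?_⟩
      · rw [hD (by omega) ha' hb', Nat.testBit_xor, ← Nat.testBit_shiftRight, ← Nat.testBit_shiftRight, h10,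
          Bool.xor_self] at h9
        cases h9
      · by_contra h10
        refine h9 (eq_of_testBit_lt h2 h4 fun i hi => ?_)
        have h11 : ¬ _ := fun h11 => h10 ⟨i, hi, h11⟩
        rw [hD (by omega) ha' hb', Nat.testBit_xor, ← Nat.testBit_shiftRight, ← Nat.testBit_shiftRight] at h11
        revert h11
        cases (Pc.get 32 (vT n r w R) (2 ^ n * a + b) >>> r).testBit i <;>
          cases (Pc.get 32 (vT n r w R) (2 ^ n * b + a) >>> r).testBit i <;> simp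
    show Nat.testBit (_ ||| _) (2 ^ n * a + b) = true ↔ el x n a * el x n b ≠ el x n b * el x n a
    rw [Nat.testBit_or, Bool.or_eq_true, h6, h8, h3, h5]
    constructor
    · intro h9 h10
      obtain ⟨h11, h12⟩ := h.inj h2 h4 h10
      rcases h9 with h9 | h9
      · exact h9 h11
      · rw [h12, Bool.xor_self] at h9
        cases h9
    · intro h9
      by_contra h10
      rw [not_or, not_not] at h10
      refine h9 ?_
      rw [h10.1]
      congr 2
      have h11 := h10.2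
      revert h11
      cases par r (Pc.get 32 (vT n r w R) (2 ^ n * a + b) &&& c) <;>
        cases par r (Pc.get 32 (vT n r w R) (2 ^ n * b + a) &&& c) <;> simp
  · have hy' : 2 ^ n ≤ y := hy
    rw [hQ y 0 fun i _ => by rw [decide_eq_false (by omega), Bool.false_and, Nat.zero_testBit], Nat.zero_and, par_zero]
  · have hy' : y < 2 ^ n := hy
    rw [hQ y _ fun i hi => by rw [decide_eq_true hy', Bool.true_and, hPM (by omega) hy' hy']]
    exact (hm hy' hy').2
  · have hu' : u < 2 ^ n := hu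
    refine ((sqt_spec (n := n) (sq := fun y => Pc.get 32 (vT n r w R) (2 ^ n * y + y) >>> r) n (fun i hi y hy => ?_) _
      (Nat.sub_lt (Nat.two_pow_pos _) Nat.one_pos)).2 u hu' y).trans ?_
    · rw [(diags_spec _ _ _ _ n).2 i hi, testBit_diag, decide_eq_true hy, Bool.true_and, hPM (by omega) hy hy,
        Nat.testBit_shiftRight]
    · rw [Nat.testBit_two_pow_sub_one]
      show _ = (decide (y < 2 ^ n) && _)
      by_cases hy : y < 2 ^ n
      · rw [Nat.mod_eq_of_lt (hm hy hy).1]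
      · rw [decide_eq_false hy, Bool.false_and, Bool.false_and]
  · obtain ⟨d, -, rfl⟩ := List.mem_map.1 hd
    obtain ⟨u, -, rfl⟩ := List.mem_map.1 hu
    have hd' : d.1 < 2 ^ n := hd1
    have hu' : u < 2 ^ n := hu1
    obtain ⟨h2, h3⟩ := cjm_spec n (2 ^ (2 ^ n * 2 ^ n) - 1) (vPM n r w R) (vPT n r w R) r d.1 u
    refine ⟨h2, fun g hg => ?_⟩
    obtain ⟨h4, h5⟩ := h3 g hg
    obtain ⟨h6, h8⟩ := hm hd' h4
    obtain ⟨h9, h10⟩ := hm h4 hu'
    have h11 := eq_of_testBit_lt h6 h9 fun i hi => by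
      rw [Nat.testBit_shiftRight, Nat.testBit_shiftRight, ← hPM (by omega) hd' h4, h5 i hi, hPT (by omega) hu' h4]
    refine ⟨xor (par r (Pc.get 32 (vT n r w R) (2 ^ n * g + u) &&& c))
      (par r (Pc.get 32 (vT n r w R) (2 ^ n * d.1 + g) &&& c)), ?_⟩
    show el x n d.1 * el x n g = el x n g * el x n u * _
    rw [h8, h10, h11, mul_assoc, ← zp_xor h.z2, ← Bool.xor_assoc, Bool.xor_self, Bool.false_xor]

/-- **The precomputed data are correct.** -/
theorem pre_ok {z : G} {x : ℕ → G} {c r n w R : ℕ} (h : Ext z x c r n w R) (h1 : 1 ≤ n) (h7 : n ≤ 7) (hw : w ≤ 32)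
    (cs : List (ℕ × List ℕ)) (k : Pre → Bool) (hk : pre n r w R cs k = true) :
    ∃ p, k p = true ∧ p.n = n ∧ p.r = r ∧ ∃ sq NC Q I, (∀ {α : Type} (k2 : ℕ → ℕ → ℕ → α), p.conc c k2 = k2 NC Q I) ∧
      Ok p z (el x n) c NC Q I sq :=
  ⟨preV n r w R cs, (pre_eq n r w R cs k).symm.trans hk, rfl, rfl, _, _, _, _, fun k2 => conc_eq _ c k2,
    ok_preV h h1 h7 hw cs⟩

end Cfsg.Agent.FS.Sw
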