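import Cfsg.Agent.FS.Sw.Eng

/-!
# The filter on pairs: meaning of the masks (helper49, project FS)
-/

set_option autoImplicit false

namespace Cfsg.Agent.FS.Sw

open Cfsg.Agent.FS.Pc Finset

universe u

theorem ite'_true {α : Type} (x y : α) : ite' true x y = x := rfl
theorem ite'_false {α : Type} (x y : α) : ite' false x y = y := rfl
theorem band_eq (a b : Bool) : band a b = (a && b) := by cases a <;> rfl
theorem bor_eq (a b : Bool) : bor a b = (a || b) := by cases a <;> rfl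
theorem bnot_eq (a : Bool) : bnot a = !a := by cases a <;> rfl

theorem tb_eq (X i : ℕ) : tb X i = X.testBit i := by
  unfold tb
  rw [nland, nshr, Nat.and_one_is_mod, Nat.testBit_eq_decide_div_mod_eq, Nat.shiftRight_eq_div_pow]
  rcases Nat.mod_two_eq_zero_or_one (X / 2 ^ i) with h | h <;> rw [h] <;> rfl

theorem beq_iff (a b : ℕ) : Nat.beq a b = true ↔ a = b := ⟨Nat.eq_of_beq_eq_true, fun h => h ▸ Nat.beq_refl a⟩
theorem beq_false {a b : ℕ} (h : Nat.beq a b = false) : a ≠ b := Nat.ne_of_beq_eq_false h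
theorem blt_iff (a b : ℕ) : Nat.blt a b = true ↔ a < b := Iff.of_eq Nat.blt_eq
theorem ble_iff (a b : ℕ) : Nat.ble a b = true ↔ a ≤ b := Iff.of_eq Nat.ble_eq

theorem row_eq (n X x : ℕ) : row n (2 ^ 2 ^ n - 1) X x = Pc.get (2 ^ n) X x := by
  unfold row Pc.get
  rw [nland, Nat.and_two_pow_sub_one_eq_mod, shl_eq, Nat.mul_comm]
  rfl

theorem testBit_ctz {M : ℕ} (h0 : M ≠ 0) (h : M < 2 ^ 128) : M.testBit (ctz M) = true := by
  obtain ⟨k, m, hm, rfl⟩ := Nat.exists_eq_two_pow_mul_odd h0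
  obtain ⟨m, rfl⟩ := hm
  have h1 : 0 < 2 ^ k := Nat.two_pow_pos k
  have h2 : 2 ^ k * (2 * m + 1) = 2 ^ k + m <<< (k + 1) := by rw [Nat.shiftLeft_eq, Nat.pow_succ]; ring
  have h3 : 2 ^ k * (2 * m + 1) - 1 = (2 ^ k - 1) + m <<< (k + 1) := by rw [h2]; omega
  have h4 : 2 ^ k < 2 ^ (k + 1) := Nat.pow_lt_pow_right (by norm_num) (Nat.lt_succ_self k)
  have hk : k < 128 := by
    have : 2 ^ k < 2 ^ 128 := lt_of_le_of_lt (Nat.le_mul_of_pos_right _ (by omega)) h
    exact (Nat.pow_lt_pow_iff_right (by norm_num)).1 this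
  have h5 : Nat.shiftRight (Nat.xor (2 ^ k * (2 * m + 1)) (Nat.sub (2 ^ k * (2 * m + 1)) 1)) 1 = 2 ^ k - 1 := by
    refine Nat.eq_of_testBit_eq fun j => ?_
    rw [nshr, nxor, nsub, h3, h2, Nat.testBit_shiftRight, Nat.testBit_xor, testBit_cat _ h4,
      testBit_cat _ (by omega : 2 ^ k - 1 < 2 ^ (k + 1)), Nat.testBit_two_pow, Nat.testBit_two_pow_sub_one,
      Nat.testBit_two_pow_sub_one]
    by_cases a : 1 + j < k + 1
    · rw [if_pos a, if_pos a, decide_eq_true (by omega : j < k)]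
      by_cases b : k = 1 + j
      · rw [decide_eq_true b, decide_eq_false (by omega)]
        rfl
      · rw [decide_eq_false b, decide_eq_true (by omega)]
        rfl
    · rw [if_neg a, if_neg a, Bool.xor_self, decide_eq_false (by omega)]
  have h6 : cnt k (2 ^ k - 1) = k := by
    unfold cnt
    rw [filter_true_of_mem fun i hi => by rw [Nat.testBit_two_pow_sub_one, decide_eq_true (mem_range.1 hi)], card_range]
  unfold ctz
  rw [h5, pop_eq hk.le (by omega), h6, h2, testBit_cat _ h4, if_pos (Nat.lt_succ_self k), Nat.testBit_two_pow_self]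

theorem lt_of_testBit_true {X N i : ℕ} (h : X < 2 ^ N) (hi : X.testBit i = true) : i < N := by
  by_contra hc
  rw [Nat.testBit_lt_two_pow (h.trans_le (Nat.pow_le_pow_right (by norm_num) (not_lt.1 hc)))] at hi
  cases hi

theorem allL_spec {α : Type} {f : α → Bool} : ∀ {L : List α}, Pre.allL f L = true ↔ ∀ a ∈ L, f a = true
  | [] => ⟨fun _ _ h => (by cases h), fun _ => rfl⟩
  | a :: L => by
    have h : Pre.allL f (a :: L) = band (f a) (Pre.allL f L) := rfl
    rw [h, band_eq, Bool.and_eq_true, allL_spec (L := L), List.forall_mem_cons]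

theorem anyM_spec {f : ℕ → Bool} : ∀ (k M : ℕ), M < 2 ^ 128 → Pre.anyM f k M = true →
    ∃ t, M.testBit t = true ∧ f t = true
  | 0, _, _, h => by cases h
  | k + 1, M, hM, h => by
    have h1 : Pre.anyM f (k + 1) M = ite' (Nat.beq M 0) false
      (frc (ctz M) fun t => bor (f t) (frc (Nat.xor M (Nat.shiftLeft 1 t)) (Pre.anyM f k))) := rfl
    rw [h1, frc_eq, frc_eq, one_shl, nxor, bor_eq] at h
    cases h2 : Nat.beq M 0
    · rw [h2, ite'_false, Bool.or_eq_true] at h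
      have h3 := testBit_ctz (beq_false h2) hM
      rcases h with h | h
      · exact ⟨_, h3, h⟩
      · obtain ⟨t, h4, h5⟩ := anyM_spec k _
          (xor_lt hM (Nat.pow_lt_pow_right (by norm_num) (lt_of_testBit_true hM h3))) h
        refine ⟨t, ?_, h5⟩
        rw [Nat.testBit_xor, Nat.testBit_two_pow] at h4
        by_cases h6 : ctz M = t
        · rw [← h6, h3]
        · rwa [decide_eq_false h6, Bool.xor_false] at h4
    · rw [h2] at h
      cases h

theorem cntM_spec {f : ℕ → ℕ} {fin : ℕ → Bool} : ∀ (k M c : ℕ), Pre.cntM f fin k M c = true →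
    (∀ a, M.testBit (a / 2) = true → f a ≤ 1) ∧
      ∀ s : Finset ℕ, (∀ a ∈ s, M.testBit (a / 2) = true ∧ f a = 1) → ∃ c', c + s.card ≤ c' ∧ fin c' = true
  | 0, _, _, h => by cases h
  | k + 1, M, c, h => by
    have h1 : Pre.cntM f fin (k + 1) M c = ite' (Nat.beq M 0) (fin c)
      (frc (ctz M) fun x => frc (Nat.shiftLeft x 1) fun a => frc (f a) fun b => ite' (Nat.ble b 1)
      (frc (Nat.succ a) fun a' => frc (f a') fun b' => ite' (Nat.ble b' 1)
        (frc (Nat.xor M (Nat.shiftLeft 1 x)) fun M' => frc (Nat.add c (Nat.add b b')) (Pre.cntM f fin k M')) false)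
        false) := rfl
    simp only [h1, frc_eq, one_shl, nxor, shl_eq, nadd, Nat.pow_one, Nat.succ_eq_add_one] at h
    cases h2 : Nat.beq M 0
    · rw [h2, ite'_false] at h
      cases h3 : Nat.ble (f (ctz M * 2)) 1
      · rw [h3] at h
        cases h
      rw [h3, ite'_true] at h
      cases h4 : Nat.ble (f (ctz M * 2 + 1)) 1
      · rw [h4] at h
        cases h
      rw [h4, ite'_true] at h
      rw [ble_iff] at h3 h4
      obtain ⟨h5, h6⟩ := cntM_spec k _ _ h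
      have h7 : ∀ a, a / 2 ≠ ctz M → M.testBit (a / 2) = true → (M ^^^ 1 * 2 ^ ctz M).testBit (a / 2) = true :=
        fun a ha hb => by
          rw [Nat.one_mul, Nat.testBit_xor, Nat.testBit_two_pow, decide_eq_false (Ne.symm ha), hb]
          rfl
      refine ⟨fun a ha => ?_, fun s hs => ?_⟩
      · by_cases h8 : a / 2 = ctz M
        · have : a = ctz M * 2 ∨ a = ctz M * 2 + 1 := by omega
          rcases this with h9 | h9 <;> rw [h9] <;> assumption
        · exact h5 a (h7 a h8 ha)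
      · obtain ⟨c', h8, h9⟩ := h6 ((s.erase (ctz M * 2)).erase (ctz M * 2 + 1)) fun a ha => by
          rw [mem_erase, mem_erase] at ha
          exact ⟨h7 a (by omega) (hs a ha.2.2).1, (hs a ha.2.2).2⟩
        refine ⟨c', le_trans ?_ h8, h9⟩
        have b1 : s.card ≤ (s.erase (ctz M * 2)).card + f (ctz M * 2) := by
          by_cases b : ctz M * 2 ∈ s
          · rw [(hs _ b).2, card_erase_add_one b]
          · rw [erase_eq_of_notMem b]
            omega
        have b2 : (s.erase (ctz M * 2)).card ≤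
            ((s.erase (ctz M * 2)).erase (ctz M * 2 + 1)).card + f (ctz M * 2 + 1) := by
          by_cases b : ctz M * 2 + 1 ∈ s.erase (ctz M * 2)
          · rw [(hs _ (mem_of_mem_erase b)).2, card_erase_add_one b]
          · rw [erase_eq_of_notMem b]
            omega
        omega
    · rw [h2, ite'_true] at h
      rw [(beq_iff _ _).1 h2]
      refine ⟨fun a ha => ?_, fun s hs => ⟨c, ?_, h⟩⟩
      · rw [Nat.zero_testBit] at ha
        cases ha
      · have : s = ∅ := eq_empty_of_forall_notMem fun a ha => by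
          have := (hs a ha).1
          rw [Nat.zero_testBit] at this
          cases this
        rw [this, card_empty, Nat.add_zero]

theorem colM_spec {f : ℕ → Bool} {k : List ℕ → Bool} : ∀ (j M : ℕ) (L : List ℕ), Pre.colM f false k j M L = true →
    ∃ L', k L' = true ∧ (∀ a ∈ L, a ∈ L') ∧ ∀ a, M.testBit (a / 2) = true → f a = true → a ∈ L'
  | 0, _, _, h => by cases h
  | j + 1, M, L, h => by
    have h1 : Pre.colM f false k (j + 1) M L = ite' (Nat.beq M 0) (k L)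
      (frc (ctz M) fun x => frc (Nat.shiftLeft x 1) fun a => frc (Nat.succ a) fun a' =>
      frc (Nat.xor M (Nat.shiftLeft 1 x)) fun M' =>
      ite' (f a) (ite' (f a') (Pre.colM f false k j M' (a :: a' :: L)) (Pre.colM f false k j M' (a :: L)))
        (ite' (f a') (Pre.colM f false k j M' (a' :: L)) (Pre.colM f false k j M' L))) := rfl
    simp only [h1, frc_eq, one_shl, nxor, shl_eq, Nat.pow_one, Nat.succ_eq_add_one] at h
    cases h2 : Nat.beq M 0
    · rw [h2, ite'_false] at h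
      have key : ∀ L0 : List ℕ, (∀ a ∈ L, a ∈ L0) → (f (ctz M * 2) = true → ctz M * 2 ∈ L0) →
          (f (ctz M * 2 + 1) = true → ctz M * 2 + 1 ∈ L0) →
          Pre.colM f false k j (M ^^^ 1 * 2 ^ ctz M) L0 = true →
          ∃ L', k L' = true ∧ (∀ a ∈ L, a ∈ L') ∧ ∀ a, M.testBit (a / 2) = true → f a = true → a ∈ L' := by
        intro L0 a1 a2 a3 a4
        obtain ⟨L', b1, b2, b3⟩ := colM_spec j _ L0 a4
        refine ⟨L', b1, fun a ha => b2 a (a1 a ha), fun a ha hf => ?_⟩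
        by_cases h8 : a / 2 = ctz M
        · have : a = ctz M * 2 ∨ a = ctz M * 2 + 1 := by omega
          rcases this with h9 | h9
          · exact b2 a (h9 ▸ a2 (h9 ▸ hf))
          · exact b2 a (h9 ▸ a3 (h9 ▸ hf))
        · refine b3 a ?_ hf
          rw [Nat.one_mul, Nat.testBit_xor, Nat.testBit_two_pow, decide_eq_false (Ne.symm h8), ha]
          rfl
      cases h3 : f (ctz M * 2) <;> cases h4 : f (ctz M * 2 + 1) <;> rw [h3, h4] at h key
      · exact key L (fun _ h => h) (fun h => by cases h) (fun h => by cases h) h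
      · exact key _ (fun _ h => List.mem_cons_of_mem _ h) (fun h => by cases h) (fun _ => List.mem_cons_self) h
      · exact key _ (fun _ h => List.mem_cons_of_mem _ h) (fun _ => List.mem_cons_self) (fun h => by cases h) h
      · exact key _ (fun _ h => List.mem_cons_of_mem _ (List.mem_cons_of_mem _ h)) (fun _ => List.mem_cons_self)
          (fun _ => List.mem_cons_of_mem _ List.mem_cons_self) h
    · rw [h2, ite'_true] at h
      refine ⟨L, h, fun _ h => h, fun a ha => ?_⟩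
      rw [(beq_iff _ _).1 h2, Nat.zero_testBit] at ha
      cases ha

variable {G : Type u} [Group G]

/-- the element number `a = 2 u + e` -/
def e2 (z : G) (s : ℕ → G) (a : ℕ) : G := s (a >>> 1) * zp z (a.testBit 0)

/-- What is known about the data of a pair. -/
structure Ok (p : Pre) (z : G) (s : ℕ → G) (c NC Q I : ℕ) (sq : ℕ → ℕ) : Prop where
  n1 : 1 ≤ p.n
  n7 : p.n ≤ 7
  hN : p.N = 2 ^ p.n
  hF : p.F = 2 ^ 2 ^ p.n - 1
  hN1 : p.N1 = 2 ^ p.n + 1
  hF2 : p.F2 = 2 ^ (2 ^ p.n * 2 ^ p.n) - 1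
  hO : p.O = ones (2 ^ p.n) p.n
  hLm : p.Lm = (2 ^ (2 ^ p.n - 1) - 1) * ones (2 ^ p.n) p.n
  hO1 : p.O1 = ones (2 ^ p.n + 1) p.n
  hm1 : p.m1 = 2 ^ (2 ^ p.n + 1) - 1
  hm2 : p.m2 = 2 ^ 2 ^ p.n - 2
  z2 : z * z = 1
  zc : ∀ y, z * y = y * z
  span : ∀ y, ∃ a, a < 2 ^ p.n ∧ ∃ e, y = s a * zp z e
  inj : ∀ {a b : ℕ}, a < 2 ^ p.n → b < 2 ^ p.n → ∀ {e f : Bool}, s a * zp z e = s b * zp z f → a = b ∧ e = f
  s0 : s 0 = 1
  gen : ∀ y, (∀ k, k < p.n → s (2 ^ k) * y = y * s (2 ^ k)) → ∀ g, g * y = y * g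
  mul : ∀ a b, a < 2 * 2 ^ p.n → b < 2 * 2 ^ p.n →
    p.mul c a b < 2 * 2 ^ p.n ∧ e2 z s a * e2 z s b = e2 z s (p.mul c a b)
  nc : ∀ a b, a < 2 ^ p.n → b < 2 ^ p.n → (NC.testBit (2 ^ p.n * a + b) = true ↔ s a * s b ≠ s b * s a)
  qlt : Q < 2 ^ 2 ^ p.n
  sqlt : ∀ y, y < 2 ^ p.n → sq y < 2 ^ p.n
  q : ∀ y, y < 2 ^ p.n → s y * s y = s (sq y) * zp z (Q.testBit y)
  sqb : ∀ u, u < 2 ^ p.n → ∀ y, (Pc.get (2 ^ p.n + 1) p.SQ u).testBit y = (decide (y < 2 ^ p.n) && decide (sq y = u))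
  hI : I = p.sq 0 &&& (p.F ^^^ Q)
  cj : ∀ d ∈ p.C, ∀ u ∈ d.2, d.1 < 2 ^ p.n → u.1 < 2 ^ p.n → u.2 < 2 ^ 2 ^ p.n ∧
    ∀ g, u.2.testBit g = true → ∃ e, s d.1 * s g = s g * s u.1 * zp z e

/-- The mask `X` represents the set `S`. -/
def Rep (n : ℕ) (z : G) (s : ℕ → G) (X : ℕ) (S : Set G) : Prop :=
  X < 2 ^ 2 ^ n ∧ ∀ a, a < 2 ^ n → ∀ e, (X.testBit a = true ↔ s a * zp z e ∈ S)

theorem Rep.inter {n : ℕ} {z : G} {s : ℕ → G} {X Y : ℕ} {S T : Set G} (h1 : Rep n z s X S) (h2 : Rep n z s Y T) :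
    Rep n z s (X &&& Y) (S ∩ T) :=
  ⟨Nat.and_lt_two_pow _ h2.1, fun a ha e => by
    rw [Nat.testBit_and, Bool.and_eq_true, h1.2 a ha e, h2.2 a ha e, Set.mem_inter_iff]⟩

theorem Rep.compl {n : ℕ} {z : G} {s : ℕ → G} {X : ℕ} {S : Set G} (h1 : Rep n z s X S) :
    Rep n z s ((2 ^ 2 ^ n - 1) ^^^ X) Sᶜ :=
  ⟨xor_lt (Nat.sub_lt (Nat.two_pow_pos _) Nat.one_pos) h1.1, fun a ha e => by
    rw [Nat.testBit_xor, Nat.testBit_two_pow_sub_one, decide_eq_true ha, Set.mem_compl_iff, ← h1.2 a ha e]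
    cases X.testBit a <;> simp⟩

theorem Rep.congr {n : ℕ} {z : G} {s : ℕ → G} {X : ℕ} {S T : Set G} (h1 : Rep n z s X S) (h : ∀ y, y ∈ S ↔ y ∈ T) :
    Rep n z s X T := (Set.ext h : S = T) ▸ h1

theorem rep_univ (n : ℕ) (z : G) (s : ℕ → G) : Rep n z s (2 ^ 2 ^ n - 1) Set.univ :=
  ⟨Nat.sub_lt (Nat.two_pow_pos _) Nat.one_pos, fun a ha e => by
    rw [Nat.testBit_two_pow_sub_one, decide_eq_true ha]
    simp⟩

theorem card_cnt (N X : ℕ) : Nat.card {i : Fin N // X.testBit i = true} = cnt N X := by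
  unfold cnt
  rw [Nat.card_eq_fintype_card, Fintype.card_subtype, ← card_map Fin.valEmbedding]
  congr 1
  ext i
  simp only [mem_map, mem_filter, mem_univ, true_and, Fin.valEmbedding_apply, mem_range]
  exact ⟨fun ⟨j, h1, h2⟩ => h2 ▸ ⟨j.2, h1⟩, fun h => ⟨⟨i, h.1⟩, h.2, rfl⟩⟩

namespace Ok

variable {p : Pre} {z : G} {s : ℕ → G} {c NC Q I : ℕ} {sq : ℕ → ℕ}

theorem N_le (h : Ok p z s c NC Q I sq) : 2 ^ p.n ≤ 128 := Nat.pow_le_pow_right (by norm_num) h.n7

theorem two_le (h : Ok p z s c NC Q I sq) : 2 ≤ 2 ^ p.n := Nat.le_self_pow (by have := h.n1; omega) 2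

theorem lt128 (h : Ok p z s c NC Q I sq) {X : ℕ} (hX : X < 2 ^ 2 ^ p.n) : X < 2 ^ 128 :=
  hX.trans_le (Nat.pow_le_pow_right (by norm_num) h.N_le)

theorem zp_comm (h : Ok p z s c NC Q I sq) (e : Bool) (y : G) : zp z e * y = y * zp z e := by
  cases e
  · exact (one_mul y).trans (mul_one y).symm
  · exact h.zc y

theorem zp_sq (h : Ok p z s c NC Q I sq) (e : Bool) : zp z e * zp z e = 1 := by
  cases e
  · exact one_mul _
  · exact h.z2

theorem mul_zp (h : Ok p z s c NC Q I sq) (a b : G) (e f : Bool) :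
    a * zp z e * (b * zp z f) = a * b * zp z (xor e f) := by
  rw [zp_xor h.z2, mul_assoc, ← mul_assoc (zp z e), h.zp_comm e b]
  simp only [mul_assoc]

theorem sq_zp (h : Ok p z s c NC Q I sq) (a : G) (e : Bool) : a * zp z e * (a * zp z e) = a * a := by
  rw [h.mul_zp, Bool.xor_self]
  exact mul_one _

theorem comm_zp (h : Ok p z s c NC Q I sq) (a b : G) (e f : Bool) :
    a * zp z e * (b * zp z f) = b * zp z f * (a * zp z e) ↔ a * b = b * a := by
  rw [h.mul_zp, h.mul_zp, Bool.xor_comm, mul_left_inj]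

theorem comm_zp' (h : Ok p z s c NC Q I sq) (a b : G) (f : Bool) :
    a * (b * zp z f) = b * zp z f * a ↔ a * b = b * a := by
  have := h.comm_zp a b false f
  rwa [show zp z false = 1 from rfl, mul_one] at this

theorem finite (h : Ok p z s c NC Q I sq) : Finite G :=
  Finite.of_surjective (fun x : Fin (2 ^ p.n) × Bool => s x.1 * zp z x.2) fun y => by
    obtain ⟨a, ha, e, h1⟩ := h.span y
    exact ⟨(⟨a, ha⟩, e), h1.symm⟩

theorem span2 (h : Ok p z s c NC Q I sq) (y : G) : ∃ a, a < 2 * 2 ^ p.n ∧ y = e2 z s a := by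
  obtain ⟨a, ha, e, h1⟩ := h.span y
  refine ⟨2 * a + e.toNat, by cases e <;> simp <;> omega, ?_⟩
  unfold e2
  rw [h1, Nat.shiftRight_eq_div_pow, Nat.testBit_zero]
  cases e
  · simp
  · have h2 : (2 * a + 1) / 2 = a := by omega
    have h3 : (2 * a + 1) % 2 = 1 := by omega
    simp [h2, h3]

theorem half_lt (_h : Ok p z s c NC Q I sq) {a : ℕ} (ha : a < 2 * 2 ^ p.n) : a >>> 1 < 2 ^ p.n := by
  rw [Nat.shiftRight_eq_div_pow]
  omega

theorem e2_inj (h : Ok p z s c NC Q I sq) {a b : ℕ} (ha : a < 2 * 2 ^ p.n) (hb : b < 2 * 2 ^ p.n)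
    (he : e2 z s a = e2 z s b) : a = b := by
  obtain ⟨h1, h2⟩ := h.inj (h.half_lt ha) (h.half_lt hb) he
  rw [Nat.shiftRight_eq_div_pow, Nat.shiftRight_eq_div_pow] at h1
  rw [Nat.testBit_zero, Nat.testBit_zero, decide_eq_decide] at h2
  omega

theorem card_le (h : Ok p z s c NC Q I sq) {X : ℕ} {S : Set G}
    (hX : ∀ a, a < 2 ^ p.n → X.testBit a = true → ∀ e, s a * zp z e ∈ S) : 2 * cnt (2 ^ p.n) X ≤ Nat.card S := by
  have := h.finite
  let φ : {i : Fin (2 ^ p.n) // X.testBit i = true} × Bool → S := fun x => ⟨s x.1.1 * zp z x.2, hX _ x.1.1.2 x.1.2 _⟩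
  have h1 : Function.Injective φ := fun x y hxy => by
    obtain ⟨h2, h3⟩ := h.inj x.1.1.2 y.1.1.2 (congrArg Subtype.val hxy)
    exact Prod.ext (Subtype.ext (Fin.ext h2)) h3
  have h2 := Nat.card_le_card_of_injective φ h1
  rwa [Nat.card_prod, card_cnt, Nat.card_eq_fintype_card, Fintype.card_bool, Nat.mul_comm] at h2

theorem card_eq (h : Ok p z s c NC Q I sq) {X : ℕ} {S : Set G} (hX : Rep p.n z s X S) :
    Nat.card S = 2 * pop X := by
  let φ : {i : Fin (2 ^ p.n) // X.testBit i = true} × Bool → S :=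
    fun x => ⟨s x.1.1 * zp z x.2, (hX.2 _ x.1.1.2 _).1 x.1.2⟩
  have h1 : Function.Bijective φ := ⟨fun x y hxy => by
    obtain ⟨h2, h3⟩ := h.inj x.1.1.2 y.1.1.2 (congrArg Subtype.val hxy)
    exact Prod.ext (Subtype.ext (Fin.ext h2)) h3, fun y => by
    obtain ⟨a, ha, e, h2⟩ := h.span y
    exact ⟨(⟨⟨a, ha⟩, (hX.2 a ha e).2 (h2 ▸ y.2)⟩, e), Subtype.ext h2.symm⟩⟩
  rw [← Nat.card_eq_of_bijective φ h1, Nat.card_prod, card_cnt, Nat.card_eq_fintype_card, Fintype.card_bool,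
    Nat.mul_comm, pop_eq h.N_le hX.1]

theorem testBit_sq (h : Ok p z s c NC Q I sq) {u : ℕ} (hu : u < 2 ^ p.n) (y : ℕ) :
    (p.sq u).testBit y = (decide (y < 2 ^ p.n) && decide (sq y = u)) := by
  have h1 := h.sqb u hu y
  unfold Pre.sq
  rw [h.hF, h.hN1, nland, nshr, nmul, Nat.testBit_and, Nat.testBit_two_pow_sub_one, Nat.testBit_shiftRight]
  rw [testBit_get] at h1
  by_cases hy : y < 2 ^ p.n
  · rw [decide_eq_true (by omega : y < 2 ^ p.n + 1), Bool.true_and] at h1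
    rw [h1, decide_eq_true hy, Bool.and_true]
  · simp [hy]

theorem sq_lt (h : Ok p z s c NC Q I sq) (u : ℕ) : p.sq u < 2 ^ 2 ^ p.n := by
  unfold Pre.sq
  rw [h.hF]
  exact Nat.and_lt_two_pow _ (Nat.sub_lt (Nat.two_pow_pos _) Nat.one_pos)

theorem rep_rt (h : Ok p z s c NC Q I sq) {a : ℕ} (ha : a < 2 * 2 ^ p.n) :
    Rep p.n z s (p.rt Q a) {y | y * y = e2 z s a} := by
  refine ⟨Nat.lt_of_le_of_lt Nat.and_le_left (h.sq_lt _), fun y hy e => ?_⟩
  unfold Pre.rt e2
  rw [Set.mem_ofPred_eq, h.sq_zp, h.q y hy, nland, nshr, Nat.testBit_and, h.testBit_sq (h.half_lt ha), tb_eq,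
    decide_eq_true hy, Bool.true_and, Bool.and_eq_true, decide_eq_true_iff]
  have h1 : (ite' (a.testBit 0) Q (Nat.xor p.F Q)).testBit y = true ↔ Q.testBit y = a.testBit 0 := by
    cases a.testBit 0
    · rw [ite'_false, nxor, h.hF, Nat.testBit_xor, Nat.testBit_two_pow_sub_one, decide_eq_true hy]
      cases Q.testBit y <;> simp
    · rw [ite'_true]
  rw [h1]
  exact ⟨fun ⟨h2, h3⟩ => by rw [h2, h3], fun h2 => h.inj (h.sqlt y hy) (h.half_lt ha) h2⟩

theorem rep_I (h : Ok p z s c NC Q I sq) : Rep p.n z s I {y | y * y = 1} := by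
  have h1 := h.rep_rt (a := 0) (by have := h.two_le; omega)
  have h2 : e2 z s 0 = 1 := by
    unfold e2
    rw [Nat.zero_shiftRight, h.s0, Nat.zero_testBit]
    exact mul_one _
  rw [h2] at h1
  rw [h.hI]
  exact h1

theorem rep_row (h : Ok p z s c NC Q I sq) {a : ℕ} (ha : a < 2 ^ p.n) :
    Rep p.n z s (row p.n p.F NC a) {y | s a * y ≠ y * s a} := by
  rw [h.hF, row_eq]
  refine ⟨get_lt _ _ _, fun y hy e => ?_⟩
  rw [← testBit_of_get hy, h.nc a y ha hy, Set.mem_ofPred_eq, Ne, Ne, h.comm_zp']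

theorem testBit_sqin (h : Ok p z s c NC Q I sq) {X : ℕ} (hX : X < 2 ^ 2 ^ p.n) :
    p.sqin X < 2 ^ 2 ^ p.n ∧ ∀ t, t < 2 ^ p.n → (p.sqin X).testBit t = X.testBit (sq t) := by
  have hF : 2 ^ 2 ^ p.n - 1 < 2 ^ (2 ^ p.n + 1) := by rw [Nat.pow_succ]; have := Nat.two_pow_pos (2 ^ p.n); omega
  let Y := X * ones (2 ^ p.n) p.n &&& ones (2 ^ p.n + 1) p.n
  have hY : Y < 2 ^ ((2 ^ p.n + 1) * 2 ^ p.n) := land_ones_lt (Nat.succ_pos _) _
  have hY1 : ∀ j, Pc.get (2 ^ p.n + 1) Y j ≤ 1 := fun j => by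
    by_cases hj : j < 2 ^ p.n
    · rw [get_spr hX hj]
      cases X.testBit j <;> simp
    · rw [get_eq_zero_of_lt hY (not_lt.1 hj)]
      exact Nat.zero_le _
  let r : ℕ → ℕ := fun u => if u < 2 ^ p.n then (bif X.testBit u then p.sq u else 0) else 0
  have hr : ∀ u, u < 2 ^ p.n → Pc.get (2 ^ p.n + 1) (Y * (2 ^ 2 ^ p.n - 1) &&& p.SQ) u = r u := fun u hu => by
    rw [get_land, get_mul_const hF _ _ hY hY1, get_spr hX hu]
    show _ = if u < 2 ^ p.n then _ else _
    rw [if_pos hu]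
    cases X.testBit u
    · simp
    · refine Nat.eq_of_testBit_eq fun y => ?_
      rw [cond_true, cond_true, Nat.one_mul, Nat.testBit_and, h.sqb u hu, h.testBit_sq hu, Nat.testBit_two_pow_sub_one]
      cases decide (y < 2 ^ p.n) <;> rfl
  have hlt : Y * (2 ^ 2 ^ p.n - 1) &&& p.SQ < 2 ^ ((2 ^ p.n + 1) * 2 ^ p.n) := by
    refine lt_of_testBit fun i hi => ?_
    rw [Nat.testBit_and, testBit_eq_get (Nat.succ_pos (2 ^ p.n)), get_mul_const hF _ _ hY hY1,
      get_eq_zero_of_lt hY ((Nat.le_div_iff_mul_le (Nat.succ_pos _)).2 (by rwa [Nat.mul_comm])), Nat.zero_mul,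
      Nat.zero_testBit, Bool.false_and]
  have h1 := modEq_sum (w := 2 ^ p.n + 1) (c := 1) Nat.one_le_two_pow _ _ hlt
  rw [sum_congr rfl fun i hi => by rw [hr i (mem_range.1 hi), one_pow, Nat.mul_one]] at h1
  obtain ⟨h2, h3⟩ := sum_disjoint (N := 2 ^ p.n) r sq (fun u => by
      show (if u < 2 ^ p.n then _ else _) < _
      split_ifs
      · cases X.testBit u
        · exact Nat.two_pow_pos _
        · exact h.sq_lt u
      · exact Nat.two_pow_pos _) (fun u t ht => by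
      by_cases hu : u < 2 ^ p.n
      · have : r u = bif X.testBit u then p.sq u else 0 := if_pos hu
        rw [this] at ht
        cases hb : X.testBit u
        · rw [hb, cond_false, Nat.zero_testBit] at ht
          cases ht
        · rw [hb, cond_true, h.testBit_sq hu, Bool.and_eq_true, decide_eq_true_iff, decide_eq_true_iff] at ht
          exact ht.2
      · have : r u = 0 := if_neg hu
        rw [this, Nat.zero_testBit] at ht
        cases ht) (2 ^ p.n)
  have h4 : p.sqin X = ∑ i ∈ range (2 ^ p.n), r i := by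
    unfold Pre.sqin
    rw [h.hO, h.hO1, h.hF, h.hm1, ← Nat.mod_eq_of_lt (a := ∑ i ∈ range (2 ^ p.n), r i) (b := 2 ^ (2 ^ p.n + 1) - 1)
      (by rw [Nat.pow_succ]; omega)]
    exact h1
  rw [h4]
  refine ⟨h2, fun t ht => ?_⟩
  have h5 := h.sqlt t ht
  have h6 : r (sq t) = bif X.testBit (sq t) then p.sq (sq t) else 0 := if_pos h5
  rw [h3, h6, decide_eq_true h5, Bool.true_and]
  cases X.testBit (sq t)
  · exact Nat.zero_testBit _
  · rw [cond_true, h.testBit_sq h5, decide_eq_true ht, decide_eq_true rfl]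
    rfl

theorem rep_sqin (h : Ok p z s c NC Q I sq) {X : ℕ} {S : Set G} (hX : Rep p.n z s X S) :
    Rep p.n z s (p.sqin X) {y | y * y ∈ S} := by
  obtain ⟨h1, h2⟩ := h.testBit_sqin hX.1
  refine ⟨h1, fun t ht e => ?_⟩
  rw [h2 t ht, Set.mem_ofPred_eq, h.sq_zp, h.q t ht]
  exact hX.2 _ (h.sqlt t ht) _

theorem rep_nz (h : Ok p z s c NC Q I sq) {X : ℕ} {S : Set G} (hX : Rep p.n z s X S) {v : ℕ} (hv0 : 0 < v)
    (hv : v < 2 ^ p.n) (hvS : ∀ y ∈ S, y * s v = s v * y) :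
    Rep p.n z s (p.nz NC X) {y | ∃ x ∈ S, x * y ≠ y * x} := by
  have h2 := h.two_le
  obtain ⟨k, hk⟩ : ∃ k, 2 ^ p.n = k + 1 := ⟨2 ^ p.n - 1, by omega⟩
  let f : ℕ → Bool := fun i => decide (Pc.get (2 ^ p.n) (X * ones (2 ^ p.n) p.n &&& NC) i ≠ 0)
  have hf : ∀ i, i < 2 ^ p.n → ∀ e, (f i = true ↔ ∃ x ∈ S, x * (s i * zp z e) ≠ s i * zp z e * x) := fun i hi e => by
    show decide _ = true ↔ _
    rw [decide_eq_true_iff, get_land, get_mul_ones hX.1 _ hi]
    constructor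
    · intro h3
      obtain ⟨j, hj⟩ := Nat.exists_testBit_of_ne_zero h3
      rw [Nat.testBit_and, Bool.and_eq_true] at hj
      have h4 := lt_of_testBit_true hX.1 hj.1
      refine ⟨s j * zp z false, (hX.2 j h4 false).1 hj.1, fun h5 => ?_⟩
      have h6 := hj.2
      rw [← testBit_of_get h4, h.nc i j hi h4] at h6
      exact h6 ((h.comm_zp _ _ _ _).1 h5).symm
    · rintro ⟨x, hx, h3⟩ h4
      obtain ⟨j, hj, e', rfl⟩ := h.span x
      have h5 := congrArg (fun y => Nat.testBit y j) h4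
      simp only [Nat.testBit_and, Nat.zero_testBit] at h5
      rw [(hX.2 j hj e').2 hx, ← testBit_of_get hj,
        (h.nc i j hi hj).2 fun h6 => h3 ((h.comm_zp _ _ _ _).2 h6.symm)] at h5
      cases h5
  have h3 : ∀ j, (p.nz NC X).testBit j = (decide (j < 2 ^ p.n) && f j) := by
    unfold Pre.nz
    rw [h.hN, h.hO, h.hLm, h.hm2, nmod, nland, nmul]
    refine testBit_cmp (by omega) ?_ (fun i hi => ?_) fun D hD h4 => lt_sub_two_of_bits hD ?_ ?_ hv0 hv
    · have := rnz_lt k p.n ((2 ^ k - 1) * ones (k + 1) p.n) (X * ones (k + 1) p.n &&& NC)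
      rw [hk] at this ⊢
      exact this
    · have := get_rnz (s := k) (k := p.n) (X := X * ones (k + 1) p.n &&& NC) hi
      show _ = bif decide _ then _ else _
      rw [hk]
      exact this
    · rw [h4]
      cases h5 : f 0
      · exact Bool.and_false _
      · obtain ⟨x, -, h6⟩ := (hf 0 (by omega) false).1 h5
        rw [h.s0] at h6
        exact absurd ((h.comm_zp' _ _ _).2 ((mul_one x).trans (one_mul x).symm)) h6
    · rw [h4]
      cases h5 : f v
      · exact Bool.and_false _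
      · obtain ⟨x, hx, h6⟩ := (hf v hv false).1 h5
        exact absurd ((h.comm_zp' _ _ _).2 (hvS x hx)) h6
  refine ⟨lt_of_testBit fun i hi => by rw [h3, decide_eq_false (by omega), Bool.false_and], fun a ha e => ?_⟩
  rw [h3, decide_eq_true ha, Bool.true_and, hf a ha e]
  rfl

theorem rep_cen (h : Ok p z s c NC Q I sq) : Rep p.n z s (p.cen NC I) {y | y * y = 1 ∧ ∀ g, g * y = y * g} := by
  have h1 : ∀ k, k ≤ p.n → Rep p.n z s (Nat.rec (motive := fun _ => ℕ) 0
      (fun k A => Nat.lor A (row p.n p.F NC (Nat.shiftLeft 1 k))) k) {y | ∃ j, j < k ∧ s (2 ^ j) * y ≠ y * s (2 ^ j)} := by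
    intro k
    induction k with
    | zero => exact fun _ => ⟨Nat.two_pow_pos _, fun a _ e => by simp⟩
    | succ k ih =>
      intro hk
      obtain ⟨a1, a2⟩ := ih (by omega)
      obtain ⟨b1, b2⟩ := h.rep_row (a := 2 ^ k) (Nat.pow_lt_pow_right (by norm_num) hk)
      refine ⟨Nat.or_lt_two_pow a1 (by rwa [one_shl]), fun a ha e => ?_⟩
      show Nat.testBit (_ ||| _) a = true ↔ _
      rw [Nat.testBit_or, Bool.or_eq_true, a2 a ha e, one_shl, b2 a ha e]
      constructor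
      · rintro (⟨j, hj, h2⟩ | h2)
        · exact ⟨j, by omega, h2⟩
        · exact ⟨k, by omega, h2⟩
      · rintro ⟨j, hj, h2⟩
        rcases Nat.lt_succ_iff_lt_or_eq.1 hj with h3 | h3
        · exact Or.inl ⟨j, h3, h2⟩
        · exact Or.inr (h3 ▸ h2)
  have h2 := h.rep_I.inter (h1 p.n le_rfl).compl
  unfold Pre.cen
  rw [h.hF] at h2 ⊢
  refine h2.congr fun y => and_congr_right fun _ => ⟨fun h3 => h.gen y fun k hk => ?_, fun h3 ⟨j, _, h4⟩ => h4 (h3 _)⟩
  by_contra h4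
  exact h3 ⟨k, hk, h4⟩

end Ok

end Cfsg.Agent.FS.Sw
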