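import Cfsg.Agent.FS.Sw.Cls
import Cfsg.Agent.FS.Sw.Pre

/-!
# The filter on pairs: soundness (helper49, project FS)
-/

set_option autoImplicit false

namespace Cfsg.Agent.FS.Sw

open Cfsg Cfsg.FusionSystem Cfsg.Agent.FS.Pc Cfsg.Agent.FS.Th Finset

universe u

variable {G : Type u} [Group G]

theorem cov_in {j : ℕ} : ∀ (U : List (ℕ × ℕ)) (A : ℕ), (List.rec (motive := fun _ => ℕ) A
    (fun u _ B => Nat.lor B (Nat.shiftLeft 1 u.1)) U).testBit j = true → A.testBit j = true ∨ ∃ u ∈ U, u.1 = j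
  | [], _, h => Or.inl h
  | u :: U, A, h => by
    have h1 : Nat.testBit (Nat.lor (List.rec (motive := fun _ => ℕ) A
      (fun u _ B => Nat.lor B (Nat.shiftLeft 1 u.1)) U) (Nat.shiftLeft 1 u.1)) j = true := h
    rw [nlor, one_shl, Nat.testBit_or, Bool.or_eq_true, Nat.testBit_two_pow, decide_eq_true_iff] at h1
    rcases h1 with h1 | h1
    · exact (cov_in U A h1).imp_right fun ⟨v, a1, a2⟩ => ⟨v, List.mem_cons_of_mem _ a1, a2⟩
    · exact Or.inr ⟨u, List.mem_cons_self, h1⟩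

theorem cov_out {j : ℕ} : ∀ (C : List (ℕ × List (ℕ × ℕ))), (List.rec (motive := fun _ => ℕ) 1
    (fun d _ A => List.rec (motive := fun _ => ℕ) A (fun u _ B => Nat.lor B (Nat.shiftLeft 1 u.1)) d.2) C).testBit j =
      true → j = 0 ∨ ∃ d ∈ C, ∃ u ∈ d.2, u.1 = j
  | [], h => Or.inl (by
      have h1 : Nat.testBit 1 j = true := h
      rwa [testBit_one', decide_eq_true_iff] at h1)
  | d :: C, h => by
    rcases cov_in d.2 _ h with h1 | h1
    · exact (cov_out C h1).imp_right fun ⟨v, a1, a2⟩ => ⟨v, List.mem_cons_of_mem _ a1, a2⟩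
    · exact Or.inr ⟨d, List.mem_cons_self, h1⟩

theorem cover_spec {p : Pre} (h : p.cover = true) :
    (∀ d ∈ p.C, d.1 < p.N ∧ 0 < d.1 ∧ ∀ u ∈ d.2, u.1 < p.N ∧ 0 < u.2) ∧
      ∀ j, (p.sq 0).testBit j = true → j = 0 ∨ ∃ d ∈ p.C, ∃ u ∈ d.2, u.1 = j := by
  unfold Pre.cover at h
  rw [band_eq, Bool.and_eq_true, frc_eq, allL_spec, beq_iff] at h
  refine ⟨fun d hd => ?_, fun j hj => cov_out _ ?_⟩
  · have h1 := h.1 d hd
    rw [band_eq, band_eq, Bool.and_eq_true, Bool.and_eq_true, blt_iff, blt_iff, allL_spec] at h1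
    refine ⟨h1.1, h1.2.1, fun u hu => ?_⟩
    have h2 := h1.2.2 u hu
    rwa [band_eq, Bool.and_eq_true, blt_iff, blt_iff] at h2
  · rw [← h.2, nland, Nat.testBit_and, Bool.and_eq_true] at hj
    exact hj.2

theorem short_spec : ∀ {L : List ℕ}, Pre.short L = true → ∃ a b, ∀ x ∈ L, x = a ∨ x = b
  | [], _ => ⟨0, 0, fun _ h => by cases h⟩
  | [a], _ => ⟨a, a, fun _ h => Or.inl (List.mem_singleton.1 h)⟩
  | [a, b], _ => ⟨a, b, fun _ h => by simpa using h⟩
  | _ :: _ :: _ :: _, h => by cases h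

namespace Ok

variable {p : Pre} {z : G} {s : ℕ → G} {c NC Q I : ℕ} {sq : ℕ → ℕ}

theorem all_false (h : Ok p z s c NC Q I sq) (hcov : p.cover = true) {P : Subgroup G} {w : ℕ} (hw : w < 2 * 2 ^ p.n)
    (hw2 : e2 z s w * e2 z s w = 1) (hwc : ∀ g, g * e2 z s w = e2 z s w * g) (hL : LocZ (e2 z s w) P ⊥) (lev : Bool)
    (hc : Pre.allL (p.cls lev c NC Q I w) p.C = true) : False := by
  have := h.finite
  obtain ⟨c1, c2⟩ := cover_spec hcov
  obtain ⟨t, -, htP, -, α, hα⟩ := hL.exists_shape hwc hw2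
  have hv : fn α (e2 z s w) * fn α (e2 z s w) = 1 := by rw [← fn_map_mul α hα.zP hα.zP, hw2, fn_map_one]
  have hcen := hα.cen
  obtain ⟨a, ha, e, h1⟩ := h.span (fn α (e2 z s w))
  rw [h1] at hv hcen
  rw [h.sq_zp] at hv
  have h2 : (p.sq 0).testBit a = true := by
    have h3 := h.q a ha
    have h4 : s 0 * zp z false = s (sq a) * zp z (Q.testBit a) := by
      rw [← h3, hv, h.s0]
      exact mul_one _
    rw [h.testBit_sq (Nat.two_pow_pos _), decide_eq_true ha, ← (h.inj (Nat.two_pow_pos _) (h.sqlt _ ha) h4).1]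
    rfl
  rcases c2 a h2 with rfl | ⟨d, hd, u, hu, rfl⟩
  · refine htP ((hcen t).1 ?_)
    rw [h.s0, one_mul, h.zp_comm]
  obtain ⟨d1, d2, d3⟩ := c1 d hd
  rw [h.hN] at d1 d3
  obtain ⟨g, hg⟩ := Nat.exists_testBit_of_ne_zero (d3 u hu).2.ne'
  obtain ⟨f, h3⟩ := (h.cj d hd u hu d1 ha).2 g hg
  have h4 : s d.1 = s g * (s u.1 * zp z f) * (s g)⁻¹ := by rw [← mul_assoc, ← h3, mul_inv_cancel_right]
  have h5 := locZ_equiv hL hwc (MulAut.conj (s g))
  rw [MulAut.conj_apply, hwc, mul_inv_cancel_right] at h5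
  refine h.cls_false hw hw2 hwc h5 hd d2 d1 (fun v hv => (d3 v hv).1) (fun y => ?_) ?_ lev (allL_spec.1 hc d hd)
  · rw [Subgroup.mem_map_equiv, MulAut.conj_symm_apply, ← hcen, h.comm_zp', ← h.comm_zp' _ _ f, h4]
    constructor
    · intro h6
      calc _ = s g * (s u.1 * zp z f * ((s g)⁻¹ * y * s g)) * (s g)⁻¹ := by group
        _ = _ := by rw [← h6]; group
    · intro h6
      calc _ = (s g)⁻¹ * (y * (s g * (s u.1 * zp z f) * (s g)⁻¹)) * s g := by group
        _ = _ := by rw [← h6]; group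
  · calc _ = s g * (s u.1 * zp z f * (s u.1 * zp z f)) * (s g)⁻¹ := by rw [h4]; group
      _ = 1 := by rw [h.sq_zp, hv]; group

theorem e2_zero (h : Ok p z s c NC Q I sq) : e2 z s 0 = 1 := by
  rw [← h.s0]
  exact h.e2_double 0

theorem e2_one (h : Ok p z s c NC Q I sq) : e2 z s 1 = z := by
  show s 0 * z = z
  rw [h.s0, one_mul]

theorem s1_false (h : Ok p z s c NC Q I sq) (hcov : p.cover = true) {P : Subgroup G} (hL : LocZ z P ⊥)
    (hc : Pre.allL (p.cls false c NC Q I 1) p.C = true) : False :=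
  h.all_false hcov (w := 1) (by have := h.two_le; omega) (by rw [h.e2_one, h.z2]) (fun g => by rw [h.e2_one, h.zc])
    (by rwa [h.e2_one]) false hc

theorem s2_false (h : Ok p z s c NC Q I sq) (hcov : p.cover = true) {F : FusionSystem (⊤ : Subgroup G)} (hF : Hyp F)
    (hG : IsPGroup 2 G) {w : ℕ} (h0 : 0 < w) (hw : (p.cen NC I).testBit (w >>> 1) = true)
    (hc : Pre.colM (fun a => band (Nat.blt 0 a) (p.same true NC Q p.F a w)) false
      (fun L => ite' (Pre.short L) (Pre.allL (p.cls true c NC Q I w) p.C)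
        (Pre.allL (fun a => Pre.allL (p.cls true c NC Q I a) p.C) L)) p.N1 (p.cen NC I) [] = true) : False := by
  have := h.finite
  have hW := h.rep_cen
  rw [Nat.shiftRight_eq_div_pow, Nat.pow_one] at hw
  have hw' : w < 2 * 2 ^ p.n := by
    have := lt_of_testBit_true hW.1 hw
    omega
  obtain ⟨w2, wc⟩ := (h.rep_e2 hW hw').1 hw
  have w1 : e2 z s w ≠ 1 := fun h1 => h0.ne' (h.e2_inj hw' (by omega) (h1.trans h.e2_zero.symm))
  obtain ⟨L, a1, -, a2⟩ := colM_spec _ _ _ hc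
  have hT : Rep p.n z s p.F ((⊤ : Subgroup G) : Set G) := by
    rw [h.hF]
    exact rep_univ _ _ _
  let X : Set G := {y | ∃ θ : MulAut G, θ (e2 z s w) = y}
  have hX2 : ∀ y ∈ X, y * y = 1 := by
    rintro _ ⟨θ, rfl⟩
    rw [← map_mul, w2, map_one]
  have hXc : ∀ y ∈ X, ∀ g, g * y = y * g := by
    rintro _ ⟨θ, rfl⟩ g
    rw [← θ.apply_symm_apply g, ← map_mul, wc, map_mul]
  have hXi : ∀ θ : MulAut G, ∀ y ∈ X, θ y ∈ X := by
    rintro θ _ ⟨η, rfl⟩
    exact ⟨θ * η, rfl⟩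
  have hXL : ∀ y ∈ X, ∃ a ∈ L, a < 2 * 2 ^ p.n ∧ y = e2 z s a := fun y hy => by
    obtain ⟨a, ha, h1⟩ := h.span2 y
    refine ⟨a, a2 a ((h.rep_e2 hW ha).2 (h1 ▸ ⟨hX2 y hy, hXc y hy⟩)) ?_, ha, h1⟩
    obtain ⟨θ, h2⟩ := hy
    rw [band_eq, Bool.and_eq_true, blt_iff]
    refine ⟨Nat.pos_of_ne_zero fun h3 => w1 (θ.injective ?_), h.same_true hT true ha hw'
      (MulAut.congr Subgroup.topEquiv.symm θ⁻¹) (Subgroup.mem_top _) ?_⟩
    · rw [h2, h1, h3, h.e2_zero, map_one]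
    · rw [fn_apply _ (Subgroup.mem_top _), ← h1, ← h2]
      exact θ.symm_apply_apply _
  have hwX : e2 z s w ∈ X := ⟨1, rfl⟩
  cases h3 : Pre.short L
  · rw [h3, ite'_false, allL_spec] at a1
    obtain ⟨y, hy, P, -, h4⟩ := hF.exists_locZ_char hG hXc ⟨_, hwX, w1⟩ hXi
    obtain ⟨a, b1, b2, rfl⟩ := hXL y hy
    exact h.all_false hcov b2 (hX2 _ hy) (hXc _ hy) h4 true (a1 a b1)
  · rw [h3, ite'_true] at a1
    obtain ⟨a, b, h4⟩ := short_spec h3
    obtain ⟨y, hy, P, -, h5⟩ := hF.exists_locZ hG (X := {e2 z s w}) (fun y hy => hy ▸ wc) ⟨_, rfl, w1⟩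
      fun f hf y hy => by
        rw [show y = e2 z s w from hy]
        refine fixes_of_two' hG hF.sat hXc hXi (fun x hx y hy u hu => ?_) hf hwX
        obtain ⟨x, x1, -, rfl⟩ := hXL x hx
        obtain ⟨y, y1, -, rfl⟩ := hXL y hy
        obtain ⟨u, u1, -, rfl⟩ := hXL u hu
        rcases h4 x x1 with rfl | rfl <;> rcases h4 y y1 with q | q <;> rcases h4 u u1 with r | r <;> simp [q, r]
    rw [show y = e2 z s w from hy] at h5
    exact h.all_false hcov hw' w2 wc h5 true a1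

end Ok

theorem run_spec {p : Pre} {reps lo : ℕ} {outs : List ℕ} : ∀ (k ce : ℕ), p.run reps lo k outs ce = true →
    ∀ i, lo ≤ i → i < lo + k →
      i ∈ outs ∨ p.s1 (Pc.get p.r reps i) = true ∨ ∃ w, p.s2 (Pc.get p.r reps i) w = true
  | 0, _, _, i, h1, h2 => by omega
  | k + 1, ce, h, i, h1, h2 => by
    have h3 : p.run reps lo (k + 1) outs ce = frc (Nat.add lo k) fun i =>
      frc (Nat.land (Nat.shiftRight reps (Nat.mul p.r i)) (msk p.r)) fun c =>
      ite' (Nat.beq (Nat.shiftRight (Nat.land ce 16777215) 9) (Nat.succ i))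
        (frc (Nat.land ce 511) fun w => band (ite' (Nat.beq w 0)
          (bnot (Pre.allL (fun o => bnot (Nat.beq o i)) outs)) (p.s2 c w))
          (frc (Nat.shiftRight ce 24) (p.run reps lo k outs)))
        (band (p.s1 c) (p.run reps lo k outs ce)) := rfl
    have h4 : Nat.land (Nat.shiftRight reps (Nat.mul p.r (Nat.add lo k))) (msk p.r) = Pc.get p.r reps (lo + k) :=
      land_msk _ _
    rw [h3, frc_eq, frc_eq, frc_eq, frc_eq, h4, nadd] at h
    have key : ∀ ce', p.run reps lo k outs ce' = true → (lo + k ∈ outs ∨ p.s1 (Pc.get p.r reps (lo + k)) = true ∨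
        ∃ w, p.s2 (Pc.get p.r reps (lo + k)) w = true) →
        i ∈ outs ∨ p.s1 (Pc.get p.r reps i) = true ∨ ∃ w, p.s2 (Pc.get p.r reps i) w = true := fun ce' a1 a2 => by
      by_cases h5 : i = lo + k
      · rwa [h5]
      · exact run_spec k ce' a1 i h1 (by omega)
    generalize Nat.beq (Nat.shiftRight (Nat.land ce 16777215) 9) (Nat.succ (lo + k)) = b at h
    cases b
    · rw [ite'_false, band_eq, Bool.and_eq_true] at h
      exact key _ h.2 (Or.inr (Or.inl h.1))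
    · rw [ite'_true, band_eq, Bool.and_eq_true] at h
      refine key _ h.2 ?_
      have h5 := h.1
      generalize Nat.beq (Nat.land ce 511) 0 = b at h5
      cases b
      · exact Or.inr (Or.inr ⟨_, h5⟩)
      · left
        rw [ite'_true, bnot_eq, Bool.not_eq_true', ← Bool.not_eq_true, allL_spec] at h5
        by_contra h6
        refine h5 fun o ho => ?_
        cases h7 : Nat.beq o (lo + k)
        · rfl
        · exact (h6 ((beq_iff _ _).1 h7 ▸ ho)).elim

/-- **Soundness of the filter.** -/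
theorem chk_sound {n : ℕ} {B : Base} {cd lo k ce : ℕ} {outs : List ℕ} (hc : chk n B cd lo k ce outs = true) {i : ℕ}
    (h1 : lo ≤ i) (h2 : i < lo + k) {z : G} {x : ℕ → G} (hx : Ext z x (Pc.get B.r B.reps i) B.r n B.w B.rel)
    {F : FusionSystem (⊤ : Subgroup G)} (hF : Hyp F) {P : Subgroup G} (hz : LocZ z P ⊥) : i ∈ outs := by
  unfold chk at hc
  rw [band_eq, band_eq, band_eq, Bool.and_eq_true, Bool.and_eq_true, Bool.and_eq_true, ble_iff, ble_iff, ble_iff, pre_eq,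
    band_eq, Bool.and_eq_true, frc_eq] at hc
  obtain ⟨a1, a2, a3, a4, a5⟩ := hc
  have hok := ok_preV hx a3 a2 a1 (dec 128 cd [])
  rcases run_spec _ _ a5 i h1 h2 with h3 | h3 | ⟨w, h3⟩
  · exact h3
  · unfold Pre.s1 at h3
    rw [conc_eq] at h3
    exact (hok.s1_false a4 hz h3).elim
  · unfold Pre.s2 at h3
    rw [conc_eq, frc_eq, band_eq, band_eq, Bool.and_eq_true, Bool.and_eq_true, blt_iff, tb_eq] at h3
    exact (hok.s2_false a4 hF hx.isPGroup h3.1 h3.2.1 h3.2.2).elim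

end Cfsg.Agent.FS.Sw
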