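import Cfsg.Agent.FS.Pc.Defs

/-!
# Bit tricks on packed naturals (helper49, project FS)

`pop` (number of bits modulo 255), `cmp` (compress bits at distance `s`), `rnz` (nonzero rows), `spr` (spread bits),
`swp` (exchange two address bits).
-/

set_option autoImplicit false

namespace Cfsg.Agent.FS.Sw

open Cfsg.Agent.FS.Pc Finset

theorem add_eq_or {a b : ℕ} (h : a &&& b = 0) : a + b = a ||| b := by
  have ha : a < 2 ^ (a + b) := (Nat.lt_two_pow_self).trans_le (Nat.pow_le_pow_right (by norm_num) (by omega))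
  have hb : b < 2 ^ (a + b) := (Nat.lt_two_pow_self).trans_le (Nat.pow_le_pow_right (by norm_num) (by omega))
  have h1 := BitVec.add_eq_or_of_and_eq_zero (BitVec.ofNatLT a ha) (BitVec.ofNatLT b hb)
    (BitVec.eq_of_toNat_eq (by simpa using h))
  have h2 := congrArg BitVec.toNat h1
  rw [BitVec.toNat_add, BitVec.toNat_or, BitVec.toNat_ofNatLT, BitVec.toNat_ofNatLT,
    Nat.mod_eq_of_lt Nat.lt_two_pow_self] at h2
  exact h2

theorem add_eq_xor {a b : ℕ} (h : a &&& b = 0) : a + b = a ^^^ b := by
  rw [add_eq_or h]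
  refine Nat.eq_of_testBit_eq fun j => ?_
  have h1 := congrArg (fun x => Nat.testBit x j) h
  simp only [Nat.testBit_and, Nat.zero_testBit] at h1
  rw [Nat.testBit_or, Nat.testBit_xor]
  revert h1
  cases a.testBit j <;> cases b.testBit j <;> simp

theorem testBit_of_get {w T i j : ℕ} (hj : j < w) : T.testBit (w * i + j) = (get w T i).testBit j := by
  rw [testBit_get, decide_eq_true hj, Bool.true_and]

theorem testBit_eq_get {w : ℕ} (hw : 0 < w) (T p : ℕ) : T.testBit p = (get w T (p / w)).testBit (p % w) := by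
  rw [← testBit_of_get (Nat.mod_lt _ hw), Nat.div_add_mod]

theorem get_eq_zero_of_lt {w m T i : ℕ} (h : T < 2 ^ (w * m)) (hi : m ≤ i) : get w T i = 0 := by
  refine Nat.eq_of_testBit_eq fun j => ?_
  rw [testBit_get, Nat.zero_testBit, Nat.testBit_lt_two_pow
    (h.trans_le (Nat.pow_le_pow_right (by norm_num) (by nlinarith))), Bool.and_false]

theorem lt_of_testBit {X m : ℕ} (h : ∀ i, m ≤ i → X.testBit i = false) : X < 2 ^ m := Nat.lt_pow_two_of_testBit X h

theorem testBit_mul_ones {v w : ℕ} (hw : 0 < w) (h : v < 2 ^ w) (k q : ℕ) :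
    (v * ones w k).testBit q = (decide (q < w * 2 ^ k) && v.testBit (q % w)) := by
  by_cases hq : q < w * 2 ^ k
  · rw [testBit_eq_get hw, get_mul_ones h k (Nat.div_lt_of_lt_mul hq), decide_eq_true hq, Bool.true_and]
  · rw [decide_eq_false hq, Bool.false_and]
    exact Nat.testBit_lt_two_pow ((mul_ones_lt h k).trans_le (Nat.pow_le_pow_right (by norm_num) (not_lt.1 hq)))

theorem testBit_one' (j : ℕ) : Nat.testBit 1 j = decide (j = 0) := by
  rw [← Nat.pow_zero 2, Nat.testBit_two_pow]
  simp [eq_comm]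

theorem testBit_ones {w : ℕ} (hw : 0 < w) (k q : ℕ) :
    (ones w k).testBit q = (decide (q < w * 2 ^ k) && decide (q % w = 0)) := by
  rw [← Nat.one_mul (ones w k), testBit_mul_ones hw (Nat.one_lt_two_pow hw.ne'), testBit_one']

theorem eq_low_add (w Y : ℕ) : Y = get w Y 0 + 2 ^ w * (Y >>> w) := by
  unfold Pc.get
  rw [Nat.mul_zero, Nat.shiftRight_zero, Nat.shiftRight_eq_div_pow, Nat.mod_add_div]

theorem get_shiftRight (w Y i : ℕ) : get w (Y >>> w) i = get w Y (i + 1) := by
  unfold Pc.get
  rw [← Nat.shiftRight_add, Nat.mul_add, Nat.mul_one, Nat.add_comm]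

theorem shiftRight_lt' {w m Y : ℕ} (h : Y < 2 ^ (w * (m + 1))) : Y >>> w < 2 ^ (w * m) :=
  shiftRight_lt (by rwa [Nat.mul_add, Nat.mul_one, Nat.add_comm] at h)

theorem modEq_sum {w c : ℕ} (hc : c ≤ 2 ^ w) : ∀ (m Y : ℕ), Y < 2 ^ (w * m) →
    Y ≡ ∑ i ∈ range m, get w Y i * c ^ i [MOD 2 ^ w - c]
  | 0, Y, h => by
    have : Y = 0 := by simpa using h
    rw [this, sum_range_zero]
  | m + 1, Y, h => by
    have h1 := modEq_sum hc m _ (shiftRight_lt' h)
    have h2 : 2 ^ w ≡ c [MOD 2 ^ w - c] := ((Nat.modEq_iff_dvd' hc).2 dvd_rfl).symm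
    rw [sum_range_succ', Nat.pow_zero, Nat.mul_one, Nat.add_comm]
    conv_lhs => rw [eq_low_add w Y]
    refine Nat.ModEq.add_left _ ((h2.mul h1).trans ?_)
    rw [mul_sum]
    rw [sum_congr rfl (g := fun i => get w Y (i + 1) * c ^ (i + 1)) fun i _ => by
      rw [get_shiftRight, Nat.pow_succ]
      ring]

/-! ### Counting bits -/

/-- the number of bits of `X` below `K` -/
def cnt (K X : ℕ) : ℕ := ((range K).filter fun i => X.testBit i = true).card

theorem cnt_le (K X : ℕ) : cnt K X ≤ K := (card_filter_le _ _).trans (card_range K).le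

theorem cnt_of_lt {K L X : ℕ} (h : X < 2 ^ K) (hL : K ≤ L) : cnt L X = cnt K X := by
  unfold cnt
  congr 1
  ext i
  simp only [mem_filter, mem_range]
  refine ⟨fun h1 => ⟨?_, h1.2⟩, fun h1 => ⟨h1.1.trans_le hL, h1.2⟩⟩
  by_contra h2
  rw [Nat.testBit_lt_two_pow (h.trans_le (Nat.pow_le_pow_right (by norm_num) (not_lt.1 h2)))] at h1
  exact Bool.false_ne_true h1.2

/-- the number of bits modulo `255`; `R = ones K 3`, `M = ones 8 k` -/
def popG (R M X : ℕ) : ℕ := Nat.mod (Nat.land (Nat.mul X R) M) 255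

theorem popG_eq {K m k X : ℕ} (hK : K + 1 = 8 * m) (hk : K ≤ 2 ^ k) (hX : X < 2 ^ K) :
    popG (ones K 3) (ones 8 k) X = cnt K X % 255 := by
  have hK0 : 0 < K := by omega
  have h1 : ∀ i, get 8 (X * ones K 3 &&& ones 8 k) i = if i < K ∧ X.testBit (8 * i % K) = true then 1 else 0 := by
    intro i
    refine Nat.eq_of_testBit_eq fun j => ?_
    rw [testBit_get, Nat.testBit_and, testBit_mul_ones hK0 hX, testBit_ones (by norm_num)]
    by_cases hj : j = 0
    · subst hj
      by_cases hi : i < K
      · have a1 : 8 * i < K * 2 ^ 3 := by omega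
        have a2 : 8 * i < 8 * 2 ^ k := by omega
        cases X.testBit (8 * i % K) <;> simp [hi, a2]
        omega
      · have a1 : ¬ 8 * i < K * 8 := by omega
        simp [hi, a1]
    · have a1 : (if i < K ∧ X.testBit (8 * i % K) = true then 1 else 0 : ℕ).testBit j = false := by
        split_ifs
        · rw [testBit_one', decide_eq_false hj]
        · exact Nat.zero_testBit j
      rw [a1]
      by_cases hj8 : j < 8
      · rw [decide_eq_false (by omega : ¬ (8 * i + j) % 8 = 0)]
        simp
      · simp [hj8]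
  have h2 : X * ones K 3 &&& ones 8 k < 2 ^ (8 * 2 ^ k) := by
    refine Nat.and_lt_two_pow _ ?_
    have := mul_ones_lt (v := 1) (w := 8) (by norm_num) k
    rwa [Nat.one_mul] at this
  have h3 := modEq_sum (w := 8) (c := 1) (by norm_num) _ _ h2
  have h4 : ∑ i ∈ range (2 ^ k), get 8 (X * ones K 3 &&& ones 8 k) i * 1 ^ i = cnt K X := by
    simp only [h1, one_pow, mul_one]
    rw [← card_filter]
    have b1 : ∀ i, i < K → m * (8 * i % K) % K = i := fun i hi => by
      rw [Nat.mul_mod, Nat.mod_mod, ← Nat.mul_mod, ← Nat.mul_assoc, Nat.mul_comm m 8, ← hK, Nat.add_mul, Nat.one_mul,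
        Nat.mul_add_mod, Nat.mod_eq_of_lt hi]
    have b2 : ∀ i, i < K → 8 * (m * i % K) % K = i := fun i hi => by
      rw [Nat.mul_mod, Nat.mod_mod, ← Nat.mul_mod, ← Nat.mul_assoc, ← hK, Nat.add_mul, Nat.one_mul,
        Nat.mul_add_mod, Nat.mod_eq_of_lt hi]
    refine card_nbij' (fun i => 8 * i % K) (fun i => m * i % K) ?_ ?_ ?_ ?_
    · intro i hi
      simp only [coe_filter, mem_range, Set.mem_ofPred_eq] at hi ⊢
      exact ⟨Nat.mod_lt _ hK0, hi.2.2⟩
    · intro i hi
      simp only [coe_filter, mem_range, Set.mem_ofPred_eq] at hi ⊢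
      have := Nat.mod_lt (m * i) hK0
      exact ⟨this.trans_le hk, this, by rw [b2 i hi.1]; exact hi.2⟩
    · intro i hi
      simp only [coe_filter, mem_range, Set.mem_ofPred_eq] at hi
      exact b1 i hi.2.1
    · intro i hi
      simp only [coe_filter, mem_range, Set.mem_ofPred_eq] at hi
      exact b2 i hi.1
  rw [h4] at h3
  exact h3

/-- the number of bits of a mask below `2 ^ 128` -/
def pop (X : ℕ) : ℕ := Nat.mod (Nat.land (Nat.mul X
  0x200000000000000000000000000000000040000000000000000000000000000000008000000000000000000000000000000001000000000000000000000000000000000200000000000000000000000000000000040000000000000000000000000000000008000000000000000000000000000000001)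
  0x1010101010101010101010101010101010101010101010101010101010101010101010101010101010101010101010101010101010101010101010101010101010101010101010101010101010101010101010101010101010101010101010101010101010101010101010101010101010101010101010101010101010101010101010101010101010101010101010101010101010101010101010101010101010101010101010101010101010101010101010101010101010101010101010101010101010101010101010101010101010101010101010101010101010101010101010101010101010101010101010101010101010101010101010101010101) 255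

theorem pop_eq {N X : ℕ} (hN : N ≤ 128) (hX : X < 2 ^ N) : pop X = cnt N X := by
  have h1 : pop X = popG (ones 135 3) (ones 8 8) X := by
    have a1 : ones 135 3 = 0x200000000000000000000000000000000040000000000000000000000000000000008000000000000000000000000000000001000000000000000000000000000000000200000000000000000000000000000000040000000000000000000000000000000008000000000000000000000000000000001 := by decide +kernel
    have a2 : ones 8 8 = 0x1010101010101010101010101010101010101010101010101010101010101010101010101010101010101010101010101010101010101010101010101010101010101010101010101010101010101010101010101010101010101010101010101010101010101010101010101010101010101010101010101010101010101010101010101010101010101010101010101010101010101010101010101010101010101010101010101010101010101010101010101010101010101010101010101010101010101010101010101010101010101010101010101010101010101010101010101010101010101010101010101010101010101010101010101010101 := by decide +kernel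
    rw [a1, a2]
    rfl
  rw [h1, popG_eq (m := 17) (by norm_num) (by norm_num)
    (hX.trans_le (Nat.pow_le_pow_right (by norm_num) (by omega))), cnt_of_lt hX (by omega),
    Nat.mod_eq_of_lt ((cnt_le _ _).trans_lt (by omega))]

/-! ### Compress and spread -/

theorem sum_bits (f : ℕ → Bool) : ∀ m : ℕ, (∑ i ∈ range m, (bif f i then 1 else 0) * 2 ^ i) < 2 ^ m ∧
    ∀ j, (∑ i ∈ range m, (bif f i then 1 else 0) * 2 ^ i).testBit j = (decide (j < m) && f j)
  | 0 => ⟨by simp, fun j => by simp⟩
  | m + 1 => by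
    obtain ⟨h1, h2⟩ := sum_bits f m
    have h3 : (bif f m then 1 else 0 : ℕ) < 2 ^ 1 := by cases f m <;> decide
    rw [sum_range_succ, ← Nat.shiftLeft_eq]
    refine ⟨cat_lt h1 h3, fun j => ?_⟩
    rw [testBit_cat _ h1, h2]
    by_cases hj : j < m
    · simp [hj, Nat.lt_succ_of_lt hj]
    · rw [if_neg hj]
      by_cases hj' : j = m
      · subst hj'
        cases f j <;> simp
      · rw [decide_eq_false (by omega : ¬ j < m + 1), Bool.false_and]
        exact Nat.testBit_lt_two_pow (h3.trans_le (Nat.pow_le_pow_right (by norm_num) (by omega)))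

theorem exists_bits (f : ℕ → Bool) (m : ℕ) : ∃ p, p < 2 ^ m ∧ ∀ j, j < m → p.testBit j = f j :=
  ⟨_, (sum_bits f m).1, fun j hj => by rw [(sum_bits f m).2, decide_eq_true hj, Bool.true_and]⟩

/-- `Y` has bits only at the multiples of `s`: the remainder modulo `2 ^ s - 2` collects them. -/
theorem testBit_cmp {s m Y : ℕ} {f : ℕ → Bool} (hs : 0 < s) (hY : Y < 2 ^ (s * m))
    (hf : ∀ i, i < m → get s Y i = bif f i then 1 else 0)
    (hlt : ∀ D, D < 2 ^ m → (∀ j, D.testBit j = (decide (j < m) && f j)) → D < 2 ^ s - 2) (j : ℕ) :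
    (Y % (2 ^ s - 2)).testBit j = (decide (j < m) && f j) := by
  have h1 := modEq_sum (w := s) (c := 2) (Nat.le_self_pow hs.ne' 2) m Y hY
  rw [sum_congr rfl fun i hi => by rw [hf i (mem_range.1 hi)]] at h1
  obtain ⟨h2, h3⟩ := sum_bits f m
  rw [h1, Nat.mod_eq_of_lt (hlt _ h2 h3), h3]

theorem lt_sub_two_of_lt {s m D : ℕ} (hm : 0 < m) (hs : m < s) (h : D < 2 ^ m) : D < 2 ^ s - 2 := by
  have h1 : 2 ^ (m + 1) ≤ 2 ^ s := Nat.pow_le_pow_right (by norm_num) hs
  have h2 : 2 ≤ 2 ^ m := Nat.le_self_pow hm.ne' 2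
  rw [Nat.pow_succ] at h1
  omega

theorem lt_sub_two_of_bits {s D v : ℕ} (h : D < 2 ^ s) (h0 : D.testBit 0 = false) (hv : D.testBit v = false)
    (hv0 : 0 < v) (hvs : v < s) : D < 2 ^ s - 2 := by
  by_contra hc
  have h2 : 2 ≤ 2 ^ s := Nat.le_self_pow (by omega) 2
  have h1 : D = 2 ^ s - 1 ∨ D = 2 ^ s - (1 + 1) := by omega
  rcases h1 with h1 | h1
  · rw [h1, Nat.testBit_two_pow_sub_one, decide_eq_true (by omega)] at h0
    cases h0
  · rw [h1, Nat.testBit_two_pow_sub_succ (by omega), decide_eq_true hvs, testBit_one', decide_eq_false (by omega)] at hv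
    cases hv

/-- blockwise addition -/
theorem get_add {s : ℕ} : ∀ (i A B : ℕ), (∀ j, get s A j + get s B j < 2 ^ s) → get s (A + B) i = get s A i + get s B i
  | 0, A, B, h => by
    have h1 := h 0
    unfold Pc.get at h1 ⊢
    rw [Nat.mul_zero, Nat.shiftRight_zero, Nat.shiftRight_zero] at h1
    rw [Nat.mul_zero, Nat.shiftRight_zero, Nat.shiftRight_zero, Nat.shiftRight_zero, Nat.add_mod, Nat.mod_eq_of_lt h1]
  | i + 1, A, B, h => by
    have h1 : (A + B) >>> s = A >>> s + B >>> s := by
      have h2 : A + B = (get s A 0 + get s B 0) + 2 ^ s * (A >>> s + B >>> s) := by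
        conv_lhs => rw [eq_low_add s A, eq_low_add s B]
        ring
      rw [h2, Nat.shiftRight_eq_div_pow, Nat.add_mul_div_left _ _ (Nat.two_pow_pos s), Nat.div_eq_of_lt (h 0),
        Nat.zero_add]
    rw [← get_shiftRight, ← get_shiftRight, ← get_shiftRight, h1]
    exact get_add i _ _ fun j => by rw [get_shiftRight, get_shiftRight]; exact h _

/-- The nonzero rows of `X` (rows of `s + 1` bits), as bits at the multiples of `s + 1`; `O = ones (s + 1) k`,
`L = (2 ^ s - 1) * O`. -/
def rnz (s O L X : ℕ) : ℕ := Nat.land (Nat.shiftRight (Nat.lor (Nat.add (Nat.land X L) L) X) s) O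

theorem get_land_ones {s k Y i : ℕ} (hs : 0 < s) (hi : i < 2 ^ k) :
    get s (Y &&& ones s k) i = bif Y.testBit (s * i) then 1 else 0 := by
  rw [get_land, ← Nat.one_mul (ones s k), get_mul_ones (Nat.one_lt_two_pow hs.ne') k hi, Nat.and_one_is_mod,
    ← Nat.add_zero (s * i), testBit_of_get hs, Nat.testBit_zero]
  rcases Nat.mod_two_eq_zero_or_one (get s Y i) with h | h <;> simp [h]

theorem land_ones_lt {s k : ℕ} (hs : 0 < s) (Y : ℕ) : Y &&& ones s k < 2 ^ (s * 2 ^ k) := by
  refine Nat.and_lt_two_pow _ ?_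
  have := mul_ones_lt (v := 1) (Nat.one_lt_two_pow hs.ne') k
  rwa [Nat.one_mul] at this

theorem get_rnz {s k X i : ℕ} (hi : i < 2 ^ k) :
    get (s + 1) (rnz s (ones (s + 1) k) ((2 ^ s - 1) * ones (s + 1) k) X) i =
      bif decide (get (s + 1) X i ≠ 0) then 1 else 0 := by
  have h0 : 0 < 2 ^ s := Nat.two_pow_pos s
  have h1 : 2 ^ s - 1 < 2 ^ (s + 1) := by rw [Nat.pow_succ]; omega
  have h2 : ∀ j, get (s + 1) ((2 ^ s - 1) * ones (s + 1) k) j ≤ 2 ^ s - 1 := fun j => by
    by_cases hj : j < 2 ^ k
    · rw [get_mul_ones h1 k hj]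
    · rw [get_eq_zero_of_lt (mul_ones_lt h1 k) (not_lt.1 hj)]
      exact Nat.zero_le _
  unfold rnz
  rw [nland, nland, nshr, nlor, nadd, get_land_ones (Nat.add_one_pos s) hi, Nat.testBit_shiftRight,
    Nat.add_comm s ((s + 1) * i),
    testBit_of_get (Nat.lt_succ_self s), get_lor, get_add, get_land, get_mul_ones h1 k hi,
    Nat.and_two_pow_sub_one_eq_mod, Nat.testBit_or]
  · congr 1
    have h3 := get_lt (s + 1) X i
    generalize get (s + 1) X i = x at h3
    by_cases hx : x = 0
    · subst hx
      simp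
    · rw [decide_eq_true hx, Bool.or_eq_true]
      have h4 := Nat.mod_lt x h0
      by_cases h5 : x % 2 ^ s = 0
      · right
        refine Nat.testBit_of_two_pow_le_and_two_pow_add_one_gt ?_ h3
        exact Nat.le_of_dvd (Nat.pos_of_ne_zero hx) (Nat.dvd_of_mod_eq_zero h5)
      · left
        refine Nat.testBit_of_two_pow_le_and_two_pow_add_one_gt (by omega) ?_
        rw [Nat.pow_succ]
        omega
  · intro j
    have h3 : get (s + 1) (X &&& (2 ^ s - 1) * ones (s + 1) k) j ≤ 2 ^ s - 1 := by
      rw [get_land]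
      exact Nat.and_le_right.trans (h2 j)
    have := h2 j
    rw [Nat.pow_succ, Nat.succ_eq_add_one]
    omega

theorem rnz_lt (s k L X : ℕ) : rnz s (ones (s + 1) k) L X < 2 ^ ((s + 1) * 2 ^ k) := land_ones_lt (Nat.succ_pos s) _

/-- bit `i` of a mask `P < 2 ^ N`, `N = 2 ^ n`, is moved to position `(N + 1) i` -/
theorem get_spr {n P i : ℕ} (hP : P < 2 ^ 2 ^ n) (hi : i < 2 ^ n) :
    get (2 ^ n + 1) (P * ones (2 ^ n) n &&& ones (2 ^ n + 1) n) i = bif P.testBit i then 1 else 0 := by
  rw [get_land_ones (Nat.add_one_pos _) hi, Nat.add_mul, Nat.one_mul, testBit_of_get hi, get_mul_ones hP n hi]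

theorem get_mul_const {s c : ℕ} (hc : c < 2 ^ s) : ∀ (m Y : ℕ), Y < 2 ^ (s * m) → (∀ j, get s Y j ≤ 1) →
    ∀ i, get s (Y * c) i = get s Y i * c
  | 0, Y, h, _, i => by
    have : Y = 0 := by simpa using h
    subst this
    simp [Pc.get]
  | m + 1, Y, h, h1, i => by
    have h2 : get s Y 0 * c < 2 ^ (s * 1) := by
      rw [Nat.mul_one]
      exact (Nat.mul_le_mul_right c (h1 0)).trans_lt (by rwa [Nat.one_mul])
    have h3 : Y * c = get s Y 0 * c + ((Y >>> s) * c) <<< (s * 1) := by
      conv_lhs => rw [eq_low_add s Y]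
      rw [Nat.shiftLeft_eq, Nat.mul_one]
      ring
    rw [h3]
    cases i with
    | zero => rw [get_cat_lo _ h2 Nat.one_pos, get_zero_of_lt (by rwa [Nat.mul_one] at h2)]
    | succ i =>
      rw [Nat.add_comm i 1, get_cat_hi _ h2, get_mul_const hc m _ (shiftRight_lt' h)
        (fun j => by rw [get_shiftRight]; exact h1 _), get_shiftRight, Nat.add_comm i 1]

/-- pairwise disjoint rows: the remainder modulo `2 ^ s - 1` is their union -/
theorem sum_disjoint {N : ℕ} (r : ℕ → ℕ) (φ : ℕ → ℕ) (hr : ∀ i, r i < 2 ^ N)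
    (hφ : ∀ i t, (r i).testBit t = true → φ t = i) : ∀ m, (∑ i ∈ range m, r i) < 2 ^ N ∧
      ∀ t, (∑ i ∈ range m, r i).testBit t = (decide (φ t < m) && (r (φ t)).testBit t)
  | 0 => ⟨by simp, fun t => by simp⟩
  | m + 1 => by
    obtain ⟨h1, h2⟩ := sum_disjoint r φ hr hφ m
    have h3 : (∑ i ∈ range m, r i) &&& r m = 0 := by
      refine Nat.eq_of_testBit_eq fun t => ?_
      rw [Nat.testBit_and, h2, Nat.zero_testBit]
      cases h : (r m).testBit t
      · exact Bool.and_false _
      · rw [hφ m t h]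
        simp
    rw [sum_range_succ, add_eq_or h3]
    refine ⟨Nat.or_lt_two_pow h1 (hr m), fun t => ?_⟩
    rw [Nat.testBit_or, h2]
    cases h : (r m).testBit t
    · by_cases h4 : φ t = m
      · simp [h4, h]
      · have : φ t < m + 1 ↔ φ t < m := by omega
        simp [this]
    · rw [hφ m t h]
      simp [h]

/-! ### Address bits -/

/-- `x * ones w k` by doubling -/
noncomputable def rep (x w k : ℕ) : ℕ :=
  Nat.rec (motive := fun _ => ℕ) x (fun j o => frc o fun o => Nat.add o (Nat.shiftLeft o (Nat.shiftLeft w j))) k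

theorem rep_eq (x w : ℕ) : ∀ k, rep x w k = x * ones w k
  | 0 => (Nat.mul_one x).symm
  | k + 1 => by
    have h : rep x w (k + 1) = frc (rep x w k) fun o => Nat.add o (Nat.shiftLeft o (Nat.shiftLeft w k)) := rfl
    rw [h, frc_eq, shl_eq w, rep_eq x w k, mul_ones_succ]
    rfl

/-- the positions below `2 ^ m` whose bit `j` is set -/
noncomputable def bm (m j : ℕ) : ℕ :=
  rep (Nat.shiftLeft (msk (Nat.shiftLeft 1 j)) (Nat.shiftLeft 1 j)) (Nat.shiftLeft 2 j) (Nat.sub m (Nat.succ j))

theorem testBit_bm {m j : ℕ} (hj : j < m) (p : ℕ) : (bm m j).testBit p = (decide (p < 2 ^ m) && p.testBit j) := by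
  have h0 : 0 < 2 ^ j := Nat.two_pow_pos j
  have h1 : (2 ^ 2 ^ j - 1) <<< 2 ^ j < 2 ^ (2 * 2 ^ j) := by
    have := cat_lt (A := 0) (B := 2 ^ 2 ^ j - 1) (s := 2 ^ j) (t := 2 ^ j) (Nat.two_pow_pos _)
      (Nat.sub_lt (Nat.two_pow_pos _) Nat.one_pos)
    rwa [Nat.zero_add, ← Nat.two_mul] at this
  have h2 : 2 * 2 ^ j * 2 ^ (m - (j + 1)) = 2 ^ m := by
    rw [← Nat.pow_succ', ← Nat.pow_add]
    congr 1
    omega
  unfold bm
  rw [rep_eq, one_shl, msk_eq, shl_eq 2, nshl, testBit_mul_ones (by omega) h1, nsub, Nat.succ_eq_add_one, h2,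
    Nat.testBit_shiftLeft, Nat.testBit_two_pow_sub_one]
  congr 1
  have h3 : p % (2 * 2 ^ j) < 2 * 2 ^ j := Nat.mod_lt _ (by omega)
  have h4 : p.testBit j = (p % (2 * 2 ^ j)).testBit j := by
    rw [← Nat.pow_succ', Nat.testBit_mod_two_pow, decide_eq_true (Nat.lt_succ_self j), Bool.true_and]
  rw [h4]
  generalize p % (2 * 2 ^ j) = q at h3
  by_cases h5 : 2 ^ j ≤ q
  · rw [Nat.testBit_of_two_pow_le_and_two_pow_add_one_gt h5 (by rw [Nat.pow_succ]; omega),
      decide_eq_true h5, decide_eq_true (by omega), Bool.true_and]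
  · rw [Nat.testBit_lt_two_pow (not_le.1 h5), decide_eq_false h5, Bool.false_and]

/-- exchanges the address bits `j < l` of an array of `2 ^ m` bits -/
noncomputable def swp (m j l X : ℕ) : ℕ :=
  frc (Nat.sub (Nat.shiftLeft 1 l) (Nat.shiftLeft 1 j)) fun d =>
  frc (Nat.land (Nat.xor (Nat.shiftRight X d) X) (Nat.xor (bm m j) (Nat.land (bm m j) (bm m l)))) fun t =>
  Nat.xor (Nat.xor X t) (Nat.shiftLeft t d)

/-- `Y` is `X` with permuted address bits -/
def Prm (m : ℕ) (f : ℕ → ℕ) (X Y : ℕ) : Prop :=
  ∀ p q, p < 2 ^ m → q < 2 ^ m → (∀ i, i < m → q.testBit i = p.testBit (f i)) → Y.testBit p = X.testBit q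

def sw (j l i : ℕ) : ℕ := if i = j then l else if i = l then j else i

theorem eq_of_testBit_lt {m p q : ℕ} (hp : p < 2 ^ m) (hq : q < 2 ^ m) (h : ∀ i, i < m → p.testBit i = q.testBit i) :
    p = q := by
  refine Nat.eq_of_testBit_eq fun i => ?_
  by_cases hi : i < m
  · exact h i hi
  · have h1 : 2 ^ m ≤ 2 ^ i := Nat.pow_le_pow_right (by norm_num) (not_lt.1 hi)
    rw [Nat.testBit_lt_two_pow (hp.trans_le h1), Nat.testBit_lt_two_pow (hq.trans_le h1)]

theorem add_two_pow_eq_xor {u l : ℕ} (h : u.testBit l = false) : u + 2 ^ l = u ^^^ 2 ^ l := by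
  refine add_eq_xor (Nat.eq_of_testBit_eq fun i => ?_)
  rw [Nat.testBit_and, Nat.testBit_two_pow, Nat.zero_testBit]
  by_cases hi : l = i
  · rw [← hi, h, Bool.false_and]
  · rw [decide_eq_false hi, Bool.and_false]

theorem testBit_add_sub {u j l : ℕ} (hjl : j < l) (hj : u.testBit j = true) (hl : u.testBit l = false) (i : ℕ) :
    (u + (2 ^ l - 2 ^ j)).testBit i = u.testBit (sw j l i) := by
  have h1 : (u ^^^ 2 ^ j).testBit j = false := by rw [Nat.testBit_xor, hj, Nat.testBit_two_pow_self]; rfl
  have h2 : (u ^^^ 2 ^ j).testBit l = false := by rw [Nat.testBit_xor, hl, Nat.testBit_two_pow_of_ne hjl.ne]; rfl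
  have h3 := add_two_pow_eq_xor h1
  rw [Nat.xor_assoc, Nat.xor_self, Nat.xor_zero] at h3
  have h4 : 2 ^ j ≤ 2 ^ l := Nat.pow_le_pow_right (by norm_num) hjl.le
  have h5 : u + (2 ^ l - 2 ^ j) = (u ^^^ 2 ^ j) + 2 ^ l := by omega
  rw [h5, add_two_pow_eq_xor h2, Nat.testBit_xor, Nat.testBit_xor, Nat.testBit_two_pow, Nat.testBit_two_pow]
  unfold sw
  by_cases a1 : i = j
  · subst a1
    simp [hj, hl, hjl.ne']
  · by_cases a2 : i = l
    · subst a2
      simp [hj, hl, hjl.ne, a1]
    · simp [a1, a2, Ne.symm a1, Ne.symm a2]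

theorem prm_swp {m j l : ℕ} (hjl : j < l) (hl : l < m) (X : ℕ) : Prm m (sw j l) X (swp m j l X) := by
  intro p q hp hq h
  have hmask : ∀ u, (bm m j ^^^ (bm m j &&& bm m l)).testBit u =
      (decide (u < 2 ^ m) && (u.testBit j && !u.testBit l)) := fun u => by
    rw [Nat.testBit_xor, Nat.testBit_and, testBit_bm (hjl.trans hl), testBit_bm hl]
    cases decide (u < 2 ^ m) <;> cases u.testBit j <;> cases u.testBit l <;> rfl
  have s1 : sw j l j = l := by simp [sw]
  have s2 : sw j l l = j := by simp [sw, hjl.ne']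
  have s3 : ∀ i, sw j l (sw j l i) = i := fun i => by
    unfold sw
    split_ifs <;> omega
  have s4 : ∀ i, i < m → sw j l i < m := fun i hi => by
    unfold sw
    split_ifs <;> omega
  have hd : 2 ^ j < 2 ^ l := Nat.pow_lt_pow_right (by norm_num) hjl
  unfold swp
  rw [frc_eq, frc_eq, one_shl, one_shl]
  simp only [nsub, nxor, nland, nshr, nshl, Nat.testBit_xor, Nat.testBit_and, Nat.testBit_shiftLeft,
    Nat.testBit_shiftRight]
  simp only [← Nat.testBit_and, ← Nat.testBit_xor (bm m j), hmask]
  generalize hD : 2 ^ l - 2 ^ j = d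
  -- the second correction term
  have key : ∀ u, u.testBit j = true → u.testBit l = false → (u + d).testBit j = false ∧ (u + d).testBit l = true :=
    fun u h1 h2 => by rw [← hD, testBit_add_sub hjl h1 h2, testBit_add_sub hjl h1 h2, s1, s2]; exact ⟨h2, h1⟩
  by_cases c1 : p.testBit j = true ∧ p.testBit l = false
  · have e1 : d + p = q := by
      have b1 : ∀ i, (p + d).testBit i = p.testBit (sw j l i) := by rw [← hD]; exact testBit_add_sub hjl c1.1 c1.2
      rw [Nat.add_comm]
      refine eq_of_testBit_lt (lt_of_testBit fun i hi => ?_) hq fun i hi => by rw [b1, h i hi]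
      have : sw j l i = i := by unfold sw; split_ifs <;> omega
      rw [b1, this]
      exact Nat.testBit_lt_two_pow (hp.trans_le (Nat.pow_le_pow_right (by norm_num) hi))
    have e2 : (decide (p ≥ d) && ((X.testBit (d + (p - d)) ^^ X.testBit (p - d)) &&
        (decide (p - d < 2 ^ m) && ((p - d).testBit j && !(p - d).testBit l)))) = false := by
      by_cases b1 : p ≥ d
      · cases b2 : (p - d).testBit j
        · simp
        · cases b3 : (p - d).testBit l
          · have := (key _ b2 b3).1
            rw [Nat.sub_add_cancel b1, c1.1] at this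
            cases this
          · simp
      · simp [b1]
    rw [e2, e1, c1.1, c1.2, decide_eq_true hp]
    cases X.testBit p <;> cases X.testBit q <;> rfl
  · have e0 : (p.testBit j && !p.testBit l) = false := by
      revert c1
      cases p.testBit j <;> cases p.testBit l <;> simp
    rw [e0, Bool.and_false, Bool.and_false, Bool.xor_false]
    by_cases c2 : p.testBit j = false ∧ p.testBit l = true
    · have q1 : q.testBit j = true := by rw [h j (hjl.trans hl), s1, c2.2]
      have q2 : q.testBit l = false := by rw [h l hl, s2, c2.1]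
      have e1 : q + d = p := by
        have b1 : ∀ i, (q + d).testBit i = q.testBit (sw j l i) := by rw [← hD]; exact testBit_add_sub hjl q1 q2
        refine eq_of_testBit_lt (lt_of_testBit fun i hi => ?_) hp fun i hi => by rw [b1, h _ (s4 i hi), s3]
        have : sw j l i = i := by unfold sw; split_ifs <;> omega
        rw [b1, this]
        exact Nat.testBit_lt_two_pow (hq.trans_le (Nat.pow_le_pow_right (by norm_num) hi))
      have e2 : p - d = q := by omega
      have e3 : d + q = p := by omega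
      rw [e2, e3, q1, q2, decide_eq_true hq, decide_eq_true (by omega : p ≥ d)]
      cases X.testBit p <;> cases X.testBit q <;> rfl
    · have e1 : p.testBit j = p.testBit l := by
        revert c1 c2
        cases p.testBit j <;> cases p.testBit l <;> simp
      have e2 : q = p := eq_of_testBit_lt hq hp fun i hi => by
        rw [h i hi]
        unfold sw
        split_ifs with a1 a2
        · rw [a1, e1]
        · rw [a2, e1]
        · rfl
      have e3 : (decide (p ≥ d) && ((X.testBit (d + (p - d)) ^^ X.testBit (p - d)) &&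
          (decide (p - d < 2 ^ m) && ((p - d).testBit j && !(p - d).testBit l)))) = false := by
        by_cases b1 : p ≥ d
        · cases b2 : (p - d).testBit j
          · simp
          · cases b3 : (p - d).testBit l
            · have := key _ b2 b3
              rw [Nat.sub_add_cancel b1, e1] at this
              rw [this.1] at this
              cases this.2
            · simp
        · simp [b1]
      rw [e3, e2, Bool.xor_false]

theorem Prm.refl (m X : ℕ) : Prm m id X X := fun _ _ hp hq h => by rw [eq_of_testBit_lt hq hp h]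

theorem Prm.trans {m : ℕ} {f g : ℕ → ℕ} {X Y Z : ℕ} (h1 : Prm m f X Y) (h2 : Prm m g Y Z)
    (hf : ∀ i, i < m → f i < m) : Prm m (fun i => g (f i)) X Z := by
  intro p q hp hq h
  obtain ⟨u, hu, h3⟩ := exists_bits (fun i => p.testBit (g i)) m
  rw [h2 p u hp hu h3, h1 u q hu hq fun i hi => by rw [h i hi, h3 _ (hf i hi)]]

/-- the exchanges `(0, o), (1, o + 1), …, (c - 1, o + c - 1)` in this order -/
noncomputable def swps (m o c X : ℕ) : ℕ :=
  Nat.rec (motive := fun _ => ℕ) X (fun i Y => frc Y fun Y => frc (Nat.add i o) fun l => swp m i l Y) c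

def swf (o : ℕ) : ℕ → ℕ → ℕ
  | 0, i => i
  | c + 1, i => sw c (c + o) (swf o c i)

theorem swf_realised : True := by
  have := @swf.eq_def
  trivial

theorem prm_swps {m o : ℕ} (ho : 0 < o) (X : ℕ) : ∀ c, c + o ≤ m →
    Prm m (swf o c) X (swps m o c X) ∧ ∀ i, i < m → swf o c i < m
  | 0, _ => ⟨Prm.refl m X, fun _ hi => hi⟩
  | c + 1, hc => by
    obtain ⟨h1, h2⟩ := prm_swps (m := m) ho X c (by omega)
    have h3 : swps m o (c + 1) X = frc (swps m o c X) fun Y => frc (Nat.add c o) fun l => swp m c l Y := rfl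
    rw [h3, frc_eq (swps m o c X), frc_eq (Nat.add c o)]
    refine ⟨h1.trans (prm_swp (l := c + o) (by omega) (by omega) _) h2, fun i hi => ?_⟩
    have := h2 i hi
    show sw c (c + o) _ < m
    unfold sw
    split_ifs <;> omega

end Cfsg.Agent.FS.Sw
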