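import Cfsg.Agent.FS.Th.Level

/-!
# The theory boxes used by the filter on pairs (helper49, project FS)
-/

set_option autoImplicit false

namespace Cfsg.Agent.FS.Sw

open Cfsg Cfsg.FusionSystem Cfsg.Agent.H752 Cfsg.Agent.FS.Th

universe u

/-- `x ∈ Ω₁ Z(P)` -/
def InV {G : Type u} [Group G] (P : Subgroup G) (x : G) : Prop := x ∈ P ∧ x * x = 1 ∧ ∀ y ∈ P, y * x = x * y

/-- TH2 b. -/
def BoxShape : Prop := ∀ (G : Type u) [Group G] [Finite G] (P : Subgroup G) (A D : Subgroup (MulAut P)) (z t : G),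
  Loc P A D → z * z = 1 → (∀ g, g * z = z * g) → (∀ α ∈ A, fn α z = z → α ∈ D) →
  (∀ x ∈ P, t * x * t⁻¹ ∈ P) → t ∉ P → t * t ∈ P →
  (∃ α : MulAut P, t * fn α z ≠ fn α z * t ∧ fn α (z * fn α z) = fn α z * (t * fn α z * t⁻¹)) ∨
  ((∃ s : Finset G, s.card = 4 ∧ ∀ v ∈ s, t * v ≠ v * t ∧ ∃ α : MulAut P, fn α z = v) ∧
    ∃ x y, InV P x ∧ InV P y ∧ t * x ≠ x * t ∧ t * y ≠ y * t ∧ t * (x * y) ≠ x * y * t)

/-- TH2 c. -/
def BoxG2 : Prop := ∀ (G : Type u) [Group G] [Finite G] (P : Subgroup G) (A D : Subgroup (MulAut P)) (z : G),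
  Loc P A D → z * z = 1 → (∀ g, g * z = z * g) → (∀ α ∈ A, fn α z = z → α ∈ D) →
  8 * Nat.card P ≤ Nat.card (Subgroup.normalizer (P : Set G)) → Nat.card {x // InV P x} ≤ 32 → False

/-- a central involution -/
def CI {G : Type u} [Group G] (w : G) : Prop := w * w = 1 ∧ w ≠ 1 ∧ ∀ g, g * w = w * g

/-- TH2 a. -/
def BoxZ : Prop := ∀ (G : Type u) [Group G] [Finite G] (F : FusionSystem (⊤ : Subgroup G)), IsPGroup 2 G → Hyp F →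
  ∀ X : Set G, (∀ w ∈ X, CI w) → (∀ θ : MulAut G, ∀ w ∈ X, θ w ∈ X) → ∀ w₀ ∈ X,
    (∃ w ∈ X, ∃ P, F.IsEssential 2 P ∧ LocZ w P ⊥) ∧
    ((∃ a b, ∀ w ∈ X, w = a ∨ w = b) → ∃ P, F.IsEssential 2 P ∧ LocZ w₀ P ⊥)

end Cfsg.Agent.FS.Sw
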