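import Cfsg.Agent.FS.Sw.Seg
import Cfsg.Agent.FS.Gen.L7

/-! The filter on the pairs for the order 256, part 4 (generated; helper79, project FS) -/

set_option autoImplicit false
set_option maxRecDepth 100000
set_option Elab.async false

namespace Cfsg.Agent.FS.Sw

open Gen

noncomputable def j7_13_145 : List Job := [
  ⟨14, 0xfc7d7e7fc8494a4bc4454647c041424398191a1b94151617911390128a0b880986078405838281, 395, 198, 0x31e05034603034a07035203035e06038607038a04039203039e0603c60403ca0303d20603de03040a07040c02040e02041002, []⟩]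

theorem t7_13_145 : jobs 7 S8 b7_13 j7_13_145 = true := by decide +kernel

noncomputable def j7_13_146 : List Job := [
  ⟨14, 0xfc7d7e7fc8494a4bc4454647c041424398191a1b94151617911390128a0b880986078405838281, 197, 198, 0x19206019e0601c60301ca0301d20301de05020607020a07021203021e06024603024a07025205025e05028603028a05029206029e0602c60402ca0502d20502de06030607030a05031205, []⟩]

theorem t7_13_146 : jobs 7 S8 b7_13 j7_13_146 = true := by decide +kernel

noncomputable def j7_13_147 : List Job := [
  ⟨14, 0xfc7d7e7fc8494a4bc4454647c041424398191a1b94151617911390128a0b880986078405838281, 0, 197, 0x604000a07000c07000e07001007001206001e06004604004a07004c07004e07005007005204005e03008604008a05009206009e0400c60700ca0400d20400de06010607010a07011206011e03014603014a05015205015e06018604018a07, []⟩]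

theorem t7_13_147 : jobs 7 S8 b7_13 j7_13_147 = true := by decide +kernel

noncomputable def j7_13_148 : List Job := [
  ⟨13, 0xfc7d7e7ff4757677c8494a4bc04142439c1d1e1f9011121386078405838281, 993, 199, 0x0, []⟩]

theorem t7_13_148 : jobs 7 S8 b7_13 j7_13_148 = true := by decide +kernel

noncomputable def j7_13_149 : List Job := [
  ⟨13, 0xfc7d7e7ff4757677c8494a4bc04142439c1d1e1f9011121386078405838281, 794, 199, 0x0, []⟩]

theorem t7_13_149 : jobs 7 S8 b7_13 j7_13_149 = true := by decide +kernel

noncomputable def j7_13_150 : List Job := [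
  ⟨13, 0xfc7d7e7ff4757677c8494a4bc04142439c1d1e1f9011121386078405838281, 596, 198, 0x0, []⟩]

theorem t7_13_150 : jobs 7 S8 b7_13 j7_13_150 = true := by decide +kernel

noncomputable def j7_13_151 : List Job := [
  ⟨13, 0xfc7d7e7ff4757677c8494a4bc04142439c1d1e1f9011121386078405838281, 397, 199, 0x0, []⟩]

theorem t7_13_151 : jobs 7 S8 b7_13 j7_13_151 = true := by decide +kernel

noncomputable def j7_13_152 : List Job := [
  ⟨13, 0xfc7d7e7ff4757677c8494a4bc04142439c1d1e1f9011121386078405838281, 198, 199, 0x0, []⟩]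

theorem t7_13_152 : jobs 7 S8 b7_13 j7_13_152 = true := by decide +kernel

noncomputable def j7_13_153 : List Job := [
  ⟨13, 0xfc7d7e7ff4757677c8494a4bc04142439c1d1e1f9011121386078405838281, 0, 198, 0x6205006403006607006806006a06006c04006e03007004007205007403007603007803007a03007c07007e04008005008203008404008604008805008a05008c04008e06009007009207009407009606009806009a06009c06009e0700a00500a20300a40700a60500a80500aa0600ac0500ae0300b00500b20500b40700b60400b80700ba0300bc07, []⟩]

theorem t7_13_153 : jobs 7 S8 b7_13 j7_13_153 = true := by decide +kernel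

noncomputable def j7_13_154 : List Job := [
  ⟨12, 0xf8797a7bf0717273c8494a4bc04142439c1d1e1f9011121386078405838281, 1138, 190, 0x0, []⟩]

theorem t7_13_154 : jobs 7 S8 b7_13 j7_13_154 = true := by decide +kernel

noncomputable def j7_13_155 : List Job := [
  ⟨12, 0xf8797a7bf0717273c8494a4bc04142439c1d1e1f9011121386078405838281, 948, 190, 0x0, []⟩]

theorem t7_13_155 : jobs 7 S8 b7_13 j7_13_155 = true := by decide +kernel

noncomputable def j7_13_156 : List Job := [
  ⟨12, 0xf8797a7bf0717273c8494a4bc04142439c1d1e1f9011121386078405838281, 758, 190, 0x0, []⟩]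

theorem t7_13_156 : jobs 7 S8 b7_13 j7_13_156 = true := by decide +kernel

noncomputable def j7_13_157 : List Job := [
  ⟨12, 0xf8797a7bf0717273c8494a4bc04142439c1d1e1f9011121386078405838281, 569, 189, 0x0, []⟩]

theorem t7_13_157 : jobs 7 S8 b7_13 j7_13_157 = true := by decide +kernel

noncomputable def j7_13_158 : List Job := [
  ⟨12, 0xf8797a7bf0717273c8494a4bc04142439c1d1e1f9011121386078405838281, 379, 190, 0x0, []⟩]

theorem t7_13_158 : jobs 7 S8 b7_13 j7_13_158 = true := by decide +kernel

noncomputable def j7_13_159 : List Job := [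
  ⟨12, 0xf8797a7bf0717273c8494a4bc04142439c1d1e1f9011121386078405838281, 189, 190, 0x0, []⟩]

theorem t7_13_159 : jobs 7 S8 b7_13 j7_13_159 = true := by decide +kernel

noncomputable def j7_13_160 : List Job := [
  ⟨12, 0xf8797a7bf0717273c8494a4bc04142439c1d1e1f9011121386078405838281, 0, 189, 0x7207007407007606007806007a06007c06007e04008007008207008406008606008806008a03008c06008e06009006009206009406009607009804009a05009c07009e0300a00600a20600a40600a60500a80400aa0400ac0700ae0400b00700b20300b40500b60300b80500ba0500bc0300be0600c00600c20500c40700c60700c80700ca0500cc0500ce0400d00300d20300d40600d60600d80600da0600dc0700de0700e007, []⟩]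

theorem t7_13_160 : jobs 7 S8 b7_13 j7_13_160 = true := by decide +kernel

noncomputable def j7_13_161 : List Job := [
  ⟨11, 0xfc7d7e7ff0717273cc4d4e4fc04142439c1d1e1f9011121386078405838281, 713, 179, 0x0, []⟩]

theorem t7_13_161 : jobs 7 S8 b7_13 j7_13_161 = true := by decide +kernel

noncomputable def j7_13_162 : List Job := [
  ⟨11, 0xfc7d7e7ff0717273cc4d4e4fc04142439c1d1e1f9011121386078405838281, 535, 178, 0x0, []⟩]

theorem t7_13_162 : jobs 7 S8 b7_13 j7_13_162 = true := by decide +kernel

noncomputable def j7_13_163 : List Job := [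
  ⟨11, 0xfc7d7e7ff0717273cc4d4e4fc04142439c1d1e1f9011121386078405838281, 356, 179, 0x0, []⟩]

theorem t7_13_163 : jobs 7 S8 b7_13 j7_13_163 = true := by decide +kernel

noncomputable def j7_13_164 : List Job := [
  ⟨11, 0xfc7d7e7ff0717273cc4d4e4fc04142439c1d1e1f9011121386078405838281, 178, 178, 0x0, []⟩]

theorem t7_13_164 : jobs 7 S8 b7_13 j7_13_164 = true := by decide +kernel

noncomputable def j7_13_165 : List Job := [
  ⟨11, 0xfc7d7e7ff0717273cc4d4e4fc04142439c1d1e1f9011121386078405838281, 0, 178, 0x4c03004e03005003005203005403005606005804005a06005c04005e04006006006205006406006603006803006a07006c05006e07007005007204007403007603007806007a07007c05007e05008007008203008407008605008804008a06008c03008e03009007009205009404, []⟩]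

theorem t7_13_165 : jobs 7 S8 b7_13 j7_13_165 = true := by decide +kernel

noncomputable def j7_13_166 : List Job := [
  ⟨10, 0xfc7d7e7ff071727386078405838281, 555, 185, 0x0, []⟩]

theorem t7_13_166 : jobs 7 S8 b7_13 j7_13_166 = true := by decide +kernel

noncomputable def j7_13_167 : List Job := [
  ⟨10, 0xfc7d7e7ff071727386078405838281, 370, 185, 0x0, []⟩]

theorem t7_13_167 : jobs 7 S8 b7_13 j7_13_167 = true := by decide +kernel

noncomputable def j7_13_168 : List Job := [
  ⟨10, 0xfc7d7e7ff071727386078405838281, 185, 185, 0x0, []⟩]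

theorem t7_13_168 : jobs 7 S8 b7_13 j7_13_168 = true := by decide +kernel

noncomputable def j7_13_169 : List Job := [
  ⟨10, 0xfc7d7e7ff071727386078405838281, 0, 185, 0x8804008a03009407009607, []⟩]

theorem t7_13_169 : jobs 7 S8 b7_13 j7_13_169 = true := by decide +kernel

noncomputable def j7_13_170 : List Job := [
  ⟨9, 0xf8797a7bf47576779c1d1e1f98191a1b941516179011121386078405838281, 1110, 186, 0x0, []⟩]

theorem t7_13_170 : jobs 7 S8 b7_13 j7_13_170 = true := by decide +kernel

noncomputable def j7_13_171 : List Job := [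
  ⟨9, 0xf8797a7bf47576779c1d1e1f98191a1b941516179011121386078405838281, 925, 185, 0x0, []⟩]

theorem t7_13_171 : jobs 7 S8 b7_13 j7_13_171 = true := by decide +kernel

noncomputable def j7_13_172 : List Job := [
  ⟨9, 0xf8797a7bf47576779c1d1e1f98191a1b941516179011121386078405838281, 740, 185, 0x0, []⟩]

theorem t7_13_172 : jobs 7 S8 b7_13 j7_13_172 = true := by decide +kernel

noncomputable def j7_13_173 : List Job := [
  ⟨9, 0xf8797a7bf47576779c1d1e1f98191a1b941516179011121386078405838281, 555, 185, 0x0, []⟩]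

theorem t7_13_173 : jobs 7 S8 b7_13 j7_13_173 = true := by decide +kernel

noncomputable def j7_13_174 : List Job := [
  ⟨9, 0xf8797a7bf47576779c1d1e1f98191a1b941516179011121386078405838281, 370, 185, 0x0, []⟩]

theorem t7_13_174 : jobs 7 S8 b7_13 j7_13_174 = true := by decide +kernel

noncomputable def j7_13_175 : List Job := [
  ⟨9, 0xf8797a7bf47576779c1d1e1f98191a1b941516179011121386078405838281, 185, 185, 0x0, []⟩]

theorem t7_13_175 : jobs 7 S8 b7_13 j7_13_175 = true := by decide +kernel

noncomputable def j7_13_176 : List Job := [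
  ⟨9, 0xf8797a7bf47576779c1d1e1f98191a1b941516179011121386078405838281, 0, 185, 0xc40400c80700e40700e803, []⟩]

theorem t7_13_176 : jobs 7 S8 b7_13 j7_13_176 = true := by decide +kernel

noncomputable def j7_13_177 : List Job := [
  ⟨8, 0xfc7d7e7ff0717273cc4d4e4fc8494a4bc4454647c04142439c1d1e1f98191a1b941516179011121386078405838281, 555, 185, 0x0, []⟩]

theorem t7_13_177 : jobs 7 S8 b7_13 j7_13_177 = true := by decide +kernel

noncomputable def j7_13_178 : List Job := [
  ⟨8, 0xfc7d7e7ff0717273cc4d4e4fc8494a4bc4454647c04142439c1d1e1f98191a1b941516179011121386078405838281, 370, 185, 0x0, []⟩]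

theorem t7_13_178 : jobs 7 S8 b7_13 j7_13_178 = true := by decide +kernel

noncomputable def j7_13_179 : List Job := [
  ⟨8, 0xfc7d7e7ff0717273cc4d4e4fc8494a4bc4454647c04142439c1d1e1f98191a1b941516179011121386078405838281, 185, 185, 0x0, []⟩]

theorem t7_13_179 : jobs 7 S8 b7_13 j7_13_179 = true := by decide +kernel

noncomputable def j7_13_180 : List Job := [
  ⟨8, 0xfc7d7e7ff0717273cc4d4e4fc8494a4bc4454647c04142439c1d1e1f98191a1b941516179011121386078405838281, 0, 185, 0x8004008403008c03009004, []⟩]

theorem t7_13_180 : jobs 7 S8 b7_13 j7_13_180 = true := by decide +kernel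

noncomputable def j7_13_181 : List Job := [
  ⟨7, 0xfc7d7e7ff4757677941516179113901286078405838281, 2170, 198, 0x0, []⟩]

theorem t7_13_181 : jobs 7 S8 b7_13 j7_13_181 = true := by decide +kernel

noncomputable def j7_13_182 : List Job := [
  ⟨7, 0xfc7d7e7ff4757677941516179113901286078405838281, 1973, 197, 0x0, []⟩]

theorem t7_13_182 : jobs 7 S8 b7_13 j7_13_182 = true := by decide +kernel

noncomputable def j7_13_183 : List Job := [
  ⟨7, 0xfc7d7e7ff4757677941516179113901286078405838281, 1776, 197, 0x0, []⟩]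

theorem t7_13_183 : jobs 7 S8 b7_13 j7_13_183 = true := by decide +kernel

noncomputable def j7_13_184 : List Job := [
  ⟨7, 0xfc7d7e7ff4757677941516179113901286078405838281, 1578, 198, 0x0, []⟩]

theorem t7_13_184 : jobs 7 S8 b7_13 j7_13_184 = true := by decide +kernel

noncomputable def j7_13_185 : List Job := [
  ⟨7, 0xfc7d7e7ff4757677941516179113901286078405838281, 1381, 197, 0x0, []⟩]

theorem t7_13_185 : jobs 7 S8 b7_13 j7_13_185 = true := by decide +kernel

noncomputable def j7_13_186 : List Job := [
  ⟨7, 0xfc7d7e7ff4757677941516179113901286078405838281, 1184, 197, 0x0, []⟩]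

theorem t7_13_186 : jobs 7 S8 b7_13 j7_13_186 = true := by decide +kernel

noncomputable def j7_13_187 : List Job := [
  ⟨7, 0xfc7d7e7ff4757677941516179113901286078405838281, 986, 198, 0x0, []⟩]

theorem t7_13_187 : jobs 7 S8 b7_13 j7_13_187 = true := by decide +kernel

noncomputable def j7_13_188 : List Job := [
  ⟨7, 0xfc7d7e7ff4757677941516179113901286078405838281, 789, 197, 0x0, []⟩]

theorem t7_13_188 : jobs 7 S8 b7_13 j7_13_188 = true := by decide +kernel

noncomputable def j7_13_189 : List Job := [
  ⟨7, 0xfc7d7e7ff4757677941516179113901286078405838281, 592, 197, 0x5ca0705cc0605ce0505d006060a06060c06060e03061006, []⟩]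

theorem t7_13_189 : jobs 7 S8 b7_13 j7_13_189 = true := by decide +kernel

noncomputable def j7_13_190 : List Job := [
  ⟨7, 0xfc7d7e7ff4757677941516179113901286078405838281, 394, 198, 0x0, []⟩]

theorem t7_13_190 : jobs 7 S8 b7_13 j7_13_190 = true := by decide +kernel

noncomputable def j7_13_191 : List Job := [
  ⟨7, 0xfc7d7e7ff4757677941516179113901286078405838281, 197, 197, 0x18c02018e0201900201a60201a80201b60201b802020603020803021a03021c03021e03022003023605023807023a03023c03023e03024003025405025603025803, []⟩]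

theorem t7_13_191 : jobs 7 S8 b7_13 j7_13_191 = true := by decide +kernel

noncomputable def j7_13_192 : List Job := [
  ⟨7, 0xfc7d7e7ff4757677941516179113901286078405838281, 0, 197, 0xa02000c05000e0200100200440500c40700c80700cc0300d00700e60500e805010407010603010807010c07011007016605016802016a02016c02016e02017002018605018805018a02, []⟩]

theorem t7_13_192 : jobs 7 S8 b7_13 j7_13_192 = true := by decide +kernel

noncomputable def j7_13_193 : List Job := [
  ⟨6, 0xf8797a7bf0717273cc4d4e4fc8494a4bc4454647c0414243941516179113901286078405838281, 2170, 198, 0x0, []⟩]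

theorem t7_13_193 : jobs 7 S8 b7_13 j7_13_193 = true := by decide +kernel

noncomputable def j7_13_194 : List Job := [
  ⟨6, 0xf8797a7bf0717273cc4d4e4fc8494a4bc4454647c0414243941516179113901286078405838281, 1973, 197, 0x0, []⟩]

theorem t7_13_194 : jobs 7 S8 b7_13 j7_13_194 = true := by decide +kernel

noncomputable def j7_13_195 : List Job := [
  ⟨6, 0xf8797a7bf0717273cc4d4e4fc8494a4bc4454647c0414243941516179113901286078405838281, 1776, 197, 0x0, []⟩]

theorem t7_13_195 : jobs 7 S8 b7_13 j7_13_195 = true := by decide +kernel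

noncomputable def j7_13_196 : List Job := [
  ⟨6, 0xf8797a7bf0717273cc4d4e4fc8494a4bc4454647c0414243941516179113901286078405838281, 1578, 198, 0x0, []⟩]

theorem t7_13_196 : jobs 7 S8 b7_13 j7_13_196 = true := by decide +kernel

noncomputable def j7_13_197 : List Job := [
  ⟨6, 0xf8797a7bf0717273cc4d4e4fc8494a4bc4454647c0414243941516179113901286078405838281, 1381, 197, 0x0, []⟩]

theorem t7_13_197 : jobs 7 S8 b7_13 j7_13_197 = true := by decide +kernel

noncomputable def j7_13_198 : List Job := [
  ⟨6, 0xf8797a7bf0717273cc4d4e4fc8494a4bc4454647c0414243941516179113901286078405838281, 1184, 197, 0x0, []⟩]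

theorem t7_13_198 : jobs 7 S8 b7_13 j7_13_198 = true := by decide +kernel

noncomputable def j7_13_199 : List Job := [
  ⟨6, 0xf8797a7bf0717273cc4d4e4fc8494a4bc4454647c0414243941516179113901286078405838281, 986, 198, 0x0, []⟩]

theorem t7_13_199 : jobs 7 S8 b7_13 j7_13_199 = true := by decide +kernel

noncomputable def j7_13_200 : List Job := [
  ⟨6, 0xf8797a7bf0717273cc4d4e4fc8494a4bc4454647c0414243941516179113901286078405838281, 789, 197, 0x0, []⟩]

theorem t7_13_200 : jobs 7 S8 b7_13 j7_13_200 = true := by decide +kernel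

noncomputable def j7_13_201 : List Job := [
  ⟨6, 0xf8797a7bf0717273cc4d4e4fc8494a4bc4454647c0414243941516179113901286078405838281, 592, 197, 0x5ca0205cc0705ce0705d002060a02060c07060e05061005, []⟩]

theorem t7_13_201 : jobs 7 S8 b7_13 j7_13_201 = true := by decide +kernel

noncomputable def j7_13_202 : List Job := [
  ⟨6, 0xf8797a7bf0717273cc4d4e4fc8494a4bc4454647c0414243941516179113901286078405838281, 394, 198, 0x0, []⟩]

theorem t7_13_202 : jobs 7 S8 b7_13 j7_13_202 = true := by decide +kernel

noncomputable def j7_13_203 : List Job := [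
  ⟨6, 0xf8797a7bf0717273cc4d4e4fc8494a4bc4454647c0414243941516179113901286078405838281, 197, 197, 0x18c02018e0201900201a60201a80201b60201b802020603020803021a03021c03021e03022003023607023805023a03023c03023e03024003025403025603025803, []⟩]

theorem t7_13_203 : jobs 7 S8 b7_13 j7_13_203 = true := by decide +kernel

noncomputable def j7_13_204 : List Job := [
  ⟨6, 0xf8797a7bf0717273cc4d4e4fc8494a4bc4454647c0414243941516179113901286078405838281, 0, 197, 0xa02000c07000e0200100200440200c20300c60400ca0300ce0300e60300e803010203010603010803010a03010e03016607016802016a02016c02016e02017002018607018802018a02, []⟩]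

theorem t7_13_204 : jobs 7 S8 b7_13 j7_13_204 = true := by decide +kernel

noncomputable def j7_13_205 : List Job := [
  ⟨5, 0xfc7d7e7ff0717273c4454647c143c042941516179113901286078405838281, 2141, 195, 0x0, []⟩]

theorem t7_13_205 : jobs 7 S8 b7_13 j7_13_205 = true := by decide +kernel

noncomputable def j7_13_206 : List Job := [
  ⟨5, 0xfc7d7e7ff0717273c4454647c143c042941516179113901286078405838281, 1946, 195, 0x0, []⟩]

theorem t7_13_206 : jobs 7 S8 b7_13 j7_13_206 = true := by decide +kernel

noncomputable def j7_13_207 : List Job := [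
  ⟨5, 0xfc7d7e7ff0717273c4454647c143c042941516179113901286078405838281, 1752, 194, 0x0, []⟩]

theorem t7_13_207 : jobs 7 S8 b7_13 j7_13_207 = true := by decide +kernel

noncomputable def j7_13_208 : List Job := [
  ⟨5, 0xfc7d7e7ff0717273c4454647c143c042941516179113901286078405838281, 1557, 195, 0x0, []⟩]

theorem t7_13_208 : jobs 7 S8 b7_13 j7_13_208 = true := by decide +kernel

noncomputable def j7_13_209 : List Job := [
  ⟨5, 0xfc7d7e7ff0717273c4454647c143c042941516179113901286078405838281, 1362, 195, 0x0, []⟩]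

theorem t7_13_209 : jobs 7 S8 b7_13 j7_13_209 = true := by decide +kernel

noncomputable def j7_13_210 : List Job := [
  ⟨5, 0xfc7d7e7ff0717273c4454647c143c042941516179113901286078405838281, 1168, 194, 0x0, []⟩]

theorem t7_13_210 : jobs 7 S8 b7_13 j7_13_210 = true := by decide +kernel

noncomputable def j7_13_211 : List Job := [
  ⟨5, 0xfc7d7e7ff0717273c4454647c143c042941516179113901286078405838281, 973, 195, 0x0, []⟩]

theorem t7_13_211 : jobs 7 S8 b7_13 j7_13_211 = true := by decide +kernel

noncomputable def j7_13_212 : List Job := [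
  ⟨5, 0xfc7d7e7ff0717273c4454647c143c042941516179113901286078405838281, 778, 195, 0x68a07068c02068e0606900306ca0206cc0706ce0206d007, []⟩]

theorem t7_13_212 : jobs 7 S8 b7_13 j7_13_212 = true := by decide +kernel

noncomputable def j7_13_213 : List Job := [
  ⟨5, 0xfc7d7e7ff0717273c4454647c143c042941516179113901286078405838281, 584, 194, 0x55205055405055602055802057a06057c03057e07058002, []⟩]

theorem t7_13_213 : jobs 7 S8 b7_13 j7_13_213 = true := by decide +kernel

noncomputable def j7_13_214 : List Job := [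
  ⟨5, 0xfc7d7e7ff0717273c4454647c143c042941516179113901286078405838281, 389, 195, 0x0, []⟩]

theorem t7_13_214 : jobs 7 S8 b7_13 j7_13_214 = true := by decide +kernel

noncomputable def j7_13_215 : List Job := [
  ⟨5, 0xfc7d7e7ff0717273c4454647c143c042941516179113901286078405838281, 194, 195, 0x18602018802018a02018c02018e0201900201ba0201bc0201be0201c00201da0201dc0201de0201e002027a03027c03027e03028003029a03029c03029e0302a00302b60502b80702ba0302bc0302be0302c00302da0302dc0502de0502e00702e20302e40302e60302e80302ea0302ec0302ee0302f003, []⟩]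

theorem t7_13_215 : jobs 7 S8 b7_13 j7_13_215 = true := by decide +kernel

noncomputable def j7_13_216 : List Job := [
  ⟨5, 0xfc7d7e7ff0717273c4454647c143c042941516179113901286078405838281, 0, 194, 0xa02000c02000e02001002002e0200300700aa0300ae0300b40300de0700e20700e60700e80300ea0700ec0700f00400f607010a03010c03015602015802015a02015c02015e02016002017a07017c02017e05018007018202018402, []⟩]

theorem t7_13_216 : jobs 7 S8 b7_13 j7_13_216 = true := by decide +kernel

noncomputable def j7_13_217 : List Job := [
  ⟨4, 0xf8797a7bf4757677cc4d4e4fc041424386078405838281, 1097, 183, 0x0, []⟩]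

theorem t7_13_217 : jobs 7 S8 b7_13 j7_13_217 = true := by decide +kernel

noncomputable def j7_13_218 : List Job := [
  ⟨4, 0xf8797a7bf4757677cc4d4e4fc041424386078405838281, 914, 183, 0x0, []⟩]

theorem t7_13_218 : jobs 7 S8 b7_13 j7_13_218 = true := by decide +kernel

noncomputable def j7_13_219 : List Job := [
  ⟨4, 0xf8797a7bf4757677cc4d4e4fc041424386078405838281, 731, 183, 0x0, []⟩]

theorem t7_13_219 : jobs 7 S8 b7_13 j7_13_219 = true := by decide +kernel

noncomputable def j7_13_220 : List Job := [
  ⟨4, 0xf8797a7bf4757677cc4d4e4fc041424386078405838281, 548, 183, 0x0, []⟩]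

theorem t7_13_220 : jobs 7 S8 b7_13 j7_13_220 = true := by decide +kernel

noncomputable def j7_13_221 : List Job := [
  ⟨4, 0xf8797a7bf4757677cc4d4e4fc041424386078405838281, 365, 183, 0x0, []⟩]

theorem t7_13_221 : jobs 7 S8 b7_13 j7_13_221 = true := by decide +kernel

noncomputable def j7_13_222 : List Job := [
  ⟨4, 0xf8797a7bf4757677cc4d4e4fc041424386078405838281, 182, 183, 0x0, []⟩]

theorem t7_13_222 : jobs 7 S8 b7_13 j7_13_222 = true := by decide +kernel

noncomputable def j7_13_223 : List Job := [
  ⟨4, 0xf8797a7bf4757677cc4d4e4fc041424386078405838281, 0, 182, 0xaa0400ac0700ae0400b00700be0700c00700c20700c40400c60400c80600d60700d80700da0700dc0600de0500e004, []⟩]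

theorem t7_13_223 : jobs 7 S8 b7_13 j7_13_223 = true := by decide +kernel

noncomputable def j7_13_224 : List Job := [
  ⟨3, 0xfc7d7e7ff0717273cc4d4e4fc04142439c1d1e1f98191a1b941516179011121386078405838281, 1097, 183, 0x0, []⟩]

theorem t7_13_224 : jobs 7 S8 b7_13 j7_13_224 = true := by decide +kernel

noncomputable def j7_13_225 : List Job := [
  ⟨3, 0xfc7d7e7ff0717273cc4d4e4fc04142439c1d1e1f98191a1b941516179011121386078405838281, 914, 183, 0x0, []⟩]

theorem t7_13_225 : jobs 7 S8 b7_13 j7_13_225 = true := by decide +kernel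

noncomputable def j7_13_226 : List Job := [
  ⟨3, 0xfc7d7e7ff0717273cc4d4e4fc04142439c1d1e1f98191a1b941516179011121386078405838281, 731, 183, 0x0, []⟩]

theorem t7_13_226 : jobs 7 S8 b7_13 j7_13_226 = true := by decide +kernel

noncomputable def j7_13_227 : List Job := [
  ⟨3, 0xfc7d7e7ff0717273cc4d4e4fc04142439c1d1e1f98191a1b941516179011121386078405838281, 548, 183, 0x0, []⟩]

theorem t7_13_227 : jobs 7 S8 b7_13 j7_13_227 = true := by decide +kernel

noncomputable def j7_13_228 : List Job := [
  ⟨3, 0xfc7d7e7ff0717273cc4d4e4fc04142439c1d1e1f98191a1b941516179011121386078405838281, 365, 183, 0x2e20402e40402e60402e80502ea0502ec05030a04030c04030e04031005031205031405033204033404033604033804033a05033c05033e05034005037204037404037604037804037a05037c05037e0503800503b20403b40403b60403b80503ba0503bc0503da0403dc0403de0403e00503e20503e405, []⟩]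

theorem t7_13_228 : jobs 7 S8 b7_13 j7_13_228 = true := by decide +kernel

noncomputable def j7_13_229 : List Job := [
  ⟨3, 0xfc7d7e7ff0717273cc4d4e4fc04142439c1d1e1f98191a1b941516179011121386078405838281, 182, 183, 0x0, []⟩]

theorem t7_13_229 : jobs 7 S8 b7_13 j7_13_229 = true := by decide +kernel

noncomputable def j7_13_230 : List Job := [
  ⟨3, 0xfc7d7e7ff0717273cc4d4e4fc04142439c1d1e1f98191a1b941516179011121386078405838281, 0, 182, 0xa20600a40400a60500a80300b20300b40300b60300b80300ba0400bc0300ca0300cc0700ce0300d00300d20300d405, []⟩]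

theorem t7_13_230 : jobs 7 S8 b7_13 j7_13_230 = true := by decide +kernel

noncomputable def j7_13_231 : List Job := [
  ⟨2, 0xfc7d7e7ff4757677cc4d4e4fc041424386078405838281, 1032, 172, 0x0, []⟩]

theorem t7_13_231 : jobs 7 S8 b7_13 j7_13_231 = true := by decide +kernel

noncomputable def j7_13_232 : List Job := [
  ⟨2, 0xfc7d7e7ff4757677cc4d4e4fc041424386078405838281, 860, 172, 0x0, []⟩]

theorem t7_13_232 : jobs 7 S8 b7_13 j7_13_232 = true := by decide +kernel

noncomputable def j7_13_233 : List Job := [
  ⟨2, 0xfc7d7e7ff4757677cc4d4e4fc041424386078405838281, 688, 172, 0x0, []⟩]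

theorem t7_13_233 : jobs 7 S8 b7_13 j7_13_233 = true := by decide +kernel

noncomputable def j7_13_234 : List Job := [
  ⟨2, 0xfc7d7e7ff4757677cc4d4e4fc041424386078405838281, 516, 172, 0x0, []⟩]

theorem t7_13_234 : jobs 7 S8 b7_13 j7_13_234 = true := by decide +kernel

noncomputable def j7_13_235 : List Job := [
  ⟨2, 0xfc7d7e7ff4757677cc4d4e4fc041424386078405838281, 344, 172, 0x0, []⟩]

theorem t7_13_235 : jobs 7 S8 b7_13 j7_13_235 = true := by decide +kernel

noncomputable def j7_13_236 : List Job := [
  ⟨2, 0xfc7d7e7ff4757677cc4d4e4fc041424386078405838281, 172, 172, 0x0, []⟩]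

theorem t7_13_236 : jobs 7 S8 b7_13 j7_13_236 = true := by decide +kernel

noncomputable def j7_13_237 : List Job := [
  ⟨2, 0xfc7d7e7ff4757677cc4d4e4fc041424386078405838281, 0, 172, 0xae0400b00400b20400b40400b60400b80700ba0400bc0700c40400c60400c80400d00400d20700d406, []⟩]

theorem t7_13_237 : jobs 7 S8 b7_13 j7_13_237 = true := by decide +kernel

noncomputable def j7_13_238 : List Job := [
  ⟨1, 0xf8797a7bf0717273cc4d4e4fc04142439c1d1e1f98191a1b941516179011121386078405838281, 1059, 177, 0x0, []⟩]

theorem t7_13_238 : jobs 7 S8 b7_13 j7_13_238 = true := by decide +kernel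

noncomputable def j7_13_239 : List Job := [
  ⟨1, 0xf8797a7bf0717273cc4d4e4fc04142439c1d1e1f98191a1b941516179011121386078405838281, 882, 177, 0x0, []⟩]

theorem t7_13_239 : jobs 7 S8 b7_13 j7_13_239 = true := by decide +kernel

noncomputable def j7_13_240 : List Job := [
  ⟨1, 0xf8797a7bf0717273cc4d4e4fc04142439c1d1e1f98191a1b941516179011121386078405838281, 706, 176, 0x0, []⟩]

theorem t7_13_240 : jobs 7 S8 b7_13 j7_13_240 = true := by decide +kernel

noncomputable def j7_13_241 : List Job := [
  ⟨1, 0xf8797a7bf0717273cc4d4e4fc04142439c1d1e1f98191a1b941516179011121386078405838281, 529, 177, 0x0, []⟩]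

theorem t7_13_241 : jobs 7 S8 b7_13 j7_13_241 = true := by decide +kernel

noncomputable def j7_13_242 : List Job := [
  ⟨1, 0xf8797a7bf0717273cc4d4e4fc04142439c1d1e1f98191a1b941516179011121386078405838281, 353, 176, 0x2c40502f60402f80402fa0402fc04031e04032004032204032404034604034804034a04034c05034e05035005036e04037004037204037405037605037805039604039804039a04039c04039e0503a00503a20503a405, []⟩]

theorem t7_13_242 : jobs 7 S8 b7_13 j7_13_242 = true := by decide +kernel

noncomputable def j7_13_243 : List Job := [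
  ⟨1, 0xf8797a7bf0717273cc4d4e4fc04142439c1d1e1f98191a1b941516179011121386078405838281, 176, 177, 0x2b60402b80402ba0402bc0402be0502c00502c205, []⟩]

theorem t7_13_243 : jobs 7 S8 b7_13 j7_13_243 = true := by decide +kernel

noncomputable def j7_13_244 : List Job := [
  ⟨1, 0xf8797a7bf0717273cc4d4e4fc04142439c1d1e1f98191a1b941516179011121386078405838281, 0, 176, 0x9e0400a00400a20700a40300a60700a80700aa0700ac0400be0300c00300c20500ca0300cc0300ce05, []⟩]

theorem t7_13_244 : jobs 7 S8 b7_13 j7_13_244 = true := by decide +kernel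

noncomputable def j7_13_245 : List Job := [
  ⟨0, 0xfc7d7e7ff4757677cc4d4e4fc0414243941516179011121386078405838281, 1045, 175, 0x0, []⟩]

theorem t7_13_245 : jobs 7 S8 b7_13 j7_13_245 = true := by decide +kernel

noncomputable def j7_13_246 : List Job := [
  ⟨0, 0xfc7d7e7ff4757677cc4d4e4fc0414243941516179011121386078405838281, 871, 174, 0x0, []⟩]

theorem t7_13_246 : jobs 7 S8 b7_13 j7_13_246 = true := by decide +kernel

noncomputable def j7_13_247 : List Job := [
  ⟨0, 0xfc7d7e7ff4757677cc4d4e4fc0414243941516179011121386078405838281, 697, 174, 0x0, []⟩]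

theorem t7_13_247 : jobs 7 S8 b7_13 j7_13_247 = true := by decide +kernel

noncomputable def j7_13_248 : List Job := [
  ⟨0, 0xfc7d7e7ff4757677cc4d4e4fc0414243941516179011121386078405838281, 522, 175, 0x0, []⟩]

theorem t7_13_248 : jobs 7 S8 b7_13 j7_13_248 = true := by decide +kernel

noncomputable def j7_13_249 : List Job := [
  ⟨0, 0xfc7d7e7ff4757677cc4d4e4fc0414243941516179011121386078405838281, 348, 174, 0x0, []⟩]

theorem t7_13_249 : jobs 7 S8 b7_13 j7_13_249 = true := by decide +kernel

noncomputable def j7_13_250 : List Job := [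
  ⟨0, 0xfc7d7e7ff4757677cc4d4e4fc0414243941516179011121386078405838281, 174, 174, 0x0, []⟩]

theorem t7_13_250 : jobs 7 S8 b7_13 j7_13_250 = true := by decide +kernel

noncomputable def j7_13_251 : List Job := [
  ⟨0, 0xfc7d7e7ff4757677cc4d4e4fc0414243941516179011121386078405838281, 0, 174, 0x6e03007003007203007a03007c06007e05008005008203008403009203009406009603009803009a07009c03009e0600a00500da0200dc0200de0200e00200e20200e40200e60200e80200fa0200fc0200fe02010002010a02010c02010e02011002011202011402011602011802012a02012c02012e02013002, []⟩]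

theorem t7_13_251 : jobs 7 S8 b7_13 j7_13_251 = true := by decide +kernel

noncomputable def j7_14_0 : List Job := [
  ⟨31, 0xfc7d7e7fec6d6e6f8c0d0e0f88090a0b86078405838281, 3961, 199, 0x0, []⟩]

theorem t7_14_0 : jobs 7 S8 b7_14 j7_14_0 = true := by decide +kernel

noncomputable def j7_14_1 : List Job := [
  ⟨31, 0xfc7d7e7fec6d6e6f8c0d0e0f88090a0b86078405838281, 3763, 198, 0x0, []⟩]

theorem t7_14_1 : jobs 7 S8 b7_14 j7_14_1 = true := by decide +kernel

noncomputable def j7_14_2 : List Job := [
  ⟨31, 0xfc7d7e7fec6d6e6f8c0d0e0f88090a0b86078405838281, 3565, 198, 0x0, []⟩]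

theorem t7_14_2 : jobs 7 S8 b7_14 j7_14_2 = true := by decide +kernel

noncomputable def j7_14_3 : List Job := [
  ⟨31, 0xfc7d7e7fec6d6e6f8c0d0e0f88090a0b86078405838281, 3367, 198, 0x0, []⟩]

theorem t7_14_3 : jobs 7 S8 b7_14 j7_14_3 = true := by decide +kernel

noncomputable def j7_14_4 : List Job := [
  ⟨31, 0xfc7d7e7fec6d6e6f8c0d0e0f88090a0b86078405838281, 3169, 198, 0x0, []⟩]

theorem t7_14_4 : jobs 7 S8 b7_14 j7_14_4 = true := by decide +kernel

noncomputable def j7_14_5 : List Job := [
  ⟨31, 0xfc7d7e7fec6d6e6f8c0d0e0f88090a0b86078405838281, 2971, 198, 0x0, []⟩]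

theorem t7_14_5 : jobs 7 S8 b7_14 j7_14_5 = true := by decide +kernel

noncomputable def j7_14_6 : List Job := [
  ⟨31, 0xfc7d7e7fec6d6e6f8c0d0e0f88090a0b86078405838281, 2773, 198, 0x0, []⟩]

theorem t7_14_6 : jobs 7 S8 b7_14 j7_14_6 = true := by decide +kernel

noncomputable def j7_14_7 : List Job := [
  ⟨31, 0xfc7d7e7fec6d6e6f8c0d0e0f88090a0b86078405838281, 2575, 198, 0x0, []⟩]

theorem t7_14_7 : jobs 7 S8 b7_14 j7_14_7 = true := by decide +kernel

noncomputable def j7_14_8 : List Job := [
  ⟨31, 0xfc7d7e7fec6d6e6f8c0d0e0f88090a0b86078405838281, 2377, 198, 0x0, []⟩]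

theorem t7_14_8 : jobs 7 S8 b7_14 j7_14_8 = true := by decide +kernel

noncomputable def j7_14_9 : List Job := [
  ⟨31, 0xfc7d7e7fec6d6e6f8c0d0e0f88090a0b86078405838281, 2179, 198, 0x0, []⟩]

theorem t7_14_9 : jobs 7 S8 b7_14 j7_14_9 = true := by decide +kernel

noncomputable def j7_14_10 : List Job := [
  ⟨31, 0xfc7d7e7fec6d6e6f8c0d0e0f88090a0b86078405838281, 1980, 199, 0x0, []⟩]

theorem t7_14_10 : jobs 7 S8 b7_14 j7_14_10 = true := by decide +kernel

noncomputable def j7_14_11 : List Job := [
  ⟨31, 0xfc7d7e7fec6d6e6f8c0d0e0f88090a0b86078405838281, 1782, 198, 0x0, []⟩]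

theorem t7_14_11 : jobs 7 S8 b7_14 j7_14_11 = true := by decide +kernel

noncomputable def j7_14_12 : List Job := [
  ⟨31, 0xfc7d7e7fec6d6e6f8c0d0e0f88090a0b86078405838281, 1584, 198, 0x0, []⟩]

theorem t7_14_12 : jobs 7 S8 b7_14 j7_14_12 = true := by decide +kernel

noncomputable def j7_14_13 : List Job := [
  ⟨31, 0xfc7d7e7fec6d6e6f8c0d0e0f88090a0b86078405838281, 1386, 198, 0x0, []⟩]

theorem t7_14_13 : jobs 7 S8 b7_14 j7_14_13 = true := by decide +kernel

noncomputable def j7_14_14 : List Job := [
  ⟨31, 0xfc7d7e7fec6d6e6f8c0d0e0f88090a0b86078405838281, 1188, 198, 0x0, []⟩]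

theorem t7_14_14 : jobs 7 S8 b7_14 j7_14_14 = true := by decide +kernel

noncomputable def j7_14_15 : List Job := [
  ⟨31, 0xfc7d7e7fec6d6e6f8c0d0e0f88090a0b86078405838281, 990, 198, 0x0, []⟩]

theorem t7_14_15 : jobs 7 S8 b7_14 j7_14_15 = true := by decide +kernel

noncomputable def j7_14_16 : List Job := [
  ⟨31, 0xfc7d7e7fec6d6e6f8c0d0e0f88090a0b86078405838281, 792, 198, 0x0, []⟩]

theorem t7_14_16 : jobs 7 S8 b7_14 j7_14_16 = true := by decide +kernel

noncomputable def j7_14_17 : List Job := [
  ⟨31, 0xfc7d7e7fec6d6e6f8c0d0e0f88090a0b86078405838281, 594, 198, 0x0, []⟩]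

theorem t7_14_17 : jobs 7 S8 b7_14 j7_14_17 = true := by decide +kernel

noncomputable def j7_14_18 : List Job := [
  ⟨31, 0xfc7d7e7fec6d6e6f8c0d0e0f88090a0b86078405838281, 396, 198, 0x0, []⟩]

theorem t7_14_18 : jobs 7 S8 b7_14 j7_14_18 = true := by decide +kernel

noncomputable def j7_14_19 : List Job := [
  ⟨31, 0xfc7d7e7fec6d6e6f8c0d0e0f88090a0b86078405838281, 198, 198, 0x0, []⟩]

theorem t7_14_19 : jobs 7 S8 b7_14 j7_14_19 = true := by decide +kernel

noncomputable def j7_14_20 : List Job := [
  ⟨31, 0xfc7d7e7fec6d6e6f8c0d0e0f88090a0b86078405838281, 0, 198, 0x405000807000c03001003001c04002003003403003803004c03005003005406005805005c04006006006c05007003008403008805009c0300a00300b40300b80300bc0300c00400d40300d80400dc0300e00700e40500e80500ec0400f006010406010807010c05011006, []⟩]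

theorem t7_14_20 : jobs 7 S8 b7_14 j7_14_20 = true := by decide +kernel

end Cfsg.Agent.FS.Sw
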