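import Cfsg.Agent.FS.Sw.Seg
import Cfsg.Agent.FS.Gen.L7

/-! The filter on the pairs for the order 256, part 12 (generated; helper79, project FS) -/

set_option autoImplicit false
set_option maxRecDepth 100000
set_option Elab.async false

namespace Cfsg.Agent.FS.Sw

open Gen

noncomputable def j7_35_7 : List Job := [
  ⟨24, 0xd8595a5b5c5d5e5fc041424344454647aa2b2c2da8292e2fa2232627a0212425890b880a838281, 0, 132, 0x204000404000a04001a05001e05002005004a05004c0400520400540500d20400d40400da0400de0500e00500e60500f60500fa0400fc04, []⟩]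

theorem t7_35_7 : jobs 7 S8 b7_35 j7_35_7 = true := by decide +kernel

noncomputable def j7_35_8 : List Job := [
  ⟨23, 0xd95a5c5fd85b5d5e87868584838281, 0, 160, 0x0, []⟩]

theorem t7_35_8 : jobs 7 S8 b7_35 j7_35_8 = true := by decide +kernel

noncomputable def j7_35_9 : List Job := [
  ⟨22, 0xc04142434445464787868584838281, 0, 160, 0x0, []⟩]

theorem t7_35_9 : jobs 7 S8 b7_35 j7_35_9 = true := by decide +kernel

noncomputable def j7_35_10 : List Job := [
  ⟨21, 0xd95a5c5fd85b5d5eaa2b2c2da8292e2fa2232627a021242587868584838281, 0, 110, 0x9205009404009605009804009a04, []⟩]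

theorem t7_35_10 : jobs 7 S8 b7_35 j7_35_10 = true := by decide +kernel

noncomputable def j7_35_11 : List Job := [
  ⟨20, 0xc041424344454647aa2b2c2da8292e2fa2232627a021242587868584838281, 0, 160, 0x0, []⟩]

theorem t7_35_11 : jobs 7 S8 b7_35 j7_35_11 = true := by decide +kernel

noncomputable def j7_35_12 : List Job := [
  ⟨19, 0x87868584838281, 0, 160, 0x0, []⟩]

theorem t7_35_12 : jobs 7 S8 b7_35 j7_35_12 = true := by decide +kernel

noncomputable def j7_35_13 : List Job := [
  ⟨18, 0xd8595a5b5c5d5e5fc1434547c042444687868584838281, 0, 160, 0x0, []⟩]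

theorem t7_35_13 : jobs 7 S8 b7_35 j7_35_13 = true := by decide +kernel

noncomputable def j7_35_14 : List Job := [
  ⟨17, 0xaa2b2c2da8292e2fa2232627a021242587868584838281, 0, 160, 0x0, []⟩]

theorem t7_35_14 : jobs 7 S8 b7_35 j7_35_14 = true := by decide +kernel

noncomputable def j7_35_15 : List Job := [
  ⟨16, 0xd95a5d5ed85b5c5faa2b2c2da8292e2f87868584838281, 0, 160, 0x0, []⟩]

theorem t7_35_15 : jobs 7 S8 b7_35 j7_35_15 = true := by decide +kernel

noncomputable def j7_35_16 : List Job := [
  ⟨15, 0xc041424344454647aa2b2c2da8292e2f87868584838281, 0, 160, 0x0, []⟩]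

theorem t7_35_16 : jobs 7 S8 b7_35 j7_35_16 = true := by decide +kernel

noncomputable def j7_35_17 : List Job := [
  ⟨14, 0xc041424344454647a327a226a125a02487868584838281, 0, 160, 0x202000402000a02000c02002202002402002a02002c02008202008402008a05008c0400a20200a40200aa0500ac04010202010402010a02010c02011202011402011a02011c02012203012405012a04012c03013203013405013a04013c03, []⟩]

theorem t7_35_17 : jobs 7 S8 b7_35 j7_35_17 = true := by decide +kernel

noncomputable def j7_35_18 : List Job := [
  ⟨13, 0xaa2b2c2da8292e2f87868584838281, 0, 160, 0x0, []⟩]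

theorem t7_35_18 : jobs 7 S8 b7_35 j7_35_18 = true := by decide +kernel

noncomputable def j7_35_19 : List Job := [
  ⟨12, 0xd8595a5b5c5d5e5fc1434547c0424446aa2b2c2da8292e2f87868584838281, 0, 160, 0x0, []⟩]

theorem t7_35_19 : jobs 7 S8 b7_35 j7_35_19 = true := by decide +kernel

noncomputable def j7_35_20 : List Job := [
  ⟨11, 0xa327a226a125a02487868584838281, 0, 160, 0x202000402000a02000c02002202002402002a02002c02008205008404008a05008c0500a20500a40500aa0500ac04010202010402010a02010c02011205011402011a02011c02012203012404012a05012c04013203013404013a05013c04, []⟩]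

theorem t7_35_20 : jobs 7 S8 b7_35 j7_35_20 = true := by decide +kernel

noncomputable def j7_35_21 : List Job := [
  ⟨10, 0xc04142434445464787868584838281, 0, 100, 0x0, []⟩,
  ⟨9, 0xc041424344454647aa2b2c2da8292e2fa2232627a021242587868584838281, 0, 100, 0x0, []⟩]

theorem t7_35_21 : jobs 7 S8 b7_35 j7_35_21 = true := by decide +kernel

noncomputable def j7_35_22 : List Job := [
  ⟨8, 0xc04142434445464787868584838281, 0, 100, 0x0, []⟩,
  ⟨7, 0xc041424344454647aa2b2c2da8292e2fa2232627a021242587868584838281, 0, 100, 0x0, []⟩]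

theorem t7_35_22 : jobs 7 S8 b7_35 j7_35_22 = true := by decide +kernel

noncomputable def j7_35_23 : List Job := [
  ⟨6, 0x87868584838281, 0, 66, 0x0, []⟩,
  ⟨5, 0xd8595a5b5c5d5e5fc04142434445464787868584838281, 0, 68, 0x0, []⟩,
  ⟨4, 0xaa2b2c2da8292e2fa2232627a021242587868584838281, 0, 68, 0x0, []⟩]

theorem t7_35_23 : jobs 7 S8 b7_35 j7_35_23 = true := by decide +kernel

noncomputable def j7_35_24 : List Job := [
  ⟨3, 0xd8595a5b5c5d5e5fc041424344454647aa2b2c2da8292e2fa2232627a021242587868584838281, 0, 73, 0x9201, []⟩]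

theorem t7_35_24 : jobs 7 S8 b7_35 j7_35_24 = true := by decide +kernel

noncomputable def j7_35_25 : List Job := [
  ⟨2, 0xc041424344454647a2232627a021242587868584838281, 0, 160, 0x0, []⟩]

theorem t7_35_25 : jobs 7 S8 b7_35 j7_35_25 = true := by decide +kernel

noncomputable def j7_35_26 : List Job := [
  ⟨1, 0xa2232627a021242587868584838281, 0, 100, 0x0, []⟩,
  ⟨0, 0xd95b5c5ed85a5d5fc1434547c0424446a2232627a021242587868584838281, 0, 104, 0xca0100cc0100ce0100d001, []⟩]

theorem t7_35_26 : jobs 7 S8 b7_35 j7_35_26 = true := by decide +kernel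

noncomputable def j7_36_0 : List Job := [
  ⟨31, 0xb8393a3b3c3d3e3fb031323334353637a1232527a022242687868584838281, 0, 160, 0x0, []⟩,
  ⟨30, 0xc04142434445464787868584838281, 0, 70, 0x0, []⟩]

theorem t7_36_0 : jobs 7 S8 b7_36 j7_36_0 = true := by decide +kernel

noncomputable def j7_36_1 : List Job := [
  ⟨29, 0xc041424344454647b8393a3b3c3d3e3fb031323334353637a8292a2b2c2d2e2fa02122232425262787868584838281, 0, 34, 0x0, []⟩,
  ⟨28, 0xc041424344454647a8292a2b2c2d2e2fa02122232425262787868584838281, 0, 100, 0x0, []⟩,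
  ⟨27, 0xa8292a2b2c2d2e2fa02122232425262787868584838281, 0, 68, 0x0, []⟩]

theorem t7_36_1 : jobs 7 S8 b7_36 j7_36_1 = true := by decide +kernel

noncomputable def j7_36_2 : List Job := [
  ⟨26, 0xd8595a5b5c5d5e5fc041424344454647a8292a2b2c2d2e2fa02122232425262787868584838281, 0, 43, 0x0, []⟩,
  ⟨25, 0xb8393a3b3c3d3e3f8c0d0e0f88090a0b87868584838281, 0, 160, 0x0, []⟩]

theorem t7_36_2 : jobs 7 S8 b7_36 j7_36_2 = true := by decide +kernel

noncomputable def j7_36_3 : List Job := [
  ⟨24, 0xd95a5c5fd85b5d5ec041424344454647b8393a3b3c3d3e3f8c0d0e0f88090a0b87868584838281, 0, 160, 0x0, []⟩]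

theorem t7_36_3 : jobs 7 S8 b7_36 j7_36_3 = true := by decide +kernel

noncomputable def j7_36_4 : List Job := [
  ⟨23, 0xb031323334353637a92a2c2fa82b2d2ea1232527a02224268c0d0e0f88090a0b87868584838281, 0, 160, 0x200000400000a00000c00001200001400001a00001c00002200002400002a00002c00003200003400003a00003c00, [(29, ⟨200, 0x900040005000300008000c0004010601, 0xee0407360080c03⟩), (28, ⟨185, 0x800010005000300004000c0002000601, 0xb806052400c0802⟩), (25, ⟨186, 0xb00010004000200006000c0102000401, 0xbd1201040050a02⟩), (24, ⟨200, 0xa00010004000200006000c0102000401, 0xb91201040050a02⟩), (21, ⟨240, 0x90004000300010000800060104000200, 0x790403010080201⟩), (20, ⟨231, 0xec01c0005000400006010a000c000800, 0xe5010c030010305⟩), (17, ⟨154, 0x2000b000100050000401020006000a00, 0xeec308020050604⟩), (16, ⟨153, 0xb000900010004000020106000c000800, 0xf6010c320010307⟩), (13, ⟨236, 0xb0005000300010000a01060106000200, 0x6a25030100f0301⟩), (12, ⟨232, 0x10009000e00040000400060008000c01, 0xbc810f78002080c⟩), (9, ⟨233, 0x50009200200010000c00060104000200,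 0x7519020100a0201⟩), (8, ⟨192, 0x40008000200010000800040104000200, 0x640802010080201⟩), (5, ⟨173, 0xb0006000500010000c010a0006000200, 0xee1307310050301⟩), (4, ⟨173, 0x80006000400010000a01080004000200, 0xd80206210040201⟩), (1, ⟨124, 0x90004000200010000601080004000200, 0xb90402010040201⟩), (0, ⟨57, 0x80004000200010000001080004000200, 0x880402010040201⟩)]⟩]

theorem t7_36_4 : jobs 7 S8 b7_36 j7_36_4 = true := by decide +kernel

noncomputable def j7_36_5 : List Job := [
  ⟨22, 0xd8595a5b5c5d5e5fb8393a3b3c3d3e3f8c0d0e0f88090a0b87868584838281, 0, 160, 0x0, []⟩]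

theorem t7_36_5 : jobs 7 S8 b7_36 j7_36_5 = true := by decide +kernel

noncomputable def j7_36_6 : List Job := [
  ⟨21, 0xc1434547c0424446b8393a3b3c3d3e3f8c0d0e0f88090a0b87868584838281, 0, 160, 0x0, []⟩]

theorem t7_36_6 : jobs 7 S8 b7_36 j7_36_6 = true := by decide +kernel

noncomputable def j7_36_7 : List Job := [
  ⟨20, 0xd8595a5b5c5d5e5fb031323334353637a92a2c2fa82b2d2ea1232527a02224268c0d0e0f88090a0b87868584838281, 0, 110, 0x200000400000a00000c00001200001400001a00002000002600002c00009a06, [(21, ⟨201, 0xb200080010000400006000600408000801, 0xbd3201040050a02⟩), (18, ⟨241, 0x900020000c000200008000300410000400, 0x790403010080201⟩), (15, ⟨154, 0x2000400004000800004008100010001000, 0xa40108020010204⟩), (12, ⟨186, 0x3000080010001e00002000200418001801, 0xeb320c040050a08⟩), (9, ⟨232, 0x500048000800020000c000300410000400, 0x7509020100a0201⟩), (8, ⟨179, 0x4000180028000200004008600408000c00, 0xb728050100c0302⟩), (5, ⟨174, 0xb20030001400020000e008500018000400, 0xfe0307310050301⟩), (4, ⟨173, 0x8000300010000200008008400010000400,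 0xc80206210040201⟩), (1, ⟨124, 0x8000200008000200002008400010000400, 0x980402010040201⟩), (0, ⟨58, 0x8000200008000200000008400010000400, 0x880402010040201⟩)]⟩]

theorem t7_36_7 : jobs 7 S8 b7_36 j7_36_7 = true := by decide +kernel

noncomputable def j7_36_8 : List Job := [
  ⟨19, 0xa2232627a021242588090a0b838281, 128, 128, 0x10205010404010a05010c05012205012405012a05012c04018203018404018a03018c0301a20301a40301aa0301ac03, []⟩]

theorem t7_36_8 : jobs 7 S8 b7_36 j7_36_8 = true := by decide +kernel

noncomputable def j7_36_9 : List Job := [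
  ⟨19, 0xa2232627a021242588090a0b838281, 0, 128, 0x0, []⟩]

theorem t7_36_9 : jobs 7 S8 b7_36 j7_36_9 = true := by decide +kernel

noncomputable def j7_36_10 : List Job := [
  ⟨18, 0xd8595a5b5c5d5e5fc041424344454647a2232627a021242588090a0b838281, 128, 128, 0x10204010404010a05010c04012205012405012a05012c04018203018403018a03018c0301a20301a40301aa0301ac03, []⟩]

theorem t7_36_10 : jobs 7 S8 b7_36 j7_36_10 = true := by decide +kernel

noncomputable def j7_36_11 : List Job := [
  ⟨18, 0xd8595a5b5c5d5e5fc041424344454647a2232627a021242588090a0b838281, 0, 128, 0x0, []⟩]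

theorem t7_36_11 : jobs 7 S8 b7_36 j7_36_11 = true := by decide +kernel

noncomputable def j7_36_12 : List Job := [
  ⟨17, 0xd8595a5b5c5d5e5fa2232627a021242588090a0b838281, 128, 128, 0x10204010404010a03010c03012205012405012a03012c03018203018403018a03018c0301a20301a40301aa0301ac03, []⟩]

theorem t7_36_12 : jobs 7 S8 b7_36 j7_36_12 = true := by decide +kernel

noncomputable def j7_36_13 : List Job := [
  ⟨17, 0xd8595a5b5c5d5e5fa2232627a021242588090a0b838281, 0, 128, 0x0, []⟩]

theorem t7_36_13 : jobs 7 S8 b7_36 j7_36_13 = true := by decide +kernel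

noncomputable def j7_36_14 : List Job := [
  ⟨16, 0xc041424344454647a2232627a021242588090a0b838281, 128, 128, 0x10204010403010a05010c05012205012405012a03012c03018203018403018a03018c0301a20301a40301aa0301ac03, []⟩]

theorem t7_36_14 : jobs 7 S8 b7_36 j7_36_14 = true := by decide +kernel

noncomputable def j7_36_15 : List Job := [
  ⟨16, 0xc041424344454647a2232627a021242588090a0b838281, 0, 128, 0x0, []⟩]

theorem t7_36_15 : jobs 7 S8 b7_36 j7_36_15 = true := by decide +kernel

noncomputable def j7_36_16 : List Job := [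
  ⟨15, 0x88090a0b838281, 0, 144, 0x0, []⟩]

theorem t7_36_16 : jobs 7 S8 b7_36 j7_36_16 = true := by decide +kernel

noncomputable def j7_36_17 : List Job := [
  ⟨14, 0xd8595a5b5c5d5e5fc04142434445464788090a0b838281, 0, 144, 0x0, []⟩]

theorem t7_36_17 : jobs 7 S8 b7_36 j7_36_17 = true := by decide +kernel

noncomputable def j7_36_18 : List Job := [
  ⟨13, 0xaa2b2c2da8292e2fa2232627a021242588090a0b838281, 0, 144, 0x204000404000a04001a07001e05002005005207005404005a04005c07006206006406006a05006c05, []⟩]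

theorem t7_36_18 : jobs 7 S8 b7_36 j7_36_18 = true := by decide +kernel

noncomputable def j7_36_19 : List Job := [
  ⟨12, 0xd8595a5b5c5d5e5fc041424344454647aa2b2c2da8292e2fa2232627a021242588090a0b838281, 0, 144, 0x204000404000a06001a05001e05002005005204005404005a04005c07006205006406006a00006c06, [(52, ⟨237, 0x8a001000b0005000040006010e000200, 0xd8b50ee400b0801⟩)]⟩]

theorem t7_36_19 : jobs 7 S8 b7_36 j7_36_19 = true := by decide +kernel

noncomputable def j7_36_20 : List Job := [
  ⟨11, 0xc04142434445464788090a0b838281, 128, 128, 0x0, []⟩]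

theorem t7_36_20 : jobs 7 S8 b7_36 j7_36_20 = true := by decide +kernel

noncomputable def j7_36_21 : List Job := [
  ⟨11, 0xc04142434445464788090a0b838281, 0, 128, 0x0, []⟩]

theorem t7_36_21 : jobs 7 S8 b7_36 j7_36_21 = true := by decide +kernel

noncomputable def j7_36_22 : List Job := [
  ⟨10, 0xc041424344454647aa2b2c2da8292e2fa2232627a021242588090a0b838281, 128, 128, 0x0, []⟩]

theorem t7_36_22 : jobs 7 S8 b7_36 j7_36_22 = true := by decide +kernel

noncomputable def j7_36_23 : List Job := [
  ⟨10, 0xc041424344454647aa2b2c2da8292e2fa2232627a021242588090a0b838281, 0, 128, 0x206000404000a06000c06002207002407002a05002c07008207008407008a07008c07009205009406009a06009c0600a20600a40600aa0500ac0600b20400b40700ba0700bc04, []⟩]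

theorem t7_36_23 : jobs 7 S8 b7_36 j7_36_23 = true := by decide +kernel

noncomputable def j7_36_24 : List Job := [
  ⟨9, 0xc041424344454647a2232627a021242588090a0b838281, 128, 128, 0x10206010406010a05010c05012207012407012a03012c03018203018406018a04018c0301a20301a40301aa0301ac05, []⟩]

theorem t7_36_24 : jobs 7 S8 b7_36 j7_36_24 = true := by decide +kernel

noncomputable def j7_36_25 : List Job := [
  ⟨9, 0xc041424344454647a2232627a021242588090a0b838281, 0, 128, 0x0, []⟩]

theorem t7_36_25 : jobs 7 S8 b7_36 j7_36_25 = true := by decide +kernel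

noncomputable def j7_36_26 : List Job := [
  ⟨8, 0xa2232627a021242588090a0b838281, 0, 160, 0xa20500a60300a80500ba0700bc0300c204010203010404010a06010c04, []⟩]

theorem t7_36_26 : jobs 7 S8 b7_36 j7_36_26 = true := by decide +kernel

noncomputable def j7_36_27 : List Job := [
  ⟨7, 0xd8595a5b5c5d5e5fc041424344454647a2232627a021242588090a0b838281, 0, 160, 0xa20500a60500a80300ba0300bc0400c204010203010403010a03010c03, []⟩]

theorem t7_36_27 : jobs 7 S8 b7_36 j7_36_27 = true := by decide +kernel

noncomputable def j7_36_28 : List Job := [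
  ⟨6, 0xc041424344454647a2232627a021242588090a0b838281, 128, 128, 0x10203010403010a07010c07012205012405012a03012c03018203018406018a04018c0301a20301a40301aa0301ac05, []⟩]

theorem t7_36_28 : jobs 7 S8 b7_36 j7_36_28 = true := by decide +kernel

noncomputable def j7_36_29 : List Job := [
  ⟨6, 0xc041424344454647a2232627a021242588090a0b838281, 0, 128, 0x0, []⟩]

theorem t7_36_29 : jobs 7 S8 b7_36 j7_36_29 = true := by decide +kernel

noncomputable def j7_36_30 : List Job := [
  ⟨5, 0xa2232627a021242588090a0b838281, 0, 160, 0xa20400a60700a80300ba0500bc0500c205010203010404010a06010c04, []⟩]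

theorem t7_36_30 : jobs 7 S8 b7_36 j7_36_30 = true := by decide +kernel

noncomputable def j7_36_31 : List Job := [
  ⟨4, 0xd8595a5b5c5d5e5fc041424344454647a2232627a021242588090a0b838281, 0, 160, 0xa20400a60300a80400ba0500bc0500c205010203010403010a03010c03, []⟩]

theorem t7_36_31 : jobs 7 S8 b7_36 j7_36_31 = true := by decide +kernel

noncomputable def j7_36_32 : List Job := [
  ⟨3, 0xc041424344454647890b880a838281, 0, 160, 0x2207002407002a07002c07003602003807003e07004002, []⟩]

theorem t7_36_32 : jobs 7 S8 b7_36 j7_36_32 = true := by decide +kernel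

noncomputable def j7_36_33 : List Job := [
  ⟨2, 0xc041424344454647aa2b2c2da8292e2fa2232627a0212425890b880a838281, 0, 160, 0x206000406000a06000c06002207002407002a07002c07003205003407003a02003c02006207006406006a06006c07007206007407007a07007c07, []⟩]

theorem t7_36_33 : jobs 7 S8 b7_36 j7_36_33 = true := by decide +kernel

noncomputable def j7_36_34 : List Job := [
  ⟨1, 0x890b880a838281, 0, 104, 0x1a07001e07002005002807002e07003002, []⟩]

theorem t7_36_34 : jobs 7 S8 b7_36 j7_36_34 = true := by decide +kernel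

noncomputable def j7_36_35 : List Job := [
  ⟨0, 0xd8595a5b5c5d5e5fc041424344454647890b880a838281, 0, 104, 0x1a07001e07002007002807002e07003007, []⟩]

theorem t7_36_35 : jobs 7 S8 b7_36 j7_36_35 = true := by decide +kernel

noncomputable def j7_37_0 : List Job := [
  ⟨31, 0xd95a5c5fd85b5d5ec0414243444546478c0d0e0f88090a0b87868584838281, 0, 200, 0x18405018605018c05018e05, []⟩]

theorem t7_37_0 : jobs 7 S8 b7_37 j7_37_0 = true := by decide +kernel

noncomputable def j7_37_1 : List Job := [
  ⟨30, 0xd8595a5b5c5d5e5f8c0d0e0f88090a0b87868584838281, 0, 200, 0x10201010601010a01010e01, []⟩]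

theorem t7_37_1 : jobs 7 S8 b7_37 j7_37_1 = true := by decide +kernel

noncomputable def j7_37_2 : List Job := [
  ⟨29, 0xc1434547c04244468c0d0e0f88090a0b87868584838281, 0, 160, 0x0, []⟩]

theorem t7_37_2 : jobs 7 S8 b7_37 j7_37_2 = true := by decide +kernel

noncomputable def j7_37_3 : List Job := [
  ⟨28, 0xd8595a5b5c5d5e5f8c0d0e0f88090a0b87868584838281, 0, 160, 0x0, []⟩]

theorem t7_37_3 : jobs 7 S8 b7_37 j7_37_3 = true := by decide +kernel

noncomputable def j7_37_4 : List Job := [
  ⟨27, 0xc1434547c04244468c0d0e0f88090a0b87868584838281, 0, 110, 0xd20500d40100d60100d80100da0100dc01, []⟩]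

theorem t7_37_4 : jobs 7 S8 b7_37 j7_37_4 = true := by decide +kernel

noncomputable def j7_37_5 : List Job := [
  ⟨26, 0xb8393a3b3c3d3e3f88090a0b838281, 0, 160, 0x0, []⟩]

theorem t7_37_5 : jobs 7 S8 b7_37 j7_37_5 = true := by decide +kernel

noncomputable def j7_37_6 : List Job := [
  ⟨25, 0xd8595a5b5c5d5e5fc041424344454647b8393a3b3c3d3e3f88090a0b838281, 0, 160, 0x0, []⟩]

theorem t7_37_6 : jobs 7 S8 b7_37 j7_37_6 = true := by decide +kernel

noncomputable def j7_37_7 : List Job := [
  ⟨24, 0xb031323334353637a8292a2b2c2d2e2fa02122232425262788090a0b838281, 0, 160, 0x0, []⟩]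

theorem t7_37_7 : jobs 7 S8 b7_37 j7_37_7 = true := by decide +kernel

noncomputable def j7_37_8 : List Job := [
  ⟨23, 0xd8595a5b5c5d5e5fc041424344454647b031323334353637a8292a2b2c2d2e2fa02122232425262788090a0b838281, 0, 160, 0x0, []⟩]

theorem t7_37_8 : jobs 7 S8 b7_37 j7_37_8 = true := by decide +kernel

noncomputable def j7_37_9 : List Job := [
  ⟨22, 0xc041424344454647b8393a3b3c3d3e3f88090a0b838281, 128, 128, 0x0, []⟩]

theorem t7_37_9 : jobs 7 S8 b7_37 j7_37_9 = true := by decide +kernel

noncomputable def j7_37_10 : List Job := [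
  ⟨22, 0xc041424344454647b8393a3b3c3d3e3f88090a0b838281, 0, 128, 0x0, []⟩]

theorem t7_37_10 : jobs 7 S8 b7_37 j7_37_10 = true := by decide +kernel

noncomputable def j7_37_11 : List Job := [
  ⟨21, 0xc041424344454647b031323334353637a8292a2b2c2d2e2fa02122232425262788090a0b838281, 128, 128, 0x0, []⟩]

theorem t7_37_11 : jobs 7 S8 b7_37 j7_37_11 = true := by decide +kernel

noncomputable def j7_37_12 : List Job := [
  ⟨21, 0xc041424344454647b031323334353637a8292a2b2c2d2e2fa02122232425262788090a0b838281, 0, 128, 0x0, []⟩]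

theorem t7_37_12 : jobs 7 S8 b7_37 j7_37_12 = true := by decide +kernel

noncomputable def j7_37_13 : List Job := [
  ⟨20, 0xc041424344454647b8393a3b3c3d3e3fa02122232425262788090a0b838281, 0, 160, 0x0, []⟩]

theorem t7_37_13 : jobs 7 S8 b7_37 j7_37_13 = true := by decide +kernel

noncomputable def j7_37_14 : List Job := [
  ⟨19, 0xb8393a3b3c3d3e3fa02122232425262788090a0b838281, 0, 104, 0x0, []⟩,
  ⟨18, 0xd8595a5b5c5d5e5fc041424344454647b8393a3b3c3d3e3fa02122232425262788090a0b838281, 0, 104, 0x0, []⟩]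

theorem t7_37_14 : jobs 7 S8 b7_37 j7_37_14 = true := by decide +kernel

noncomputable def j7_37_15 : List Job := [
  ⟨17, 0xc041424344454647b031323334353637a02122232425262788090a0b838281, 0, 160, 0x0, []⟩]

theorem t7_37_15 : jobs 7 S8 b7_37 j7_37_15 = true := by decide +kernel

noncomputable def j7_37_16 : List Job := [
  ⟨16, 0xb031323334353637a02122232425262788090a0b838281, 0, 104, 0x0, []⟩,
  ⟨15, 0xd8595a5b5c5d5e5fc041424344454647b031323334353637a02122232425262788090a0b838281, 0, 104, 0x0, []⟩]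

theorem t7_37_16 : jobs 7 S8 b7_37 j7_37_16 = true := by decide +kernel

noncomputable def j7_37_17 : List Job := [
  ⟨14, 0xc041424344454647a8292a2b2c2d2e2fa021222324252627890b880a838281, 0, 160, 0x2205002407002a03002c02003205003407003a02003c02, []⟩]

theorem t7_37_17 : jobs 7 S8 b7_37 j7_37_17 = true := by decide +kernel

noncomputable def j7_37_18 : List Job := [
  ⟨13, 0xa8292a2b2c2d2e2fa021222324252627890b880a838281, 0, 104, 0x1a05001e03002005002605002a02002c05, []⟩]

theorem t7_37_18 : jobs 7 S8 b7_37 j7_37_18 = true := by decide +kernel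

noncomputable def j7_37_19 : List Job := [
  ⟨12, 0xd8595a5b5c5d5e5fc041424344454647a8292a2b2c2d2e2fa021222324252627890b880a838281, 0, 104, 0x1a07001e02002007002607002a02002c07, []⟩]

theorem t7_37_19 : jobs 7 S8 b7_37 j7_37_19 = true := by decide +kernel

noncomputable def j7_37_20 : List Job := [
  ⟨11, 0xc041424344454647890b880a838281, 0, 112, 0x1a05001c07001e03002003002205002407002605002807002a02002c02002e02003002, []⟩]

theorem t7_37_20 : jobs 7 S8 b7_37 j7_37_20 = true := by decide +kernel

noncomputable def j7_37_21 : List Job := [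
  ⟨10, 0xc041424344454647b8393a3b3c3d3e3fb031323334353637a8292a2b2c2d2e2fa021222324252627890b880a838281, 0, 112, 0x2205002407002a02002c02, []⟩,
  ⟨9, 0x890b880a838281, 0, 76, 0x1405001603001805001a05001c05001e02002005002202002405, []⟩]

theorem t7_37_21 : jobs 7 S8 b7_37 j7_37_21 = true := by decide +kernel

noncomputable def j7_37_22 : List Job := [
  ⟨8, 0xd8595a5b5c5d5e5fc041424344454647890b880a838281, 0, 76, 0x1407001603001807001a07001c07001e02002007002202002407, []⟩,
  ⟨7, 0xb8393a3b3c3d3e3fb031323334353637a8292a2b2c2d2e2fa021222324252627890b880a838281, 0, 76, 0x1a05001e02002005, []⟩]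

theorem t7_37_22 : jobs 7 S8 b7_37 j7_37_22 = true := by decide +kernel

noncomputable def j7_37_23 : List Job := [
  ⟨6, 0xd8595a5b5c5d5e5fc041424344454647b8393a3b3c3d3e3fb031323334353637a8292a2b2c2d2e2fa021222324252627890b880a838281, 0, 97, 0x1a07001e02002007, []⟩]

theorem t7_37_23 : jobs 7 S8 b7_37 j7_37_23 = true := by decide +kernel

noncomputable def j7_37_24 : List Job := [
  ⟨5, 0xd95a5c5fd85b5d5ea92a2c2fa82b2d2e87868584838281, 0, 160, 0x0, []⟩]

theorem t7_37_24 : jobs 7 S8 b7_37 j7_37_24 = true := by decide +kernel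

noncomputable def j7_37_25 : List Job := [
  ⟨4, 0xc041424344454647a92a2c2fa82b2d2e87868584838281, 0, 160, 0x0, []⟩]

theorem t7_37_25 : jobs 7 S8 b7_37 j7_37_25 = true := by decide +kernel

noncomputable def j7_37_26 : List Job := [
  ⟨3, 0xd95a5c5fd85b5d5eb8393a3b3c3d3e3fb031323334353637a1232527a022242687868584838281, 0, 200, 0x18404018804018c04019004, []⟩]

theorem t7_37_26 : jobs 7 S8 b7_37 j7_37_26 = true := by decide +kernel

noncomputable def j7_37_27 : List Job := [
  ⟨2, 0xc041424344454647b8393a3b3c3d3e3fb031323334353637a1232527a022242687868584838281, 0, 160, 0x0, []⟩]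

theorem t7_37_27 : jobs 7 S8 b7_37 j7_37_27 = true := by decide +kernel

noncomputable def j7_37_28 : List Job := [
  ⟨1, 0xa92a2c2fa82b2d2e87868584838281, 0, 160, 0x0, []⟩]

theorem t7_37_28 : jobs 7 S8 b7_37 j7_37_28 = true := by decide +kernel

noncomputable def j7_37_29 : List Job := [
  ⟨0, 0xd8595a5b5c5d5e5fc1434547c0424446a92a2c2fa82b2d2e87868584838281, 0, 160, 0x0, []⟩]

theorem t7_37_29 : jobs 7 S8 b7_37 j7_37_29 = true := by decide +kernel

noncomputable def j7_38_0 : List Job := [
  ⟨31, 0xd8595a5b5c5d5e5fa1232527a02224268c0d0e0f88090a0b87868584838281, 0, 160, 0x0, []⟩]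

theorem t7_38_0 : jobs 7 S8 b7_38 j7_38_0 = true := by decide +kernel

noncomputable def j7_38_1 : List Job := [
  ⟨30, 0x88090a0b838281, 128, 128, 0x0, []⟩]

theorem t7_38_1 : jobs 7 S8 b7_38 j7_38_1 = true := by decide +kernel

noncomputable def j7_38_2 : List Job := [
  ⟨30, 0x88090a0b838281, 0, 128, 0x0, []⟩]

theorem t7_38_2 : jobs 7 S8 b7_38 j7_38_2 = true := by decide +kernel

noncomputable def j7_38_3 : List Job := [
  ⟨29, 0xd8595a5b5c5d5e5fc04142434445464788090a0b838281, 128, 128, 0x0, []⟩]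

theorem t7_38_3 : jobs 7 S8 b7_38 j7_38_3 = true := by decide +kernel

noncomputable def j7_38_4 : List Job := [
  ⟨29, 0xd8595a5b5c5d5e5fc04142434445464788090a0b838281, 0, 128, 0x0, []⟩]

theorem t7_38_4 : jobs 7 S8 b7_38 j7_38_4 = true := by decide +kernel

noncomputable def j7_38_5 : List Job := [
  ⟨28, 0xd8595a5b5c5d5e5f88090a0b838281, 128, 128, 0x0, []⟩]

theorem t7_38_5 : jobs 7 S8 b7_38 j7_38_5 = true := by decide +kernel

noncomputable def j7_38_6 : List Job := [
  ⟨28, 0xd8595a5b5c5d5e5f88090a0b838281, 0, 128, 0x0, []⟩]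

theorem t7_38_6 : jobs 7 S8 b7_38 j7_38_6 = true := by decide +kernel

noncomputable def j7_38_7 : List Job := [
  ⟨27, 0xc04142434445464788090a0b838281, 128, 128, 0x0, []⟩]

theorem t7_38_7 : jobs 7 S8 b7_38 j7_38_7 = true := by decide +kernel

noncomputable def j7_38_8 : List Job := [
  ⟨27, 0xc04142434445464788090a0b838281, 0, 128, 0x0, []⟩]

theorem t7_38_8 : jobs 7 S8 b7_38 j7_38_8 = true := by decide +kernel

noncomputable def j7_38_9 : List Job := [
  ⟨26, 0xc04142434445464788090a0b838281, 0, 160, 0x0, []⟩]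

theorem t7_38_9 : jobs 7 S8 b7_38 j7_38_9 = true := by decide +kernel

noncomputable def j7_38_10 : List Job := [
  ⟨25, 0x88090a0b838281, 0, 104, 0x0, []⟩,
  ⟨24, 0xd8595a5b5c5d5e5fc04142434445464788090a0b838281, 0, 104, 0x0, []⟩]

theorem t7_38_10 : jobs 7 S8 b7_38 j7_38_10 = true := by decide +kernel

noncomputable def j7_38_11 : List Job := [
  ⟨23, 0xc04142434445464788090a0b838281, 0, 160, 0x0, []⟩]

theorem t7_38_11 : jobs 7 S8 b7_38 j7_38_11 = true := by decide +kernel

noncomputable def j7_38_12 : List Job := [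
  ⟨22, 0x88090a0b838281, 0, 104, 0x0, []⟩,
  ⟨21, 0xd8595a5b5c5d5e5fc04142434445464788090a0b838281, 0, 104, 0x0, []⟩]

theorem t7_38_12 : jobs 7 S8 b7_38 j7_38_12 = true := by decide +kernel

noncomputable def j7_38_13 : List Job := [
  ⟨20, 0xc041424344454647890b880a838281, 0, 160, 0x2602002807002e07003002003602003802003e02004002, []⟩]

theorem t7_38_13 : jobs 7 S8 b7_38 j7_38_13 = true := by decide +kernel

noncomputable def j7_38_14 : List Job := [
  ⟨19, 0x890b880a838281, 0, 104, 0x1c07002207002402002802002e02003002, []⟩]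

theorem t7_38_14 : jobs 7 S8 b7_38 j7_38_14 = true := by decide +kernel

noncomputable def j7_38_15 : List Job := [
  ⟨18, 0xd8595a5b5c5d5e5fc041424344454647890b880a838281, 0, 104, 0x1c07002207002407002802002e02003002, []⟩]

theorem t7_38_15 : jobs 7 S8 b7_38 j7_38_15 = true := by decide +kernel

noncomputable def j7_38_16 : List Job := [
  ⟨17, 0xc041424344454647890b880a838281, 0, 112, 0x1a05001c05001e05002002002205002407002605002805002a02002c02002e05003002, []⟩]

theorem t7_38_16 : jobs 7 S8 b7_38 j7_38_16 = true := by decide +kernel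

noncomputable def j7_38_17 : List Job := [
  ⟨16, 0xc041424344454647890b880a838281, 0, 112, 0x2602002807002e07003002, []⟩,
  ⟨15, 0x890b880a838281, 0, 76, 0x1405001605001805001a05001c05001e02002005002205002405, []⟩]

theorem t7_38_17 : jobs 7 S8 b7_38 j7_38_17 = true := by decide +kernel

noncomputable def j7_38_18 : List Job := [
  ⟨14, 0xd8595a5b5c5d5e5fc041424344454647890b880a838281, 0, 76, 0x1402001605001802001a07001c02001e02002007002205002402, []⟩,
  ⟨13, 0x890b880a838281, 0, 76, 0x1c07002207002402, []⟩]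

theorem t7_38_18 : jobs 7 S8 b7_38 j7_38_18 = true := by decide +kernel

noncomputable def j7_38_19 : List Job := [
  ⟨12, 0xd8595a5b5c5d5e5fc041424344454647890b880a838281, 0, 95, 0x1c07002207002407, []⟩]

theorem t7_38_19 : jobs 7 S8 b7_38 j7_38_19 = true := by decide +kernel

noncomputable def j7_38_20 : List Job := [
  ⟨11, 0xd95a5c5fd85b5d5e87868584838281, 0, 160, 0x0, []⟩]

theorem t7_38_20 : jobs 7 S8 b7_38 j7_38_20 = true := by decide +kernel

noncomputable def j7_38_21 : List Job := [
  ⟨10, 0xc04142434445464787868584838281, 0, 160, 0x0, []⟩]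

theorem t7_38_21 : jobs 7 S8 b7_38 j7_38_21 = true := by decide +kernel

noncomputable def j7_38_22 : List Job := [
  ⟨9, 0xd95a5c5fd85b5d5e87868584838281, 0, 110, 0xd40400d80400dc04, []⟩]

theorem t7_38_22 : jobs 7 S8 b7_38 j7_38_22 = true := by decide +kernel

noncomputable def j7_38_23 : List Job := [
  ⟨8, 0xc04142434445464787868584838281, 0, 160, 0x0, []⟩]

theorem t7_38_23 : jobs 7 S8 b7_38 j7_38_23 = true := by decide +kernel

noncomputable def j7_38_24 : List Job := [
  ⟨7, 0x87868584838281, 0, 160, 0x0, []⟩]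

theorem t7_38_24 : jobs 7 S8 b7_38 j7_38_24 = true := by decide +kernel

noncomputable def j7_38_25 : List Job := [
  ⟨6, 0xd8595a5b5c5d5e5fc1434547c042444687868584838281, 0, 160, 0x0, []⟩]

theorem t7_38_25 : jobs 7 S8 b7_38 j7_38_25 = true := by decide +kernel

noncomputable def j7_38_26 : List Job := [
  ⟨5, 0x87868584838281, 0, 160, 0x0, []⟩]

theorem t7_38_26 : jobs 7 S8 b7_38 j7_38_26 = true := by decide +kernel

noncomputable def j7_38_27 : List Job := [
  ⟨4, 0xc04142434445464787868584838281, 0, 100, 0x0, []⟩,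
  ⟨3, 0x87868584838281, 0, 41, 0x0, []⟩]

theorem t7_38_27 : jobs 7 S8 b7_38 j7_38_27 = true := by decide +kernel

noncomputable def j7_38_28 : List Job := [
  ⟨2, 0x8c0d0e0f88090a0b87868584838281, 0, 160, 0x0, []⟩]

theorem t7_38_28 : jobs 7 S8 b7_38 j7_38_28 = true := by decide +kernel

noncomputable def j7_38_29 : List Job := [
  ⟨1, 0xd95a5c5fd85b5d5ec0414243444546478c0d0e0f88090a0b87868584838281, 0, 200, 0x14201014601014a07014e01, []⟩]

theorem t7_38_29 : jobs 7 S8 b7_38 j7_38_29 = true := by decide +kernel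

noncomputable def j7_38_30 : List Job := [
  ⟨0, 0x8c0d0e0f88090a0b87868584838281, 0, 160, 0x0, []⟩]

theorem t7_38_30 : jobs 7 S8 b7_38 j7_38_30 = true := by decide +kernel

noncomputable def j7_39_0 : List Job := [
  ⟨31, 0x88090a0b838281, 0, 88, 0x0, []⟩]

theorem t7_39_0 : jobs 7 S8 b7_39 j7_39_0 = true := by decide +kernel

noncomputable def j7_39_1 : List Job := [
  ⟨30, 0xb8393a3b3c3d3e3fa02122232425262788090a0b838281, 0, 144, 0x0, []⟩]

theorem t7_39_1 : jobs 7 S8 b7_39 j7_39_1 = true := by decide +kernel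

noncomputable def j7_39_2 : List Job := [
  ⟨29, 0xd8595a5b5c5d5e5fc041424344454647b8393a3b3c3d3e3fa02122232425262788090a0b838281, 0, 88, 0x0, []⟩,
  ⟨28, 0xa02122232425262788090a0b838281, 128, 128, 0x0, []⟩]

theorem t7_39_2 : jobs 7 S8 b7_39 j7_39_2 = true := by decide +kernel

noncomputable def j7_39_3 : List Job := [
  ⟨28, 0xa02122232425262788090a0b838281, 0, 128, 0x0, []⟩]

theorem t7_39_3 : jobs 7 S8 b7_39 j7_39_3 = true := by decide +kernel

noncomputable def j7_39_4 : List Job := [
  ⟨27, 0xd8595a5b5c5d5e5fc041424344454647a02122232425262788090a0b838281, 128, 128, 0x0, []⟩]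

theorem t7_39_4 : jobs 7 S8 b7_39 j7_39_4 = true := by decide +kernel

noncomputable def j7_39_5 : List Job := [
  ⟨27, 0xd8595a5b5c5d5e5fc041424344454647a02122232425262788090a0b838281, 0, 128, 0x0, []⟩]

theorem t7_39_5 : jobs 7 S8 b7_39 j7_39_5 = true := by decide +kernel

noncomputable def j7_39_6 : List Job := [
  ⟨26, 0xd8595a5b5c5d5e5fa02122232425262788090a0b838281, 0, 144, 0x0, []⟩]

theorem t7_39_6 : jobs 7 S8 b7_39 j7_39_6 = true := by decide +kernel

noncomputable def j7_39_7 : List Job := [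
  ⟨25, 0xc041424344454647a02122232425262788090a0b838281, 0, 144, 0x0, []⟩]

theorem t7_39_7 : jobs 7 S8 b7_39 j7_39_7 = true := by decide +kernel

noncomputable def j7_39_8 : List Job := [
  ⟨24, 0xc041424344454647a02122232425262788090a0b838281, 0, 144, 0x0, []⟩,
  ⟨23, 0x88090a0b838281, 0, 62, 0x0, []⟩]

theorem t7_39_8 : jobs 7 S8 b7_39 j7_39_8 = true := by decide +kernel

noncomputable def j7_39_9 : List Job := [
  ⟨22, 0xb8393a3b3c3d3e3fa02122232425262788090a0b838281, 0, 104, 0x0, []⟩,
  ⟨21, 0xd8595a5b5c5d5e5fc041424344454647b8393a3b3c3d3e3fa02122232425262788090a0b838281, 0, 62, 0x0, []⟩]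

theorem t7_39_9 : jobs 7 S8 b7_39 j7_39_9 = true := by decide +kernel

noncomputable def j7_39_10 : List Job := [
  ⟨20, 0xc04142434445464788090a0b838281, 0, 160, 0x0, []⟩]

theorem t7_39_10 : jobs 7 S8 b7_39 j7_39_10 = true := by decide +kernel

noncomputable def j7_39_11 : List Job := [
  ⟨19, 0xc041424344454647b8393a3b3c3d3e3fa02122232425262788090a0b838281, 0, 160, 0x0, []⟩]

theorem t7_39_11 : jobs 7 S8 b7_39 j7_39_11 = true := by decide +kernel

noncomputable def j7_39_12 : List Job := [
  ⟨18, 0xc041424344454647a021222324252627890b880a838281, 0, 144, 0x1605001805001a07001c05001e02002007002207002402002602002802, []⟩]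

theorem t7_39_12 : jobs 7 S8 b7_39 j7_39_12 = true := by decide +kernel

noncomputable def j7_39_13 : List Job := [
  ⟨17, 0xc041424344454647890b880a838281, 0, 160, 0x1a05001c02001e05002005002205002407002605002805002a02002c02002e05003002, []⟩]

theorem t7_39_13 : jobs 7 S8 b7_39 j7_39_13 = true := by decide +kernel

noncomputable def j7_39_14 : List Job := [
  ⟨16, 0xc041424344454647b8393a3b3c3d3e3fa021222324252627890b880a838281, 0, 160, 0x1a02001c07001e07002002002205002407002602002807002a02002c02002e07003002, []⟩]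

theorem t7_39_14 : jobs 7 S8 b7_39 j7_39_14 = true := by decide +kernel

noncomputable def j7_39_15 : List Job := [
  ⟨15, 0x890b880a838281, 0, 62, 0xe05001005001205001402001605001805, []⟩,
  ⟨14, 0xb8393a3b3c3d3e3fa021222324252627890b880a838281, 0, 104, 0x1407001607001802001a05001c07001e02002005002207002402, []⟩]

theorem t7_39_15 : jobs 7 S8 b7_39 j7_39_15 = true := by decide +kernel

noncomputable def j7_39_16 : List Job := [
  ⟨13, 0xd8595a5b5c5d5e5fc041424344454647b8393a3b3c3d3e3fa021222324252627890b880a838281, 0, 81, 0xe07001007001207001402001607001807, []⟩]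

theorem t7_39_16 : jobs 7 S8 b7_39 j7_39_16 = true := by decide +kernel

noncomputable def j7_39_17 : List Job := [
  ⟨12, 0xd95a5d5ed85b5c5fa02122232425262787868584838281, 0, 160, 0x0, []⟩]

theorem t7_39_17 : jobs 7 S8 b7_39 j7_39_17 = true := by decide +kernel

noncomputable def j7_39_18 : List Job := [
  ⟨11, 0xc041424344454647a02122232425262787868584838281, 0, 92, 0x0, []⟩]

theorem t7_39_18 : jobs 7 S8 b7_39 j7_39_18 = true := by decide +kernel

noncomputable def j7_39_19 : List Job := [
  ⟨10, 0xd95a5c5fd85b5d5e87868584838281, 0, 160, 0x0, []⟩]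

theorem t7_39_19 : jobs 7 S8 b7_39 j7_39_19 = true := by decide +kernel

noncomputable def j7_39_20 : List Job := [
  ⟨9, 0xc04142434445464787868584838281, 0, 160, 0x0, []⟩]

theorem t7_39_20 : jobs 7 S8 b7_39 j7_39_20 = true := by decide +kernel

noncomputable def j7_39_21 : List Job := [
  ⟨8, 0xc041424344454647b8393a3b3c3d3e3fa1232527a022242687868584838281, 0, 160, 0x0, []⟩]

theorem t7_39_21 : jobs 7 S8 b7_39 j7_39_21 = true := by decide +kernel

noncomputable def j7_39_22 : List Job := [
  ⟨7, 0x87868584838281, 0, 92, 0x0, []⟩]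

theorem t7_39_22 : jobs 7 S8 b7_39 j7_39_22 = true := by decide +kernel

noncomputable def j7_39_23 : List Job := [
  ⟨6, 0xb8393a3b3c3d3e3fa1232527a022242687868584838281, 0, 160, 0x0, []⟩,
  ⟨5, 0xc041424344454647a02122232425262787868584838281, 0, 40, 0x0, []⟩]

theorem t7_39_23 : jobs 7 S8 b7_39 j7_39_23 = true := by decide +kernel

noncomputable def j7_39_24 : List Job := [
  ⟨4, 0x8c0d0e0f88090a0b87868584838281, 0, 92, 0x0, []⟩]

theorem t7_39_24 : jobs 7 S8 b7_39 j7_39_24 = true := by decide +kernel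

noncomputable def j7_39_25 : List Job := [
  ⟨3, 0xb93a3d3eb83b3c3fa0212223242526278c0d0e0f88090a0b87868584838281, 0, 160, 0x0, []⟩]

theorem t7_39_25 : jobs 7 S8 b7_39 j7_39_25 = true := by decide +kernel

noncomputable def j7_39_26 : List Job := [
  ⟨2, 0xb8393a3b3c3d3e3f8c0d0e0f88090a0b87868584838281, 0, 160, 0x0, []⟩]

theorem t7_39_26 : jobs 7 S8 b7_39 j7_39_26 = true := by decide +kernel

noncomputable def j7_39_27 : List Job := [
  ⟨1, 0xd95a5c5fd85b5d5ec041424344454647b8393a3b3c3d3e3f8c0d0e0f88090a0b87868584838281, 0, 110, 0xd20100d806, []⟩]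

theorem t7_39_27 : jobs 7 S8 b7_39 j7_39_27 = true := by decide +kernel

noncomputable def j7_39_28 : List Job := [
  ⟨0, 0xa1232527a02224268c0d0e0f88090a0b87868584838281, 0, 160, 0x0, []⟩]

theorem t7_39_28 : jobs 7 S8 b7_39 j7_39_28 = true := by decide +kernel

noncomputable def j7_40_0 : List Job := [
  ⟨31, 0xd051525354555657a02122232425262788090a0b838281, 0, 144, 0x0, []⟩]

theorem t7_40_0 : jobs 7 S8 b7_40 j7_40_0 = true := by decide +kernel

noncomputable def j7_40_1 : List Job := [
  ⟨30, 0xc041424344454647a02122232425262788090a0b838281, 0, 144, 0x0, []⟩]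

theorem t7_40_1 : jobs 7 S8 b7_40 j7_40_1 = true := by decide +kernel

noncomputable def j7_40_2 : List Job := [
  ⟨29, 0xa02122232425262788090a0b838281, 128, 128, 0x0, []⟩]

theorem t7_40_2 : jobs 7 S8 b7_40 j7_40_2 = true := by decide +kernel

noncomputable def j7_40_3 : List Job := [
  ⟨29, 0xa02122232425262788090a0b838281, 0, 128, 0x0, []⟩]

theorem t7_40_3 : jobs 7 S8 b7_40 j7_40_3 = true := by decide +kernel

noncomputable def j7_40_4 : List Job := [
  ⟨28, 0xd051525354555657c041424344454647a02122232425262788090a0b838281, 128, 128, 0x0, []⟩]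

theorem t7_40_4 : jobs 7 S8 b7_40 j7_40_4 = true := by decide +kernel

noncomputable def j7_40_5 : List Job := [
  ⟨28, 0xd051525354555657c041424344454647a02122232425262788090a0b838281, 0, 128, 0x0, []⟩]

theorem t7_40_5 : jobs 7 S8 b7_40 j7_40_5 = true := by decide +kernel

noncomputable def j7_40_6 : List Job := [
  ⟨27, 0xc041424344454647a02122232425262788090a0b838281, 0, 144, 0x0, []⟩]

theorem t7_40_6 : jobs 7 S8 b7_40 j7_40_6 = true := by decide +kernel

noncomputable def j7_40_7 : List Job := [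
  ⟨26, 0xc04142434445464788090a0b838281, 0, 160, 0x0, []⟩]

theorem t7_40_7 : jobs 7 S8 b7_40 j7_40_7 = true := by decide +kernel

noncomputable def j7_40_8 : List Job := [
  ⟨25, 0xc041424344454647b8393a3b3c3d3e3fa02122232425262788090a0b838281, 0, 160, 0x0, []⟩,
  ⟨24, 0x88090a0b838281, 0, 62, 0x0, []⟩]

theorem t7_40_8 : jobs 7 S8 b7_40 j7_40_8 = true := by decide +kernel

noncomputable def j7_40_9 : List Job := [
  ⟨23, 0xb8393a3b3c3d3e3fa02122232425262788090a0b838281, 0, 104, 0x0, []⟩,
  ⟨22, 0xd051525354555657c041424344454647b8393a3b3c3d3e3fa02122232425262788090a0b838281, 0, 62, 0x0, []⟩]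

theorem t7_40_9 : jobs 7 S8 b7_40 j7_40_9 = true := by decide +kernel

noncomputable def j7_40_10 : List Job := [
  ⟨21, 0xc041424344454647a021222324252627890b880a838281, 0, 144, 0x1605001805001a07001c05001e02002007002207002402002602002802, []⟩]

theorem t7_40_10 : jobs 7 S8 b7_40 j7_40_10 = true := by decide +kernel

noncomputable def j7_40_11 : List Job := [
  ⟨20, 0xc041424344454647890b880a838281, 0, 160, 0x1a05001c02001e05002005002205002407002605002805002a02002c02002e05003002, []⟩]

theorem t7_40_11 : jobs 7 S8 b7_40 j7_40_11 = true := by decide +kernel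

noncomputable def j7_40_12 : List Job := [
  ⟨19, 0xc041424344454647b8393a3b3c3d3e3fa021222324252627890b880a838281, 0, 160, 0x1a02001c07001e07002002002205002407002602002807002a02002c02002e07003002, []⟩]

theorem t7_40_12 : jobs 7 S8 b7_40 j7_40_12 = true := by decide +kernel

end Cfsg.Agent.FS.Sw
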