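import Cfsg.Agent.FS.Sw.Seg
import Cfsg.Agent.FS.Sw.D6
import Cfsg.Agent.FS.Sw.D7a
import Cfsg.Agent.FS.Sw.D7b
import Cfsg.Agent.FS.Sw.D7c
import Cfsg.Agent.FS.Sw.D7d
import Cfsg.Agent.FS.Sw.D7e
import Cfsg.Agent.FS.Sw.D7f
import Cfsg.Agent.FS.Sw.D7g
import Cfsg.Agent.FS.Sw.D7h
import Cfsg.Agent.FS.Sw.D7i
import Cfsg.Agent.FS.Sw.D7j
import Cfsg.Agent.FS.Sw.D7k
import Cfsg.Agent.FS.Sw.D7l
import Cfsg.Agent.FS.Sw.D7m
import Cfsg.Agent.FS.Sw.D7n
import Cfsg.Agent.FS.Sw.D7o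
import Cfsg.Agent.FS.Sw.D7p

/-! The filter on the pairs: all representatives are covered (generated; helper79, project FS) -/

set_option autoImplicit false
set_option maxRecDepth 100000
set_option Elab.async false

namespace Cfsg.Agent.FS.Sw

open Gen

theorem d2_0 : Dn 2 S3 b2_0 := dn_of (Js := j2_0_0 ++ [])
  (jobs_append t2_0_0 <| List.forall_mem_nil _) (by decide +kernel)

theorem dn2 : ∀ l ∈ L2, Dn 2 S3 l :=
  List.forall_mem_cons.2 <| And.intro d2_0 <|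
  List.forall_mem_nil _

theorem d3_0 : Dn 3 S4 b3_0 := dn_of (Js := j3_0_0 ++ [])
  (jobs_append t3_0_0 <| List.forall_mem_nil _) (by decide +kernel)

theorem dn3 : ∀ l ∈ L3, Dn 3 S4 l :=
  List.forall_mem_cons.2 <| And.intro d3_0 <|
  List.forall_mem_nil _

theorem d4_0 : Dn 4 S5 b4_0 := dn_of (Js := j4_0_0 ++ (j4_0_1 ++ []))
  (jobs_append t4_0_0 <| jobs_append t4_0_1 <| List.forall_mem_nil _) (by decide +kernel)

theorem dn4 : ∀ l ∈ L4, Dn 4 S5 l :=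
  List.forall_mem_cons.2 <| And.intro d4_0 <|
  List.forall_mem_nil _

theorem d5_0 : Dn 5 S6 b5_0 := dn_of (Js := j5_0_0 ++ (j5_0_1 ++ (j5_0_2 ++ (j5_0_3 ++ (j5_0_4 ++ (j5_0_5 ++ (j5_0_6 ++ [])))))))
  (jobs_append t5_0_0 <| jobs_append t5_0_1 <| jobs_append t5_0_2 <| jobs_append t5_0_3 <| jobs_append t5_0_4 <| jobs_append t5_0_5 <| jobs_append t5_0_6 <| List.forall_mem_nil _) (by decide +kernel)

theorem d5_1 : Dn 5 S6 b5_1 := dn_of (Js := j5_1_0 ++ (j5_1_1 ++ []))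
  (jobs_append t5_1_0 <| jobs_append t5_1_1 <| List.forall_mem_nil _) (by decide +kernel)

theorem dn5 : ∀ l ∈ L5, Dn 5 S6 l :=
  List.forall_mem_cons.2 <| And.intro d5_0 <|
  List.forall_mem_cons.2 <| And.intro d5_1 <|
  List.forall_mem_nil _

theorem d6_0 : Dn 6 S7 b6_0 := dn_of (Js := j6_0_0 ++ [])
  (jobs_append t6_0_0 <| List.forall_mem_nil _) (by decide +kernel)

theorem d6_1 : Dn 6 S7 b6_1 := dn_of (Js := j6_1_0 ++ (j6_1_1 ++ (j6_1_2 ++ (j6_1_3 ++ (j6_1_4 ++ (j6_1_5 ++ (j6_1_6 ++ [])))))))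
  (jobs_append t6_1_0 <| jobs_append t6_1_1 <| jobs_append t6_1_2 <| jobs_append t6_1_3 <| jobs_append t6_1_4 <| jobs_append t6_1_5 <| jobs_append t6_1_6 <| List.forall_mem_nil _) (by decide +kernel)

theorem d6_2 : Dn 6 S7 b6_2 := dn_of (Js := j6_2_0 ++ (j6_2_1 ++ (j6_2_2 ++ (j6_2_3 ++ (j6_2_4 ++ (j6_2_5 ++ (j6_2_6 ++ (j6_2_7 ++ (j6_2_8 ++ (j6_2_9 ++ []))))))))))
  (jobs_append t6_2_0 <| jobs_append t6_2_1 <| jobs_append t6_2_2 <| jobs_append t6_2_3 <| jobs_append t6_2_4 <| jobs_append t6_2_5 <| jobs_append t6_2_6 <| jobs_append t6_2_7 <| jobs_append t6_2_8 <| jobs_append t6_2_9 <| List.forall_mem_nil _) (by decide +kernel)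

theorem d6_3 : Dn 6 S7 b6_3 := dn_of (Js := j6_3_0 ++ (j6_3_1 ++ (j6_3_2 ++ (j6_3_3 ++ (j6_3_4 ++ (j6_3_5 ++ (j6_3_6 ++ (j6_3_7 ++ (j6_3_8 ++ (j6_3_9 ++ (j6_3_10 ++ (j6_3_11 ++ []))))))))))))
  (jobs_append t6_3_0 <| jobs_append t6_3_1 <| jobs_append t6_3_2 <| jobs_append t6_3_3 <| jobs_append t6_3_4 <| jobs_append t6_3_5 <| jobs_append t6_3_6 <| jobs_append t6_3_7 <| jobs_append t6_3_8 <| jobs_append t6_3_9 <| jobs_append t6_3_10 <| jobs_append t6_3_11 <| List.forall_mem_nil _) (by decide +kernel)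

theorem d6_4 : Dn 6 S7 b6_4 := dn_of (Js := j6_4_0 ++ (j6_4_1 ++ (j6_4_2 ++ (j6_4_3 ++ (j6_4_4 ++ (j6_4_5 ++ (j6_4_6 ++ (j6_4_7 ++ (j6_4_8 ++ (j6_4_9 ++ (j6_4_10 ++ [])))))))))))
  (jobs_append t6_4_0 <| jobs_append t6_4_1 <| jobs_append t6_4_2 <| jobs_append t6_4_3 <| jobs_append t6_4_4 <| jobs_append t6_4_5 <| jobs_append t6_4_6 <| jobs_append t6_4_7 <| jobs_append t6_4_8 <| jobs_append t6_4_9 <| jobs_append t6_4_10 <| List.forall_mem_nil _) (by decide +kernel)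

theorem d6_5 : Dn 6 S7 b6_5 := dn_of (Js := j6_5_0 ++ (j6_5_1 ++ (j6_5_2 ++ (j6_5_3 ++ (j6_5_4 ++ (j6_5_5 ++ (j6_5_6 ++ [])))))))
  (jobs_append t6_5_0 <| jobs_append t6_5_1 <| jobs_append t6_5_2 <| jobs_append t6_5_3 <| jobs_append t6_5_4 <| jobs_append t6_5_5 <| jobs_append t6_5_6 <| List.forall_mem_nil _) (by decide +kernel)

theorem d6_6 : Dn 6 S7 b6_6 := dn_of (Js := j6_6_0 ++ (j6_6_1 ++ (j6_6_2 ++ (j6_6_3 ++ (j6_6_4 ++ (j6_6_5 ++ []))))))
  (jobs_append t6_6_0 <| jobs_append t6_6_1 <| jobs_append t6_6_2 <| jobs_append t6_6_3 <| jobs_append t6_6_4 <| jobs_append t6_6_5 <| List.forall_mem_nil _) (by decide +kernel)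

theorem d6_7 : Dn 6 S7 b6_7 := dn_of (Js := j6_7_0 ++ (j6_7_1 ++ (j6_7_2 ++ [])))
  (jobs_append t6_7_0 <| jobs_append t6_7_1 <| jobs_append t6_7_2 <| List.forall_mem_nil _) (by decide +kernel)

theorem d6_8 : Dn 6 S7 b6_8 := dn_of (Js := j6_8_0 ++ (j6_8_1 ++ (j6_8_2 ++ [])))
  (jobs_append t6_8_0 <| jobs_append t6_8_1 <| jobs_append t6_8_2 <| List.forall_mem_nil _) (by decide +kernel)

theorem d6_9 : Dn 6 S7 b6_9 := dn_of (Js := j6_9_0 ++ (j6_9_1 ++ (j6_9_2 ++ [])))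
  (jobs_append t6_9_0 <| jobs_append t6_9_1 <| jobs_append t6_9_2 <| List.forall_mem_nil _) (by decide +kernel)

theorem d6_10 : Dn 6 S7 b6_10 := dn_of (Js := j6_10_0 ++ (j6_10_1 ++ (j6_10_2 ++ (j6_10_3 ++ (j6_10_4 ++ [])))))
  (jobs_append t6_10_0 <| jobs_append t6_10_1 <| jobs_append t6_10_2 <| jobs_append t6_10_3 <| jobs_append t6_10_4 <| List.forall_mem_nil _) (by decide +kernel)

theorem d6_11 : Dn 6 S7 b6_11 := dn_of (Js := j6_11_0 ++ (j6_11_1 ++ (j6_11_2 ++ [])))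
  (jobs_append t6_11_0 <| jobs_append t6_11_1 <| jobs_append t6_11_2 <| List.forall_mem_nil _) (by decide +kernel)

theorem d6_12 : Dn 6 S7 b6_12 := dn_of (Js := j6_12_0 ++ (j6_12_1 ++ (j6_12_2 ++ [])))
  (jobs_append t6_12_0 <| jobs_append t6_12_1 <| jobs_append t6_12_2 <| List.forall_mem_nil _) (by decide +kernel)

theorem d6_13 : Dn 6 S7 b6_13 := dn_of (Js := j6_13_0 ++ (j6_13_1 ++ []))
  (jobs_append t6_13_0 <| jobs_append t6_13_1 <| List.forall_mem_nil _) (by decide +kernel)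

theorem d6_14 : Dn 6 S7 b6_14 := dn_of (Js := j6_14_0 ++ (j6_14_1 ++ (j6_14_2 ++ (j6_14_3 ++ []))))
  (jobs_append t6_14_0 <| jobs_append t6_14_1 <| jobs_append t6_14_2 <| jobs_append t6_14_3 <| List.forall_mem_nil _) (by decide +kernel)

theorem d6_15 : Dn 6 S7 b6_15 := dn_of (Js := j6_15_0 ++ (j6_15_1 ++ []))
  (jobs_append t6_15_0 <| jobs_append t6_15_1 <| List.forall_mem_nil _) (by decide +kernel)

theorem d6_16 : Dn 6 S7 b6_16 := dn_of (Js := j6_16_0 ++ (j6_16_1 ++ []))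
  (jobs_append t6_16_0 <| jobs_append t6_16_1 <| List.forall_mem_nil _) (by decide +kernel)

theorem d6_17 : Dn 6 S7 b6_17 := dn_of (Js := j6_17_0 ++ [])
  (jobs_append t6_17_0 <| List.forall_mem_nil _) (by decide +kernel)

theorem dn6 : ∀ l ∈ L6, Dn 6 S7 l :=
  List.forall_mem_cons.2 <| And.intro d6_0 <|
  List.forall_mem_cons.2 <| And.intro d6_1 <|
  List.forall_mem_cons.2 <| And.intro d6_2 <|
  List.forall_mem_cons.2 <| And.intro d6_3 <|
  List.forall_mem_cons.2 <| And.intro d6_4 <|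
  List.forall_mem_cons.2 <| And.intro d6_5 <|
  List.forall_mem_cons.2 <| And.intro d6_6 <|
  List.forall_mem_cons.2 <| And.intro d6_7 <|
  List.forall_mem_cons.2 <| And.intro d6_8 <|
  List.forall_mem_cons.2 <| And.intro d6_9 <|
  List.forall_mem_cons.2 <| And.intro d6_10 <|
  List.forall_mem_cons.2 <| And.intro d6_11 <|
  List.forall_mem_cons.2 <| And.intro d6_12 <|
  List.forall_mem_cons.2 <| And.intro d6_13 <|
  List.forall_mem_cons.2 <| And.intro d6_14 <|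
  List.forall_mem_cons.2 <| And.intro d6_15 <|
  List.forall_mem_cons.2 <| And.intro d6_16 <|
  List.forall_mem_cons.2 <| And.intro d6_17 <|
  List.forall_mem_nil _

theorem d7_0 : Dn 7 S8 b7_0 := dn_of (Js := [])
  (List.forall_mem_nil _) (by decide +kernel)

theorem d7_1 : Dn 7 S8 b7_1 := dn_of (Js := j7_1_0 ++ [])
  (jobs_append t7_1_0 <| List.forall_mem_nil _) (by decide +kernel)

theorem d7_2 : Dn 7 S8 b7_2 := dn_of (Js := j7_2_0 ++ [])
  (jobs_append t7_2_0 <| List.forall_mem_nil _) (by decide +kernel)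

theorem d7_3 : Dn 7 S8 b7_3 := dn_of (Js := j7_3_0 ++ [])
  (jobs_append t7_3_0 <| List.forall_mem_nil _) (by decide +kernel)

theorem d7_4 : Dn 7 S8 b7_4 := dn_of (Js := j7_4_0 ++ [])
  (jobs_append t7_4_0 <| List.forall_mem_nil _) (by decide +kernel)

theorem d7_5 : Dn 7 S8 b7_5 := dn_of (Js := j7_5_0 ++ [])
  (jobs_append t7_5_0 <| List.forall_mem_nil _) (by decide +kernel)

theorem d7_6 : Dn 7 S8 b7_6 := dn_of (Js := j7_6_0 ++ [])
  (jobs_append t7_6_0 <| List.forall_mem_nil _) (by decide +kernel)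

theorem d7_7 : Dn 7 S8 b7_7 := dn_of (Js := j7_7_0 ++ (j7_7_1 ++ []))
  (jobs_append t7_7_0 <| jobs_append t7_7_1 <| List.forall_mem_nil _) (by decide +kernel)

theorem d7_8 : Dn 7 S8 b7_8 := dn_of (Js := j7_8_0 ++ [])
  (jobs_append t7_8_0 <| List.forall_mem_nil _) (by decide +kernel)

theorem d7_9 : Dn 7 S8 b7_9 := dn_of (Js := j7_9_0 ++ [])
  (jobs_append t7_9_0 <| List.forall_mem_nil _) (by decide +kernel)

theorem d7_10 : Dn 7 S8 b7_10 := dn_of (Js := j7_10_0 ++ (j7_10_1 ++ (j7_10_2 ++ (j7_10_3 ++ (j7_10_4 ++ (j7_10_5 ++ (j7_10_6 ++ (j7_10_7 ++ (j7_10_8 ++ (j7_10_9 ++ (j7_10_10 ++ (j7_10_11 ++ (j7_10_12 ++ (j7_10_13 ++ (j7_10_14 ++ (j7_10_15 ++ (j7_10_16 ++ (j7_10_17 ++ (j7_10_18 ++ (j7_10_19 ++ (j7_10_20 ++ (j7_10_21 ++ (j7_10_22 ++ (j7_10_23 ++ (j7_10_24 ++ (j7_10_25 ++ (j7_10_26 ++ (j7_10_27 ++ (j7_10_28 ++ (j7_10_29 ++ (j7_10_30 ++ (j7_10_31 ++ (j7_10_32 ++ (j7_10_33 ++ (j7_10_34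 ++ (j7_10_35 ++ (j7_10_36 ++ (j7_10_37 ++ (j7_10_38 ++ [])))))))))))))))))))))))))))))))))))))))
  (jobs_append t7_10_0 <| jobs_append t7_10_1 <| jobs_append t7_10_2 <| jobs_append t7_10_3 <| jobs_append t7_10_4 <| jobs_append t7_10_5 <| jobs_append t7_10_6 <| jobs_append t7_10_7 <| jobs_append t7_10_8 <| jobs_append t7_10_9 <| jobs_append t7_10_10 <| jobs_append t7_10_11 <| jobs_append t7_10_12 <| jobs_append t7_10_13 <| jobs_append t7_10_14 <| jobs_append t7_10_15 <| jobs_append t7_10_16 <| jobs_append t7_10_17 <| jobs_append t7_10_18 <| jobs_append t7_10_19 <| jobs_append t7_10_20 <| jobs_append t7_10_21 <| jobs_append t7_10_22 <| jobs_append t7_10_23 <| jobs_append t7_10_24 <| jobs_append t7_10_25 <| jobs_append t7_10_26 <| jobs_append t7_10_27 <| jobs_append t7_10_28 <| jobs_append t7_10_29 <| jobs_append t7_10_30 <| jobs_append t7_10_31 <| jobs_append t7_10_32 <| jobs_append t7_10_33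 <| jobs_append t7_10_34 <| jobs_append t7_10_35 <| jobs_append t7_10_36 <| jobs_append t7_10_37 <| jobs_append t7_10_38 <| List.forall_mem_nil _) (by decide +kernel)

theorem d7_11 : Dn 7 S8 b7_11 := dn_of (Js := j7_11_0 ++ (j7_11_1 ++ (j7_11_2 ++ (j7_11_3 ++ (j7_11_4 ++ (j7_11_5 ++ (j7_11_6 ++ (j7_11_7 ++ (j7_11_8 ++ (j7_11_9 ++ (j7_11_10 ++ (j7_11_11 ++ (j7_11_12 ++ (j7_11_13 ++ (j7_11_14 ++ (j7_11_15 ++ (j7_11_16 ++ (j7_11_17 ++ (j7_11_18 ++ (j7_11_19 ++ (j7_11_20 ++ (j7_11_21 ++ (j7_11_22 ++ (j7_11_23 ++ (j7_11_24 ++ (j7_11_25 ++ (j7_11_26 ++ (j7_11_27 ++ (j7_11_28 ++ (j7_11_29 ++ (j7_11_30 ++ (j7_11_31 ++ (j7_11_32 ++ (j7_11_33 ++ (j7_11_34 ++ (j7_11_35 ++ (j7_11_36 ++ (j7_11_37 ++ (j7_11_38 ++ (j7_11_39 ++ (j7_11_40 ++ (j7_11_41 ++ (j7_11_42 ++ (j7_11_43 ++ (j7_11_44 ++ (j7_11_45 ++ (j7_11_46 ++ (j7_11_47 ++ (j7_11_48 ++ (j7_11_49 ++ (j7_11_50 ++ (j7_11_51 ++ (j7_11_52 ++ (j7_11_53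 ++ (j7_11_54 ++ (j7_11_55 ++ (j7_11_56 ++ (j7_11_57 ++ (j7_11_58 ++ (j7_11_59 ++ (j7_11_60 ++ (j7_11_61 ++ (j7_11_62 ++ (j7_11_63 ++ (j7_11_64 ++ (j7_11_65 ++ (j7_11_66 ++ (j7_11_67 ++ (j7_11_68 ++ (j7_11_69 ++ (j7_11_70 ++ (j7_11_71 ++ (j7_11_72 ++ (j7_11_73 ++ (j7_11_74 ++ (j7_11_75 ++ (j7_11_76 ++ (j7_11_77 ++ (j7_11_78 ++ (j7_11_79 ++ (j7_11_80 ++ (j7_11_81 ++ (j7_11_82 ++ (j7_11_83 ++ (j7_11_84 ++ (j7_11_85 ++ (j7_11_86 ++ (j7_11_87 ++ (j7_11_88 ++ (j7_11_89 ++ []))))))))))))))))))))))))))))))))))))))))))))))))))))))))))))))))))))))))))))))))))))))))))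
  (jobs_append t7_11_0 <| jobs_append t7_11_1 <| jobs_append t7_11_2 <| jobs_append t7_11_3 <| jobs_append t7_11_4 <| jobs_append t7_11_5 <| jobs_append t7_11_6 <| jobs_append t7_11_7 <| jobs_append t7_11_8 <| jobs_append t7_11_9 <| jobs_append t7_11_10 <| jobs_append t7_11_11 <| jobs_append t7_11_12 <| jobs_append t7_11_13 <| jobs_append t7_11_14 <| jobs_append t7_11_15 <| jobs_append t7_11_16 <| jobs_append t7_11_17 <| jobs_append t7_11_18 <| jobs_append t7_11_19 <| jobs_append t7_11_20 <| jobs_append t7_11_21 <| jobs_append t7_11_22 <| jobs_append t7_11_23 <| jobs_append t7_11_24 <| jobs_append t7_11_25 <| jobs_append t7_11_26 <| jobs_append t7_11_27 <| jobs_append t7_11_28 <| jobs_append t7_11_29 <| jobs_append t7_11_30 <| jobs_append t7_11_31 <| jobs_append t7_11_32 <| jobs_append t7_11_33 <| jobs_append t7_11_34 <| jobs_append t7_11_35 <| jobs_append t7_11_36 <| jobs_append t7_11_37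 <| jobs_append t7_11_38 <| jobs_append t7_11_39 <| jobs_append t7_11_40 <| jobs_append t7_11_41 <| jobs_append t7_11_42 <| jobs_append t7_11_43 <| jobs_append t7_11_44 <| jobs_append t7_11_45 <| jobs_append t7_11_46 <| jobs_append t7_11_47 <| jobs_append t7_11_48 <| jobs_append t7_11_49 <| jobs_append t7_11_50 <| jobs_append t7_11_51 <| jobs_append t7_11_52 <| jobs_append t7_11_53 <| jobs_append t7_11_54 <| jobs_append t7_11_55 <| jobs_append t7_11_56 <| jobs_append t7_11_57 <| jobs_append t7_11_58 <| jobs_append t7_11_59 <| jobs_append t7_11_60 <| jobs_append t7_11_61 <| jobs_append t7_11_62 <| jobs_append t7_11_63 <| jobs_append t7_11_64 <| jobs_append t7_11_65 <| jobs_append t7_11_66 <| jobs_append t7_11_67 <| jobs_append t7_11_68 <| jobs_append t7_11_69 <| jobs_append t7_11_70 <| jobs_append t7_11_71 <| jobs_append t7_11_72 <| jobs_append t7_11_73 <| jobs_append t7_11_74 <| jobs_append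 t7_11_75 <| jobs_append t7_11_76 <| jobs_append t7_11_77 <| jobs_append t7_11_78 <| jobs_append t7_11_79 <| jobs_append t7_11_80 <| jobs_append t7_11_81 <| jobs_append t7_11_82 <| jobs_append t7_11_83 <| jobs_append t7_11_84 <| jobs_append t7_11_85 <| jobs_append t7_11_86 <| jobs_append t7_11_87 <| jobs_append t7_11_88 <| jobs_append t7_11_89 <| List.forall_mem_nil _) (by decide +kernel)

theorem d7_12 : Dn 7 S8 b7_12 := dn_of (Js := j7_12_0 ++ (j7_12_1 ++ (j7_12_2 ++ (j7_12_3 ++ (j7_12_4 ++ (j7_12_5 ++ (j7_12_6 ++ (j7_12_7 ++ (j7_12_8 ++ (j7_12_9 ++ (j7_12_10 ++ (j7_12_11 ++ (j7_12_12 ++ (j7_12_13 ++ (j7_12_14 ++ (j7_12_15 ++ (j7_12_16 ++ (j7_12_17 ++ (j7_12_18 ++ (j7_12_19 ++ (j7_12_20 ++ (j7_12_21 ++ (j7_12_22 ++ (j7_12_23 ++ (j7_12_24 ++ (j7_12_25 ++ (j7_12_26 ++ (j7_12_27 ++ (j7_12_28 ++ (j7_12_29 ++ (j7_12_30 ++ (j7_12_31 ++ (j7_12_32 ++ (j7_12_33 ++ (j7_12_34 ++ (j7_12_35 ++ (j7_12_36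 ++ (j7_12_37 ++ (j7_12_38 ++ (j7_12_39 ++ (j7_12_40 ++ (j7_12_41 ++ (j7_12_42 ++ (j7_12_43 ++ (j7_12_44 ++ (j7_12_45 ++ (j7_12_46 ++ (j7_12_47 ++ (j7_12_48 ++ (j7_12_49 ++ (j7_12_50 ++ (j7_12_51 ++ (j7_12_52 ++ (j7_12_53 ++ (j7_12_54 ++ (j7_12_55 ++ (j7_12_56 ++ (j7_12_57 ++ (j7_12_58 ++ (j7_12_59 ++ (j7_12_60 ++ (j7_12_61 ++ (j7_12_62 ++ (j7_12_63 ++ (j7_12_64 ++ (j7_12_65 ++ (j7_12_66 ++ (j7_12_67 ++ (j7_12_68 ++ (j7_12_69 ++ (j7_12_70 ++ (j7_12_71 ++ (j7_12_72 ++ (j7_12_73 ++ (j7_12_74 ++ (j7_12_75 ++ (j7_12_76 ++ (j7_12_77 ++ (j7_12_78 ++ (j7_12_79 ++ (j7_12_80 ++ (j7_12_81 ++ (j7_12_82 ++ (j7_12_83 ++ (j7_12_84 ++ (j7_12_85 ++ (j7_12_86 ++ (j7_12_87 ++ (j7_12_88 ++ (j7_12_89 ++ (j7_12_90 ++ (j7_12_91 ++ (j7_12_92 ++ (j7_12_93 ++ (j7_12_94 ++ (j7_12_95 ++ (j7_12_96 ++ (j7_12_97 ++ (j7_12_98 ++ (j7_12_99 ++ []))))))))))))))))))))))))))))))))))))))))))))))))))))))))))))))))))))))))))))))))))))))))))))))))))))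
  (jobs_append t7_12_0 <| jobs_append t7_12_1 <| jobs_append t7_12_2 <| jobs_append t7_12_3 <| jobs_append t7_12_4 <| jobs_append t7_12_5 <| jobs_append t7_12_6 <| jobs_append t7_12_7 <| jobs_append t7_12_8 <| jobs_append t7_12_9 <| jobs_append t7_12_10 <| jobs_append t7_12_11 <| jobs_append t7_12_12 <| jobs_append t7_12_13 <| jobs_append t7_12_14 <| jobs_append t7_12_15 <| jobs_append t7_12_16 <| jobs_append t7_12_17 <| jobs_append t7_12_18 <| jobs_append t7_12_19 <| jobs_append t7_12_20 <| jobs_append t7_12_21 <| jobs_append t7_12_22 <| jobs_append t7_12_23 <| jobs_append t7_12_24 <| jobs_append t7_12_25 <| jobs_append t7_12_26 <| jobs_append t7_12_27 <| jobs_append t7_12_28 <| jobs_append t7_12_29 <| jobs_append t7_12_30 <| jobs_append t7_12_31 <| jobs_append t7_12_32 <| jobs_append t7_12_33 <| jobs_append t7_12_34 <| jobs_append t7_12_35 <| jobs_append t7_12_36 <| jobs_append t7_12_37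 <| jobs_append t7_12_38 <| jobs_append t7_12_39 <| jobs_append t7_12_40 <| jobs_append t7_12_41 <| jobs_append t7_12_42 <| jobs_append t7_12_43 <| jobs_append t7_12_44 <| jobs_append t7_12_45 <| jobs_append t7_12_46 <| jobs_append t7_12_47 <| jobs_append t7_12_48 <| jobs_append t7_12_49 <| jobs_append t7_12_50 <| jobs_append t7_12_51 <| jobs_append t7_12_52 <| jobs_append t7_12_53 <| jobs_append t7_12_54 <| jobs_append t7_12_55 <| jobs_append t7_12_56 <| jobs_append t7_12_57 <| jobs_append t7_12_58 <| jobs_append t7_12_59 <| jobs_append t7_12_60 <| jobs_append t7_12_61 <| jobs_append t7_12_62 <| jobs_append t7_12_63 <| jobs_append t7_12_64 <| jobs_append t7_12_65 <| jobs_append t7_12_66 <| jobs_append t7_12_67 <| jobs_append t7_12_68 <| jobs_append t7_12_69 <| jobs_append t7_12_70 <| jobs_append t7_12_71 <| jobs_append t7_12_72 <| jobs_append t7_12_73 <| jobs_append t7_12_74 <| jobs_append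 t7_12_75 <| jobs_append t7_12_76 <| jobs_append t7_12_77 <| jobs_append t7_12_78 <| jobs_append t7_12_79 <| jobs_append t7_12_80 <| jobs_append t7_12_81 <| jobs_append t7_12_82 <| jobs_append t7_12_83 <| jobs_append t7_12_84 <| jobs_append t7_12_85 <| jobs_append t7_12_86 <| jobs_append t7_12_87 <| jobs_append t7_12_88 <| jobs_append t7_12_89 <| jobs_append t7_12_90 <| jobs_append t7_12_91 <| jobs_append t7_12_92 <| jobs_append t7_12_93 <| jobs_append t7_12_94 <| jobs_append t7_12_95 <| jobs_append t7_12_96 <| jobs_append t7_12_97 <| jobs_append t7_12_98 <| jobs_append t7_12_99 <| List.forall_mem_nil _) (by decide +kernel)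

theorem d7_13 : Dn 7 S8 b7_13 := dn_of (Js := j7_13_0 ++ (j7_13_1 ++ (j7_13_2 ++ (j7_13_3 ++ (j7_13_4 ++ (j7_13_5 ++ (j7_13_6 ++ (j7_13_7 ++ (j7_13_8 ++ (j7_13_9 ++ (j7_13_10 ++ (j7_13_11 ++ (j7_13_12 ++ (j7_13_13 ++ (j7_13_14 ++ (j7_13_15 ++ (j7_13_16 ++ (j7_13_17 ++ (j7_13_18 ++ (j7_13_19 ++ (j7_13_20 ++ (j7_13_21 ++ (j7_13_22 ++ (j7_13_23 ++ (j7_13_24 ++ (j7_13_25 ++ (j7_13_26 ++ (j7_13_27 ++ (j7_13_28 ++ (j7_13_29 ++ (j7_13_30 ++ (j7_13_31 ++ (j7_13_32 ++ (j7_13_33 ++ (j7_13_34 ++ (j7_13_35 ++ (j7_13_36 ++ (j7_13_37 ++ (j7_13_38 ++ (j7_13_39 ++ (j7_13_40 ++ (j7_13_41 ++ (j7_13_42 ++ (j7_13_43 ++ (j7_13_44 ++ (j7_13_45 ++ (j7_13_46 ++ (j7_13_47 ++ (j7_13_48 ++ (j7_13_49 ++ (j7_13_50 ++ (j7_13_51 ++ (j7_13_52 ++ (j7_13_53 ++ (j7_13_54 ++ (j7_13_55 ++ (j7_13_56 ++ (j7_13_57 ++ (j7_13_58 ++ (j7_13_59 ++ (j7_13_60 ++ (j7_13_61 ++ (j7_13_62 ++ (j7_13_63 ++ (j7_13_64 ++ (j7_13_65 ++ (j7_13_66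 ++ (j7_13_67 ++ (j7_13_68 ++ (j7_13_69 ++ (j7_13_70 ++ (j7_13_71 ++ (j7_13_72 ++ (j7_13_73 ++ (j7_13_74 ++ (j7_13_75 ++ (j7_13_76 ++ (j7_13_77 ++ (j7_13_78 ++ (j7_13_79 ++ (j7_13_80 ++ (j7_13_81 ++ (j7_13_82 ++ (j7_13_83 ++ (j7_13_84 ++ (j7_13_85 ++ (j7_13_86 ++ (j7_13_87 ++ (j7_13_88 ++ (j7_13_89 ++ (j7_13_90 ++ (j7_13_91 ++ (j7_13_92 ++ (j7_13_93 ++ (j7_13_94 ++ (j7_13_95 ++ (j7_13_96 ++ (j7_13_97 ++ (j7_13_98 ++ (j7_13_99 ++ (j7_13_100 ++ (j7_13_101 ++ (j7_13_102 ++ (j7_13_103 ++ (j7_13_104 ++ (j7_13_105 ++ (j7_13_106 ++ (j7_13_107 ++ (j7_13_108 ++ (j7_13_109 ++ (j7_13_110 ++ (j7_13_111 ++ (j7_13_112 ++ (j7_13_113 ++ (j7_13_114 ++ (j7_13_115 ++ (j7_13_116 ++ (j7_13_117 ++ (j7_13_118 ++ (j7_13_119 ++ (j7_13_120 ++ (j7_13_121 ++ (j7_13_122 ++ (j7_13_123 ++ (j7_13_124 ++ (j7_13_125 ++ (j7_13_126 ++ (j7_13_127 ++ (j7_13_128 ++ (j7_13_129 ++ (j7_13_130 ++ (j7_13_131 ++ (j7_13_132 ++ (j7_13_133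 ++ (j7_13_134 ++ (j7_13_135 ++ (j7_13_136 ++ (j7_13_137 ++ (j7_13_138 ++ (j7_13_139 ++ (j7_13_140 ++ (j7_13_141 ++ (j7_13_142 ++ (j7_13_143 ++ (j7_13_144 ++ (j7_13_145 ++ (j7_13_146 ++ (j7_13_147 ++ (j7_13_148 ++ (j7_13_149 ++ (j7_13_150 ++ (j7_13_151 ++ (j7_13_152 ++ (j7_13_153 ++ (j7_13_154 ++ (j7_13_155 ++ (j7_13_156 ++ (j7_13_157 ++ (j7_13_158 ++ (j7_13_159 ++ (j7_13_160 ++ (j7_13_161 ++ (j7_13_162 ++ (j7_13_163 ++ (j7_13_164 ++ (j7_13_165 ++ (j7_13_166 ++ (j7_13_167 ++ (j7_13_168 ++ (j7_13_169 ++ (j7_13_170 ++ (j7_13_171 ++ (j7_13_172 ++ (j7_13_173 ++ (j7_13_174 ++ (j7_13_175 ++ (j7_13_176 ++ (j7_13_177 ++ (j7_13_178 ++ (j7_13_179 ++ (j7_13_180 ++ (j7_13_181 ++ (j7_13_182 ++ (j7_13_183 ++ (j7_13_184 ++ (j7_13_185 ++ (j7_13_186 ++ (j7_13_187 ++ (j7_13_188 ++ (j7_13_189 ++ (j7_13_190 ++ (j7_13_191 ++ (j7_13_192 ++ (j7_13_193 ++ (j7_13_194 ++ (j7_13_195 ++ (j7_13_196 ++ (j7_13_197 ++ (j7_13_198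 ++ (j7_13_199 ++ (j7_13_200 ++ (j7_13_201 ++ (j7_13_202 ++ (j7_13_203 ++ (j7_13_204 ++ (j7_13_205 ++ (j7_13_206 ++ (j7_13_207 ++ (j7_13_208 ++ (j7_13_209 ++ (j7_13_210 ++ (j7_13_211 ++ (j7_13_212 ++ (j7_13_213 ++ (j7_13_214 ++ (j7_13_215 ++ (j7_13_216 ++ (j7_13_217 ++ (j7_13_218 ++ (j7_13_219 ++ (j7_13_220 ++ (j7_13_221 ++ (j7_13_222 ++ (j7_13_223 ++ (j7_13_224 ++ (j7_13_225 ++ (j7_13_226 ++ (j7_13_227 ++ (j7_13_228 ++ (j7_13_229 ++ (j7_13_230 ++ (j7_13_231 ++ (j7_13_232 ++ (j7_13_233 ++ (j7_13_234 ++ (j7_13_235 ++ (j7_13_236 ++ (j7_13_237 ++ (j7_13_238 ++ (j7_13_239 ++ (j7_13_240 ++ (j7_13_241 ++ (j7_13_242 ++ (j7_13_243 ++ (j7_13_244 ++ (j7_13_245 ++ (j7_13_246 ++ (j7_13_247 ++ (j7_13_248 ++ (j7_13_249 ++ (j7_13_250 ++ (j7_13_251 ++ []))))))))))))))))))))))))))))))))))))))))))))))))))))))))))))))))))))))))))))))))))))))))))))))))))))))))))))))))))))))))))))))))))))))))))))))))))))))))))))))))))))))))))))))))))))))))))))))))))))))))))))))))))))))))))))))))))))))))))))))))))))))))))))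
  (jobs_append t7_13_0 <| jobs_append t7_13_1 <| jobs_append t7_13_2 <| jobs_append t7_13_3 <| jobs_append t7_13_4 <| jobs_append t7_13_5 <| jobs_append t7_13_6 <| jobs_append t7_13_7 <| jobs_append t7_13_8 <| jobs_append t7_13_9 <| jobs_append t7_13_10 <| jobs_append t7_13_11 <| jobs_append t7_13_12 <| jobs_append t7_13_13 <| jobs_append t7_13_14 <| jobs_append t7_13_15 <| jobs_append t7_13_16 <| jobs_append t7_13_17 <| jobs_append t7_13_18 <| jobs_append t7_13_19 <| jobs_append t7_13_20 <| jobs_append t7_13_21 <| jobs_append t7_13_22 <| jobs_append t7_13_23 <| jobs_append t7_13_24 <| jobs_append t7_13_25 <| jobs_append t7_13_26 <| jobs_append t7_13_27 <| jobs_append t7_13_28 <| jobs_append t7_13_29 <| jobs_append t7_13_30 <| jobs_append t7_13_31 <| jobs_append t7_13_32 <| jobs_append t7_13_33 <| jobs_append t7_13_34 <| jobs_append t7_13_35 <| jobs_append t7_13_36 <| jobs_append t7_13_37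 <| jobs_append t7_13_38 <| jobs_append t7_13_39 <| jobs_append t7_13_40 <| jobs_append t7_13_41 <| jobs_append t7_13_42 <| jobs_append t7_13_43 <| jobs_append t7_13_44 <| jobs_append t7_13_45 <| jobs_append t7_13_46 <| jobs_append t7_13_47 <| jobs_append t7_13_48 <| jobs_append t7_13_49 <| jobs_append t7_13_50 <| jobs_append t7_13_51 <| jobs_append t7_13_52 <| jobs_append t7_13_53 <| jobs_append t7_13_54 <| jobs_append t7_13_55 <| jobs_append t7_13_56 <| jobs_append t7_13_57 <| jobs_append t7_13_58 <| jobs_append t7_13_59 <| jobs_append t7_13_60 <| jobs_append t7_13_61 <| jobs_append t7_13_62 <| jobs_append t7_13_63 <| jobs_append t7_13_64 <| jobs_append t7_13_65 <| jobs_append t7_13_66 <| jobs_append t7_13_67 <| jobs_append t7_13_68 <| jobs_append t7_13_69 <| jobs_append t7_13_70 <| jobs_append t7_13_71 <| jobs_append t7_13_72 <| jobs_append t7_13_73 <| jobs_append t7_13_74 <| jobs_append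 t7_13_75 <| jobs_append t7_13_76 <| jobs_append t7_13_77 <| jobs_append t7_13_78 <| jobs_append t7_13_79 <| jobs_append t7_13_80 <| jobs_append t7_13_81 <| jobs_append t7_13_82 <| jobs_append t7_13_83 <| jobs_append t7_13_84 <| jobs_append t7_13_85 <| jobs_append t7_13_86 <| jobs_append t7_13_87 <| jobs_append t7_13_88 <| jobs_append t7_13_89 <| jobs_append t7_13_90 <| jobs_append t7_13_91 <| jobs_append t7_13_92 <| jobs_append t7_13_93 <| jobs_append t7_13_94 <| jobs_append t7_13_95 <| jobs_append t7_13_96 <| jobs_append t7_13_97 <| jobs_append t7_13_98 <| jobs_append t7_13_99 <| jobs_append t7_13_100 <| jobs_append t7_13_101 <| jobs_append t7_13_102 <| jobs_append t7_13_103 <| jobs_append t7_13_104 <| jobs_append t7_13_105 <| jobs_append t7_13_106 <| jobs_append t7_13_107 <| jobs_append t7_13_108 <| jobs_append t7_13_109 <| jobs_append t7_13_110 <| jobs_append t7_13_111 <| jobs_append t7_13_112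 <| jobs_append t7_13_113 <| jobs_append t7_13_114 <| jobs_append t7_13_115 <| jobs_append t7_13_116 <| jobs_append t7_13_117 <| jobs_append t7_13_118 <| jobs_append t7_13_119 <| jobs_append t7_13_120 <| jobs_append t7_13_121 <| jobs_append t7_13_122 <| jobs_append t7_13_123 <| jobs_append t7_13_124 <| jobs_append t7_13_125 <| jobs_append t7_13_126 <| jobs_append t7_13_127 <| jobs_append t7_13_128 <| jobs_append t7_13_129 <| jobs_append t7_13_130 <| jobs_append t7_13_131 <| jobs_append t7_13_132 <| jobs_append t7_13_133 <| jobs_append t7_13_134 <| jobs_append t7_13_135 <| jobs_append t7_13_136 <| jobs_append t7_13_137 <| jobs_append t7_13_138 <| jobs_append t7_13_139 <| jobs_append t7_13_140 <| jobs_append t7_13_141 <| jobs_append t7_13_142 <| jobs_append t7_13_143 <| jobs_append t7_13_144 <| jobs_append t7_13_145 <| jobs_append t7_13_146 <| jobs_append t7_13_147 <| jobs_append t7_13_148 <|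 jobs_append t7_13_149 <| jobs_append t7_13_150 <| jobs_append t7_13_151 <| jobs_append t7_13_152 <| jobs_append t7_13_153 <| jobs_append t7_13_154 <| jobs_append t7_13_155 <| jobs_append t7_13_156 <| jobs_append t7_13_157 <| jobs_append t7_13_158 <| jobs_append t7_13_159 <| jobs_append t7_13_160 <| jobs_append t7_13_161 <| jobs_append t7_13_162 <| jobs_append t7_13_163 <| jobs_append t7_13_164 <| jobs_append t7_13_165 <| jobs_append t7_13_166 <| jobs_append t7_13_167 <| jobs_append t7_13_168 <| jobs_append t7_13_169 <| jobs_append t7_13_170 <| jobs_append t7_13_171 <| jobs_append t7_13_172 <| jobs_append t7_13_173 <| jobs_append t7_13_174 <| jobs_append t7_13_175 <| jobs_append t7_13_176 <| jobs_append t7_13_177 <| jobs_append t7_13_178 <| jobs_append t7_13_179 <| jobs_append t7_13_180 <| jobs_append t7_13_181 <| jobs_append t7_13_182 <| jobs_append t7_13_183 <| jobs_append t7_13_184 <| jobs_append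 t7_13_185 <| jobs_append t7_13_186 <| jobs_append t7_13_187 <| jobs_append t7_13_188 <| jobs_append t7_13_189 <| jobs_append t7_13_190 <| jobs_append t7_13_191 <| jobs_append t7_13_192 <| jobs_append t7_13_193 <| jobs_append t7_13_194 <| jobs_append t7_13_195 <| jobs_append t7_13_196 <| jobs_append t7_13_197 <| jobs_append t7_13_198 <| jobs_append t7_13_199 <| jobs_append t7_13_200 <| jobs_append t7_13_201 <| jobs_append t7_13_202 <| jobs_append t7_13_203 <| jobs_append t7_13_204 <| jobs_append t7_13_205 <| jobs_append t7_13_206 <| jobs_append t7_13_207 <| jobs_append t7_13_208 <| jobs_append t7_13_209 <| jobs_append t7_13_210 <| jobs_append t7_13_211 <| jobs_append t7_13_212 <| jobs_append t7_13_213 <| jobs_append t7_13_214 <| jobs_append t7_13_215 <| jobs_append t7_13_216 <| jobs_append t7_13_217 <| jobs_append t7_13_218 <| jobs_append t7_13_219 <| jobs_append t7_13_220 <| jobs_append t7_13_221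 <| jobs_append t7_13_222 <| jobs_append t7_13_223 <| jobs_append t7_13_224 <| jobs_append t7_13_225 <| jobs_append t7_13_226 <| jobs_append t7_13_227 <| jobs_append t7_13_228 <| jobs_append t7_13_229 <| jobs_append t7_13_230 <| jobs_append t7_13_231 <| jobs_append t7_13_232 <| jobs_append t7_13_233 <| jobs_append t7_13_234 <| jobs_append t7_13_235 <| jobs_append t7_13_236 <| jobs_append t7_13_237 <| jobs_append t7_13_238 <| jobs_append t7_13_239 <| jobs_append t7_13_240 <| jobs_append t7_13_241 <| jobs_append t7_13_242 <| jobs_append t7_13_243 <| jobs_append t7_13_244 <| jobs_append t7_13_245 <| jobs_append t7_13_246 <| jobs_append t7_13_247 <| jobs_append t7_13_248 <| jobs_append t7_13_249 <| jobs_append t7_13_250 <| jobs_append t7_13_251 <| List.forall_mem_nil _) (by decide +kernel)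

theorem d7_14 : Dn 7 S8 b7_14 := dn_of (Js := j7_14_0 ++ (j7_14_1 ++ (j7_14_2 ++ (j7_14_3 ++ (j7_14_4 ++ (j7_14_5 ++ (j7_14_6 ++ (j7_14_7 ++ (j7_14_8 ++ (j7_14_9 ++ (j7_14_10 ++ (j7_14_11 ++ (j7_14_12 ++ (j7_14_13 ++ (j7_14_14 ++ (j7_14_15 ++ (j7_14_16 ++ (j7_14_17 ++ (j7_14_18 ++ (j7_14_19 ++ (j7_14_20 ++ (j7_14_21 ++ (j7_14_22 ++ (j7_14_23 ++ (j7_14_24 ++ (j7_14_25 ++ (j7_14_26 ++ (j7_14_27 ++ (j7_14_28 ++ (j7_14_29 ++ (j7_14_30 ++ (j7_14_31 ++ (j7_14_32 ++ (j7_14_33 ++ (j7_14_34 ++ (j7_14_35 ++ (j7_14_36 ++ (j7_14_37 ++ (j7_14_38 ++ (j7_14_39 ++ (j7_14_40 ++ (j7_14_41 ++ (j7_14_42 ++ (j7_14_43 ++ (j7_14_44 ++ (j7_14_45 ++ (j7_14_46 ++ (j7_14_47 ++ (j7_14_48 ++ (j7_14_49 ++ (j7_14_50 ++ (j7_14_51 ++ (j7_14_52 ++ (j7_14_53 ++ (j7_14_54 ++ (j7_14_55 ++ (j7_14_56 ++ (j7_14_57 ++ (j7_14_58 ++ (j7_14_59 ++ (j7_14_60 ++ (j7_14_61 ++ (j7_14_62 ++ (j7_14_63 ++ (j7_14_64 ++ (j7_14_65 ++ (j7_14_66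 ++ (j7_14_67 ++ (j7_14_68 ++ (j7_14_69 ++ (j7_14_70 ++ (j7_14_71 ++ (j7_14_72 ++ (j7_14_73 ++ (j7_14_74 ++ (j7_14_75 ++ (j7_14_76 ++ (j7_14_77 ++ (j7_14_78 ++ (j7_14_79 ++ (j7_14_80 ++ (j7_14_81 ++ (j7_14_82 ++ (j7_14_83 ++ (j7_14_84 ++ (j7_14_85 ++ (j7_14_86 ++ (j7_14_87 ++ (j7_14_88 ++ (j7_14_89 ++ (j7_14_90 ++ (j7_14_91 ++ (j7_14_92 ++ (j7_14_93 ++ (j7_14_94 ++ (j7_14_95 ++ (j7_14_96 ++ (j7_14_97 ++ (j7_14_98 ++ (j7_14_99 ++ (j7_14_100 ++ (j7_14_101 ++ (j7_14_102 ++ (j7_14_103 ++ (j7_14_104 ++ (j7_14_105 ++ (j7_14_106 ++ (j7_14_107 ++ (j7_14_108 ++ (j7_14_109 ++ (j7_14_110 ++ (j7_14_111 ++ (j7_14_112 ++ (j7_14_113 ++ (j7_14_114 ++ (j7_14_115 ++ (j7_14_116 ++ (j7_14_117 ++ (j7_14_118 ++ (j7_14_119 ++ (j7_14_120 ++ (j7_14_121 ++ (j7_14_122 ++ (j7_14_123 ++ (j7_14_124 ++ (j7_14_125 ++ (j7_14_126 ++ (j7_14_127 ++ (j7_14_128 ++ (j7_14_129 ++ (j7_14_130 ++ (j7_14_131 ++ (j7_14_132 ++ (j7_14_133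 ++ (j7_14_134 ++ (j7_14_135 ++ (j7_14_136 ++ (j7_14_137 ++ (j7_14_138 ++ (j7_14_139 ++ (j7_14_140 ++ (j7_14_141 ++ (j7_14_142 ++ (j7_14_143 ++ (j7_14_144 ++ (j7_14_145 ++ (j7_14_146 ++ (j7_14_147 ++ (j7_14_148 ++ (j7_14_149 ++ (j7_14_150 ++ (j7_14_151 ++ (j7_14_152 ++ (j7_14_153 ++ (j7_14_154 ++ (j7_14_155 ++ (j7_14_156 ++ (j7_14_157 ++ (j7_14_158 ++ (j7_14_159 ++ (j7_14_160 ++ (j7_14_161 ++ (j7_14_162 ++ (j7_14_163 ++ (j7_14_164 ++ (j7_14_165 ++ (j7_14_166 ++ (j7_14_167 ++ (j7_14_168 ++ (j7_14_169 ++ (j7_14_170 ++ (j7_14_171 ++ (j7_14_172 ++ (j7_14_173 ++ (j7_14_174 ++ (j7_14_175 ++ (j7_14_176 ++ (j7_14_177 ++ (j7_14_178 ++ (j7_14_179 ++ (j7_14_180 ++ (j7_14_181 ++ (j7_14_182 ++ (j7_14_183 ++ (j7_14_184 ++ (j7_14_185 ++ (j7_14_186 ++ (j7_14_187 ++ (j7_14_188 ++ (j7_14_189 ++ (j7_14_190 ++ (j7_14_191 ++ (j7_14_192 ++ (j7_14_193 ++ (j7_14_194 ++ (j7_14_195 ++ (j7_14_196 ++ (j7_14_197 ++ (j7_14_198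 ++ (j7_14_199 ++ (j7_14_200 ++ (j7_14_201 ++ (j7_14_202 ++ (j7_14_203 ++ (j7_14_204 ++ (j7_14_205 ++ (j7_14_206 ++ (j7_14_207 ++ (j7_14_208 ++ (j7_14_209 ++ (j7_14_210 ++ (j7_14_211 ++ (j7_14_212 ++ (j7_14_213 ++ (j7_14_214 ++ (j7_14_215 ++ (j7_14_216 ++ (j7_14_217 ++ (j7_14_218 ++ (j7_14_219 ++ (j7_14_220 ++ (j7_14_221 ++ (j7_14_222 ++ (j7_14_223 ++ (j7_14_224 ++ (j7_14_225 ++ (j7_14_226 ++ (j7_14_227 ++ (j7_14_228 ++ (j7_14_229 ++ (j7_14_230 ++ (j7_14_231 ++ (j7_14_232 ++ (j7_14_233 ++ (j7_14_234 ++ (j7_14_235 ++ (j7_14_236 ++ (j7_14_237 ++ (j7_14_238 ++ (j7_14_239 ++ (j7_14_240 ++ (j7_14_241 ++ (j7_14_242 ++ (j7_14_243 ++ (j7_14_244 ++ (j7_14_245 ++ (j7_14_246 ++ (j7_14_247 ++ (j7_14_248 ++ (j7_14_249 ++ (j7_14_250 ++ (j7_14_251 ++ (j7_14_252 ++ (j7_14_253 ++ (j7_14_254 ++ (j7_14_255 ++ (j7_14_256 ++ (j7_14_257 ++ (j7_14_258 ++ (j7_14_259 ++ (j7_14_260 ++ (j7_14_261 ++ (j7_14_262 ++ (j7_14_263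 ++ (j7_14_264 ++ (j7_14_265 ++ (j7_14_266 ++ (j7_14_267 ++ (j7_14_268 ++ (j7_14_269 ++ (j7_14_270 ++ (j7_14_271 ++ (j7_14_272 ++ (j7_14_273 ++ (j7_14_274 ++ (j7_14_275 ++ (j7_14_276 ++ (j7_14_277 ++ (j7_14_278 ++ (j7_14_279 ++ (j7_14_280 ++ (j7_14_281 ++ (j7_14_282 ++ (j7_14_283 ++ (j7_14_284 ++ (j7_14_285 ++ (j7_14_286 ++ (j7_14_287 ++ (j7_14_288 ++ (j7_14_289 ++ (j7_14_290 ++ (j7_14_291 ++ (j7_14_292 ++ (j7_14_293 ++ (j7_14_294 ++ (j7_14_295 ++ (j7_14_296 ++ (j7_14_297 ++ (j7_14_298 ++ (j7_14_299 ++ (j7_14_300 ++ (j7_14_301 ++ (j7_14_302 ++ (j7_14_303 ++ (j7_14_304 ++ (j7_14_305 ++ (j7_14_306 ++ (j7_14_307 ++ (j7_14_308 ++ (j7_14_309 ++ (j7_14_310 ++ (j7_14_311 ++ (j7_14_312 ++ (j7_14_313 ++ (j7_14_314 ++ (j7_14_315 ++ (j7_14_316 ++ (j7_14_317 ++ (j7_14_318 ++ (j7_14_319 ++ (j7_14_320 ++ (j7_14_321 ++ (j7_14_322 ++ (j7_14_323 ++ (j7_14_324 ++ (j7_14_325 ++ (j7_14_326 ++ (j7_14_327 ++ (j7_14_328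 ++ (j7_14_329 ++ (j7_14_330 ++ (j7_14_331 ++ (j7_14_332 ++ (j7_14_333 ++ (j7_14_334 ++ (j7_14_335 ++ (j7_14_336 ++ (j7_14_337 ++ (j7_14_338 ++ (j7_14_339 ++ (j7_14_340 ++ (j7_14_341 ++ (j7_14_342 ++ (j7_14_343 ++ (j7_14_344 ++ (j7_14_345 ++ (j7_14_346 ++ (j7_14_347 ++ (j7_14_348 ++ (j7_14_349 ++ (j7_14_350 ++ (j7_14_351 ++ (j7_14_352 ++ (j7_14_353 ++ (j7_14_354 ++ (j7_14_355 ++ (j7_14_356 ++ (j7_14_357 ++ (j7_14_358 ++ (j7_14_359 ++ (j7_14_360 ++ (j7_14_361 ++ (j7_14_362 ++ (j7_14_363 ++ (j7_14_364 ++ (j7_14_365 ++ (j7_14_366 ++ (j7_14_367 ++ (j7_14_368 ++ (j7_14_369 ++ (j7_14_370 ++ (j7_14_371 ++ (j7_14_372 ++ (j7_14_373 ++ (j7_14_374 ++ (j7_14_375 ++ (j7_14_376 ++ (j7_14_377 ++ (j7_14_378 ++ (j7_14_379 ++ (j7_14_380 ++ (j7_14_381 ++ []))))))))))))))))))))))))))))))))))))))))))))))))))))))))))))))))))))))))))))))))))))))))))))))))))))))))))))))))))))))))))))))))))))))))))))))))))))))))))))))))))))))))))))))))))))))))))))))))))))))))))))))))))))))))))))))))))))))))))))))))))))))))))))))))))))))))))))))))))))))))))))))))))))))))))))))))))))))))))))))))))))))))))))))))))))))))))))))))))))))))))))))))))))))))))))))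
  (jobs_append t7_14_0 <| jobs_append t7_14_1 <| jobs_append t7_14_2 <| jobs_append t7_14_3 <| jobs_append t7_14_4 <| jobs_append t7_14_5 <| jobs_append t7_14_6 <| jobs_append t7_14_7 <| jobs_append t7_14_8 <| jobs_append t7_14_9 <| jobs_append t7_14_10 <| jobs_append t7_14_11 <| jobs_append t7_14_12 <| jobs_append t7_14_13 <| jobs_append t7_14_14 <| jobs_append t7_14_15 <| jobs_append t7_14_16 <| jobs_append t7_14_17 <| jobs_append t7_14_18 <| jobs_append t7_14_19 <| jobs_append t7_14_20 <| jobs_append t7_14_21 <| jobs_append t7_14_22 <| jobs_append t7_14_23 <| jobs_append t7_14_24 <| jobs_append t7_14_25 <| jobs_append t7_14_26 <| jobs_append t7_14_27 <| jobs_append t7_14_28 <| jobs_append t7_14_29 <| jobs_append t7_14_30 <| jobs_append t7_14_31 <| jobs_append t7_14_32 <| jobs_append t7_14_33 <| jobs_append t7_14_34 <| jobs_append t7_14_35 <| jobs_append t7_14_36 <| jobs_append t7_14_37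 <| jobs_append t7_14_38 <| jobs_append t7_14_39 <| jobs_append t7_14_40 <| jobs_append t7_14_41 <| jobs_append t7_14_42 <| jobs_append t7_14_43 <| jobs_append t7_14_44 <| jobs_append t7_14_45 <| jobs_append t7_14_46 <| jobs_append t7_14_47 <| jobs_append t7_14_48 <| jobs_append t7_14_49 <| jobs_append t7_14_50 <| jobs_append t7_14_51 <| jobs_append t7_14_52 <| jobs_append t7_14_53 <| jobs_append t7_14_54 <| jobs_append t7_14_55 <| jobs_append t7_14_56 <| jobs_append t7_14_57 <| jobs_append t7_14_58 <| jobs_append t7_14_59 <| jobs_append t7_14_60 <| jobs_append t7_14_61 <| jobs_append t7_14_62 <| jobs_append t7_14_63 <| jobs_append t7_14_64 <| jobs_append t7_14_65 <| jobs_append t7_14_66 <| jobs_append t7_14_67 <| jobs_append t7_14_68 <| jobs_append t7_14_69 <| jobs_append t7_14_70 <| jobs_append t7_14_71 <| jobs_append t7_14_72 <| jobs_append t7_14_73 <| jobs_append t7_14_74 <| jobs_append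 t7_14_75 <| jobs_append t7_14_76 <| jobs_append t7_14_77 <| jobs_append t7_14_78 <| jobs_append t7_14_79 <| jobs_append t7_14_80 <| jobs_append t7_14_81 <| jobs_append t7_14_82 <| jobs_append t7_14_83 <| jobs_append t7_14_84 <| jobs_append t7_14_85 <| jobs_append t7_14_86 <| jobs_append t7_14_87 <| jobs_append t7_14_88 <| jobs_append t7_14_89 <| jobs_append t7_14_90 <| jobs_append t7_14_91 <| jobs_append t7_14_92 <| jobs_append t7_14_93 <| jobs_append t7_14_94 <| jobs_append t7_14_95 <| jobs_append t7_14_96 <| jobs_append t7_14_97 <| jobs_append t7_14_98 <| jobs_append t7_14_99 <| jobs_append t7_14_100 <| jobs_append t7_14_101 <| jobs_append t7_14_102 <| jobs_append t7_14_103 <| jobs_append t7_14_104 <| jobs_append t7_14_105 <| jobs_append t7_14_106 <| jobs_append t7_14_107 <| jobs_append t7_14_108 <| jobs_append t7_14_109 <| jobs_append t7_14_110 <| jobs_append t7_14_111 <| jobs_append t7_14_112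 <| jobs_append t7_14_113 <| jobs_append t7_14_114 <| jobs_append t7_14_115 <| jobs_append t7_14_116 <| jobs_append t7_14_117 <| jobs_append t7_14_118 <| jobs_append t7_14_119 <| jobs_append t7_14_120 <| jobs_append t7_14_121 <| jobs_append t7_14_122 <| jobs_append t7_14_123 <| jobs_append t7_14_124 <| jobs_append t7_14_125 <| jobs_append t7_14_126 <| jobs_append t7_14_127 <| jobs_append t7_14_128 <| jobs_append t7_14_129 <| jobs_append t7_14_130 <| jobs_append t7_14_131 <| jobs_append t7_14_132 <| jobs_append t7_14_133 <| jobs_append t7_14_134 <| jobs_append t7_14_135 <| jobs_append t7_14_136 <| jobs_append t7_14_137 <| jobs_append t7_14_138 <| jobs_append t7_14_139 <| jobs_append t7_14_140 <| jobs_append t7_14_141 <| jobs_append t7_14_142 <| jobs_append t7_14_143 <| jobs_append t7_14_144 <| jobs_append t7_14_145 <| jobs_append t7_14_146 <| jobs_append t7_14_147 <| jobs_append t7_14_148 <|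 jobs_append t7_14_149 <| jobs_append t7_14_150 <| jobs_append t7_14_151 <| jobs_append t7_14_152 <| jobs_append t7_14_153 <| jobs_append t7_14_154 <| jobs_append t7_14_155 <| jobs_append t7_14_156 <| jobs_append t7_14_157 <| jobs_append t7_14_158 <| jobs_append t7_14_159 <| jobs_append t7_14_160 <| jobs_append t7_14_161 <| jobs_append t7_14_162 <| jobs_append t7_14_163 <| jobs_append t7_14_164 <| jobs_append t7_14_165 <| jobs_append t7_14_166 <| jobs_append t7_14_167 <| jobs_append t7_14_168 <| jobs_append t7_14_169 <| jobs_append t7_14_170 <| jobs_append t7_14_171 <| jobs_append t7_14_172 <| jobs_append t7_14_173 <| jobs_append t7_14_174 <| jobs_append t7_14_175 <| jobs_append t7_14_176 <| jobs_append t7_14_177 <| jobs_append t7_14_178 <| jobs_append t7_14_179 <| jobs_append t7_14_180 <| jobs_append t7_14_181 <| jobs_append t7_14_182 <| jobs_append t7_14_183 <| jobs_append t7_14_184 <| jobs_append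 t7_14_185 <| jobs_append t7_14_186 <| jobs_append t7_14_187 <| jobs_append t7_14_188 <| jobs_append t7_14_189 <| jobs_append t7_14_190 <| jobs_append t7_14_191 <| jobs_append t7_14_192 <| jobs_append t7_14_193 <| jobs_append t7_14_194 <| jobs_append t7_14_195 <| jobs_append t7_14_196 <| jobs_append t7_14_197 <| jobs_append t7_14_198 <| jobs_append t7_14_199 <| jobs_append t7_14_200 <| jobs_append t7_14_201 <| jobs_append t7_14_202 <| jobs_append t7_14_203 <| jobs_append t7_14_204 <| jobs_append t7_14_205 <| jobs_append t7_14_206 <| jobs_append t7_14_207 <| jobs_append t7_14_208 <| jobs_append t7_14_209 <| jobs_append t7_14_210 <| jobs_append t7_14_211 <| jobs_append t7_14_212 <| jobs_append t7_14_213 <| jobs_append t7_14_214 <| jobs_append t7_14_215 <| jobs_append t7_14_216 <| jobs_append t7_14_217 <| jobs_append t7_14_218 <| jobs_append t7_14_219 <| jobs_append t7_14_220 <| jobs_append t7_14_221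 <| jobs_append t7_14_222 <| jobs_append t7_14_223 <| jobs_append t7_14_224 <| jobs_append t7_14_225 <| jobs_append t7_14_226 <| jobs_append t7_14_227 <| jobs_append t7_14_228 <| jobs_append t7_14_229 <| jobs_append t7_14_230 <| jobs_append t7_14_231 <| jobs_append t7_14_232 <| jobs_append t7_14_233 <| jobs_append t7_14_234 <| jobs_append t7_14_235 <| jobs_append t7_14_236 <| jobs_append t7_14_237 <| jobs_append t7_14_238 <| jobs_append t7_14_239 <| jobs_append t7_14_240 <| jobs_append t7_14_241 <| jobs_append t7_14_242 <| jobs_append t7_14_243 <| jobs_append t7_14_244 <| jobs_append t7_14_245 <| jobs_append t7_14_246 <| jobs_append t7_14_247 <| jobs_append t7_14_248 <| jobs_append t7_14_249 <| jobs_append t7_14_250 <| jobs_append t7_14_251 <| jobs_append t7_14_252 <| jobs_append t7_14_253 <| jobs_append t7_14_254 <| jobs_append t7_14_255 <| jobs_append t7_14_256 <| jobs_append t7_14_257 <|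 jobs_append t7_14_258 <| jobs_append t7_14_259 <| jobs_append t7_14_260 <| jobs_append t7_14_261 <| jobs_append t7_14_262 <| jobs_append t7_14_263 <| jobs_append t7_14_264 <| jobs_append t7_14_265 <| jobs_append t7_14_266 <| jobs_append t7_14_267 <| jobs_append t7_14_268 <| jobs_append t7_14_269 <| jobs_append t7_14_270 <| jobs_append t7_14_271 <| jobs_append t7_14_272 <| jobs_append t7_14_273 <| jobs_append t7_14_274 <| jobs_append t7_14_275 <| jobs_append t7_14_276 <| jobs_append t7_14_277 <| jobs_append t7_14_278 <| jobs_append t7_14_279 <| jobs_append t7_14_280 <| jobs_append t7_14_281 <| jobs_append t7_14_282 <| jobs_append t7_14_283 <| jobs_append t7_14_284 <| jobs_append t7_14_285 <| jobs_append t7_14_286 <| jobs_append t7_14_287 <| jobs_append t7_14_288 <| jobs_append t7_14_289 <| jobs_append t7_14_290 <| jobs_append t7_14_291 <| jobs_append t7_14_292 <| jobs_append t7_14_293 <| jobs_append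 t7_14_294 <| jobs_append t7_14_295 <| jobs_append t7_14_296 <| jobs_append t7_14_297 <| jobs_append t7_14_298 <| jobs_append t7_14_299 <| jobs_append t7_14_300 <| jobs_append t7_14_301 <| jobs_append t7_14_302 <| jobs_append t7_14_303 <| jobs_append t7_14_304 <| jobs_append t7_14_305 <| jobs_append t7_14_306 <| jobs_append t7_14_307 <| jobs_append t7_14_308 <| jobs_append t7_14_309 <| jobs_append t7_14_310 <| jobs_append t7_14_311 <| jobs_append t7_14_312 <| jobs_append t7_14_313 <| jobs_append t7_14_314 <| jobs_append t7_14_315 <| jobs_append t7_14_316 <| jobs_append t7_14_317 <| jobs_append t7_14_318 <| jobs_append t7_14_319 <| jobs_append t7_14_320 <| jobs_append t7_14_321 <| jobs_append t7_14_322 <| jobs_append t7_14_323 <| jobs_append t7_14_324 <| jobs_append t7_14_325 <| jobs_append t7_14_326 <| jobs_append t7_14_327 <| jobs_append t7_14_328 <| jobs_append t7_14_329 <| jobs_append t7_14_330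 <| jobs_append t7_14_331 <| jobs_append t7_14_332 <| jobs_append t7_14_333 <| jobs_append t7_14_334 <| jobs_append t7_14_335 <| jobs_append t7_14_336 <| jobs_append t7_14_337 <| jobs_append t7_14_338 <| jobs_append t7_14_339 <| jobs_append t7_14_340 <| jobs_append t7_14_341 <| jobs_append t7_14_342 <| jobs_append t7_14_343 <| jobs_append t7_14_344 <| jobs_append t7_14_345 <| jobs_append t7_14_346 <| jobs_append t7_14_347 <| jobs_append t7_14_348 <| jobs_append t7_14_349 <| jobs_append t7_14_350 <| jobs_append t7_14_351 <| jobs_append t7_14_352 <| jobs_append t7_14_353 <| jobs_append t7_14_354 <| jobs_append t7_14_355 <| jobs_append t7_14_356 <| jobs_append t7_14_357 <| jobs_append t7_14_358 <| jobs_append t7_14_359 <| jobs_append t7_14_360 <| jobs_append t7_14_361 <| jobs_append t7_14_362 <| jobs_append t7_14_363 <| jobs_append t7_14_364 <| jobs_append t7_14_365 <| jobs_append t7_14_366 <|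 jobs_append t7_14_367 <| jobs_append t7_14_368 <| jobs_append t7_14_369 <| jobs_append t7_14_370 <| jobs_append t7_14_371 <| jobs_append t7_14_372 <| jobs_append t7_14_373 <| jobs_append t7_14_374 <| jobs_append t7_14_375 <| jobs_append t7_14_376 <| jobs_append t7_14_377 <| jobs_append t7_14_378 <| jobs_append t7_14_379 <| jobs_append t7_14_380 <| jobs_append t7_14_381 <| List.forall_mem_nil _) (by decide +kernel)

theorem d7_15 : Dn 7 S8 b7_15 := dn_of (Js := j7_15_0 ++ (j7_15_1 ++ (j7_15_2 ++ (j7_15_3 ++ (j7_15_4 ++ (j7_15_5 ++ (j7_15_6 ++ (j7_15_7 ++ (j7_15_8 ++ (j7_15_9 ++ (j7_15_10 ++ (j7_15_11 ++ (j7_15_12 ++ (j7_15_13 ++ (j7_15_14 ++ (j7_15_15 ++ (j7_15_16 ++ (j7_15_17 ++ (j7_15_18 ++ (j7_15_19 ++ (j7_15_20 ++ (j7_15_21 ++ (j7_15_22 ++ (j7_15_23 ++ (j7_15_24 ++ (j7_15_25 ++ (j7_15_26 ++ (j7_15_27 ++ (j7_15_28 ++ (j7_15_29 ++ (j7_15_30 ++ (j7_15_31 ++ (j7_15_32 ++ (j7_15_33 ++ (j7_15_34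 ++ (j7_15_35 ++ (j7_15_36 ++ (j7_15_37 ++ (j7_15_38 ++ (j7_15_39 ++ (j7_15_40 ++ (j7_15_41 ++ (j7_15_42 ++ (j7_15_43 ++ (j7_15_44 ++ (j7_15_45 ++ (j7_15_46 ++ (j7_15_47 ++ (j7_15_48 ++ (j7_15_49 ++ (j7_15_50 ++ (j7_15_51 ++ (j7_15_52 ++ (j7_15_53 ++ (j7_15_54 ++ (j7_15_55 ++ (j7_15_56 ++ (j7_15_57 ++ (j7_15_58 ++ (j7_15_59 ++ (j7_15_60 ++ (j7_15_61 ++ (j7_15_62 ++ (j7_15_63 ++ (j7_15_64 ++ (j7_15_65 ++ (j7_15_66 ++ (j7_15_67 ++ (j7_15_68 ++ (j7_15_69 ++ (j7_15_70 ++ (j7_15_71 ++ (j7_15_72 ++ (j7_15_73 ++ (j7_15_74 ++ (j7_15_75 ++ (j7_15_76 ++ (j7_15_77 ++ (j7_15_78 ++ (j7_15_79 ++ (j7_15_80 ++ (j7_15_81 ++ (j7_15_82 ++ (j7_15_83 ++ (j7_15_84 ++ (j7_15_85 ++ (j7_15_86 ++ (j7_15_87 ++ (j7_15_88 ++ (j7_15_89 ++ (j7_15_90 ++ (j7_15_91 ++ (j7_15_92 ++ (j7_15_93 ++ (j7_15_94 ++ (j7_15_95 ++ (j7_15_96 ++ (j7_15_97 ++ (j7_15_98 ++ (j7_15_99 ++ (j7_15_100 ++ (j7_15_101 ++ (j7_15_102 ++ (j7_15_103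 ++ (j7_15_104 ++ (j7_15_105 ++ (j7_15_106 ++ (j7_15_107 ++ (j7_15_108 ++ (j7_15_109 ++ (j7_15_110 ++ (j7_15_111 ++ (j7_15_112 ++ (j7_15_113 ++ (j7_15_114 ++ (j7_15_115 ++ (j7_15_116 ++ (j7_15_117 ++ (j7_15_118 ++ (j7_15_119 ++ (j7_15_120 ++ (j7_15_121 ++ (j7_15_122 ++ (j7_15_123 ++ (j7_15_124 ++ (j7_15_125 ++ (j7_15_126 ++ (j7_15_127 ++ (j7_15_128 ++ (j7_15_129 ++ (j7_15_130 ++ (j7_15_131 ++ (j7_15_132 ++ (j7_15_133 ++ (j7_15_134 ++ (j7_15_135 ++ (j7_15_136 ++ [])))))))))))))))))))))))))))))))))))))))))))))))))))))))))))))))))))))))))))))))))))))))))))))))))))))))))))))))))))))))))))))))))))))))))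
  (jobs_append t7_15_0 <| jobs_append t7_15_1 <| jobs_append t7_15_2 <| jobs_append t7_15_3 <| jobs_append t7_15_4 <| jobs_append t7_15_5 <| jobs_append t7_15_6 <| jobs_append t7_15_7 <| jobs_append t7_15_8 <| jobs_append t7_15_9 <| jobs_append t7_15_10 <| jobs_append t7_15_11 <| jobs_append t7_15_12 <| jobs_append t7_15_13 <| jobs_append t7_15_14 <| jobs_append t7_15_15 <| jobs_append t7_15_16 <| jobs_append t7_15_17 <| jobs_append t7_15_18 <| jobs_append t7_15_19 <| jobs_append t7_15_20 <| jobs_append t7_15_21 <| jobs_append t7_15_22 <| jobs_append t7_15_23 <| jobs_append t7_15_24 <| jobs_append t7_15_25 <| jobs_append t7_15_26 <| jobs_append t7_15_27 <| jobs_append t7_15_28 <| jobs_append t7_15_29 <| jobs_append t7_15_30 <| jobs_append t7_15_31 <| jobs_append t7_15_32 <| jobs_append t7_15_33 <| jobs_append t7_15_34 <| jobs_append t7_15_35 <| jobs_append t7_15_36 <| jobs_append t7_15_37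 <| jobs_append t7_15_38 <| jobs_append t7_15_39 <| jobs_append t7_15_40 <| jobs_append t7_15_41 <| jobs_append t7_15_42 <| jobs_append t7_15_43 <| jobs_append t7_15_44 <| jobs_append t7_15_45 <| jobs_append t7_15_46 <| jobs_append t7_15_47 <| jobs_append t7_15_48 <| jobs_append t7_15_49 <| jobs_append t7_15_50 <| jobs_append t7_15_51 <| jobs_append t7_15_52 <| jobs_append t7_15_53 <| jobs_append t7_15_54 <| jobs_append t7_15_55 <| jobs_append t7_15_56 <| jobs_append t7_15_57 <| jobs_append t7_15_58 <| jobs_append t7_15_59 <| jobs_append t7_15_60 <| jobs_append t7_15_61 <| jobs_append t7_15_62 <| jobs_append t7_15_63 <| jobs_append t7_15_64 <| jobs_append t7_15_65 <| jobs_append t7_15_66 <| jobs_append t7_15_67 <| jobs_append t7_15_68 <| jobs_append t7_15_69 <| jobs_append t7_15_70 <| jobs_append t7_15_71 <| jobs_append t7_15_72 <| jobs_append t7_15_73 <| jobs_append t7_15_74 <| jobs_append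 t7_15_75 <| jobs_append t7_15_76 <| jobs_append t7_15_77 <| jobs_append t7_15_78 <| jobs_append t7_15_79 <| jobs_append t7_15_80 <| jobs_append t7_15_81 <| jobs_append t7_15_82 <| jobs_append t7_15_83 <| jobs_append t7_15_84 <| jobs_append t7_15_85 <| jobs_append t7_15_86 <| jobs_append t7_15_87 <| jobs_append t7_15_88 <| jobs_append t7_15_89 <| jobs_append t7_15_90 <| jobs_append t7_15_91 <| jobs_append t7_15_92 <| jobs_append t7_15_93 <| jobs_append t7_15_94 <| jobs_append t7_15_95 <| jobs_append t7_15_96 <| jobs_append t7_15_97 <| jobs_append t7_15_98 <| jobs_append t7_15_99 <| jobs_append t7_15_100 <| jobs_append t7_15_101 <| jobs_append t7_15_102 <| jobs_append t7_15_103 <| jobs_append t7_15_104 <| jobs_append t7_15_105 <| jobs_append t7_15_106 <| jobs_append t7_15_107 <| jobs_append t7_15_108 <| jobs_append t7_15_109 <| jobs_append t7_15_110 <| jobs_append t7_15_111 <| jobs_append t7_15_112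 <| jobs_append t7_15_113 <| jobs_append t7_15_114 <| jobs_append t7_15_115 <| jobs_append t7_15_116 <| jobs_append t7_15_117 <| jobs_append t7_15_118 <| jobs_append t7_15_119 <| jobs_append t7_15_120 <| jobs_append t7_15_121 <| jobs_append t7_15_122 <| jobs_append t7_15_123 <| jobs_append t7_15_124 <| jobs_append t7_15_125 <| jobs_append t7_15_126 <| jobs_append t7_15_127 <| jobs_append t7_15_128 <| jobs_append t7_15_129 <| jobs_append t7_15_130 <| jobs_append t7_15_131 <| jobs_append t7_15_132 <| jobs_append t7_15_133 <| jobs_append t7_15_134 <| jobs_append t7_15_135 <| jobs_append t7_15_136 <| List.forall_mem_nil _) (by decide +kernel)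

theorem d7_16 : Dn 7 S8 b7_16 := dn_of (Js := j7_16_0 ++ (j7_16_1 ++ (j7_16_2 ++ (j7_16_3 ++ (j7_16_4 ++ (j7_16_5 ++ (j7_16_6 ++ (j7_16_7 ++ (j7_16_8 ++ (j7_16_9 ++ (j7_16_10 ++ (j7_16_11 ++ (j7_16_12 ++ (j7_16_13 ++ (j7_16_14 ++ (j7_16_15 ++ (j7_16_16 ++ (j7_16_17 ++ (j7_16_18 ++ (j7_16_19 ++ (j7_16_20 ++ [])))))))))))))))))))))
  (jobs_append t7_16_0 <| jobs_append t7_16_1 <| jobs_append t7_16_2 <| jobs_append t7_16_3 <| jobs_append t7_16_4 <| jobs_append t7_16_5 <| jobs_append t7_16_6 <| jobs_append t7_16_7 <| jobs_append t7_16_8 <| jobs_append t7_16_9 <| jobs_append t7_16_10 <| jobs_append t7_16_11 <| jobs_append t7_16_12 <| jobs_append t7_16_13 <| jobs_append t7_16_14 <| jobs_append t7_16_15 <| jobs_append t7_16_16 <| jobs_append t7_16_17 <| jobs_append t7_16_18 <| jobs_append t7_16_19 <| jobs_append t7_16_20 <| List.forall_mem_nil _) (by decide +kernel)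

theorem d7_17 : Dn 7 S8 b7_17 := dn_of (Js := j7_17_0 ++ (j7_17_1 ++ (j7_17_2 ++ (j7_17_3 ++ (j7_17_4 ++ (j7_17_5 ++ (j7_17_6 ++ (j7_17_7 ++ (j7_17_8 ++ (j7_17_9 ++ (j7_17_10 ++ (j7_17_11 ++ (j7_17_12 ++ (j7_17_13 ++ (j7_17_14 ++ [])))))))))))))))
  (jobs_append t7_17_0 <| jobs_append t7_17_1 <| jobs_append t7_17_2 <| jobs_append t7_17_3 <| jobs_append t7_17_4 <| jobs_append t7_17_5 <| jobs_append t7_17_6 <| jobs_append t7_17_7 <| jobs_append t7_17_8 <| jobs_append t7_17_9 <| jobs_append t7_17_10 <| jobs_append t7_17_11 <| jobs_append t7_17_12 <| jobs_append t7_17_13 <| jobs_append t7_17_14 <| List.forall_mem_nil _) (by decide +kernel)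

theorem d7_18 : Dn 7 S8 b7_18 := dn_of (Js := j7_18_0 ++ (j7_18_1 ++ (j7_18_2 ++ (j7_18_3 ++ (j7_18_4 ++ (j7_18_5 ++ (j7_18_6 ++ (j7_18_7 ++ (j7_18_8 ++ (j7_18_9 ++ (j7_18_10 ++ (j7_18_11 ++ (j7_18_12 ++ (j7_18_13 ++ (j7_18_14 ++ (j7_18_15 ++ []))))))))))))))))
  (jobs_append t7_18_0 <| jobs_append t7_18_1 <| jobs_append t7_18_2 <| jobs_append t7_18_3 <| jobs_append t7_18_4 <| jobs_append t7_18_5 <| jobs_append t7_18_6 <| jobs_append t7_18_7 <| jobs_append t7_18_8 <| jobs_append t7_18_9 <| jobs_append t7_18_10 <| jobs_append t7_18_11 <| jobs_append t7_18_12 <| jobs_append t7_18_13 <| jobs_append t7_18_14 <| jobs_append t7_18_15 <| List.forall_mem_nil _) (by decide +kernel)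

theorem d7_19 : Dn 7 S8 b7_19 := dn_of (Js := j7_19_0 ++ (j7_19_1 ++ (j7_19_2 ++ (j7_19_3 ++ (j7_19_4 ++ (j7_19_5 ++ (j7_19_6 ++ (j7_19_7 ++ (j7_19_8 ++ (j7_19_9 ++ (j7_19_10 ++ (j7_19_11 ++ (j7_19_12 ++ (j7_19_13 ++ (j7_19_14 ++ (j7_19_15 ++ (j7_19_16 ++ (j7_19_17 ++ (j7_19_18 ++ (j7_19_19 ++ (j7_19_20 ++ (j7_19_21 ++ (j7_19_22 ++ [])))))))))))))))))))))))
  (jobs_append t7_19_0 <| jobs_append t7_19_1 <| jobs_append t7_19_2 <| jobs_append t7_19_3 <| jobs_append t7_19_4 <| jobs_append t7_19_5 <| jobs_append t7_19_6 <| jobs_append t7_19_7 <| jobs_append t7_19_8 <| jobs_append t7_19_9 <| jobs_append t7_19_10 <| jobs_append t7_19_11 <| jobs_append t7_19_12 <| jobs_append t7_19_13 <| jobs_append t7_19_14 <| jobs_append t7_19_15 <| jobs_append t7_19_16 <| jobs_append t7_19_17 <| jobs_append t7_19_18 <| jobs_append t7_19_19 <| jobs_append t7_19_20 <| jobs_append t7_19_21 <| jobs_append t7_19_22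 <| List.forall_mem_nil _) (by decide +kernel)

theorem d7_20 : Dn 7 S8 b7_20 := dn_of (Js := j7_20_0 ++ (j7_20_1 ++ (j7_20_2 ++ (j7_20_3 ++ (j7_20_4 ++ (j7_20_5 ++ (j7_20_6 ++ (j7_20_7 ++ (j7_20_8 ++ (j7_20_9 ++ (j7_20_10 ++ (j7_20_11 ++ (j7_20_12 ++ (j7_20_13 ++ (j7_20_14 ++ (j7_20_15 ++ (j7_20_16 ++ (j7_20_17 ++ (j7_20_18 ++ (j7_20_19 ++ (j7_20_20 ++ (j7_20_21 ++ (j7_20_22 ++ (j7_20_23 ++ (j7_20_24 ++ (j7_20_25 ++ (j7_20_26 ++ (j7_20_27 ++ (j7_20_28 ++ (j7_20_29 ++ []))))))))))))))))))))))))))))))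
  (jobs_append t7_20_0 <| jobs_append t7_20_1 <| jobs_append t7_20_2 <| jobs_append t7_20_3 <| jobs_append t7_20_4 <| jobs_append t7_20_5 <| jobs_append t7_20_6 <| jobs_append t7_20_7 <| jobs_append t7_20_8 <| jobs_append t7_20_9 <| jobs_append t7_20_10 <| jobs_append t7_20_11 <| jobs_append t7_20_12 <| jobs_append t7_20_13 <| jobs_append t7_20_14 <| jobs_append t7_20_15 <| jobs_append t7_20_16 <| jobs_append t7_20_17 <| jobs_append t7_20_18 <| jobs_append t7_20_19 <| jobs_append t7_20_20 <| jobs_append t7_20_21 <| jobs_append t7_20_22 <| jobs_append t7_20_23 <| jobs_append t7_20_24 <| jobs_append t7_20_25 <| jobs_append t7_20_26 <| jobs_append t7_20_27 <| jobs_append t7_20_28 <| jobs_append t7_20_29 <| List.forall_mem_nil _) (by decide +kernel)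

theorem d7_21 : Dn 7 S8 b7_21 := dn_of (Js := j7_21_0 ++ (j7_21_1 ++ (j7_21_2 ++ (j7_21_3 ++ (j7_21_4 ++ (j7_21_5 ++ (j7_21_6 ++ (j7_21_7 ++ (j7_21_8 ++ (j7_21_9 ++ (j7_21_10 ++ (j7_21_11 ++ (j7_21_12 ++ (j7_21_13 ++ (j7_21_14 ++ (j7_21_15 ++ []))))))))))))))))
  (jobs_append t7_21_0 <| jobs_append t7_21_1 <| jobs_append t7_21_2 <| jobs_append t7_21_3 <| jobs_append t7_21_4 <| jobs_append t7_21_5 <| jobs_append t7_21_6 <| jobs_append t7_21_7 <| jobs_append t7_21_8 <| jobs_append t7_21_9 <| jobs_append t7_21_10 <| jobs_append t7_21_11 <| jobs_append t7_21_12 <| jobs_append t7_21_13 <| jobs_append t7_21_14 <| jobs_append t7_21_15 <| List.forall_mem_nil _) (by decide +kernel)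

theorem d7_22 : Dn 7 S8 b7_22 := dn_of (Js := j7_22_0 ++ (j7_22_1 ++ (j7_22_2 ++ (j7_22_3 ++ (j7_22_4 ++ (j7_22_5 ++ (j7_22_6 ++ (j7_22_7 ++ (j7_22_8 ++ (j7_22_9 ++ (j7_22_10 ++ (j7_22_11 ++ (j7_22_12 ++ (j7_22_13 ++ (j7_22_14 ++ (j7_22_15 ++ (j7_22_16 ++ (j7_22_17 ++ []))))))))))))))))))
  (jobs_append t7_22_0 <| jobs_append t7_22_1 <| jobs_append t7_22_2 <| jobs_append t7_22_3 <| jobs_append t7_22_4 <| jobs_append t7_22_5 <| jobs_append t7_22_6 <| jobs_append t7_22_7 <| jobs_append t7_22_8 <| jobs_append t7_22_9 <| jobs_append t7_22_10 <| jobs_append t7_22_11 <| jobs_append t7_22_12 <| jobs_append t7_22_13 <| jobs_append t7_22_14 <| jobs_append t7_22_15 <| jobs_append t7_22_16 <| jobs_append t7_22_17 <| List.forall_mem_nil _) (by decide +kernel)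

theorem d7_23 : Dn 7 S8 b7_23 := dn_of (Js := j7_23_0 ++ (j7_23_1 ++ (j7_23_2 ++ (j7_23_3 ++ (j7_23_4 ++ (j7_23_5 ++ (j7_23_6 ++ (j7_23_7 ++ (j7_23_8 ++ (j7_23_9 ++ (j7_23_10 ++ (j7_23_11 ++ (j7_23_12 ++ (j7_23_13 ++ (j7_23_14 ++ (j7_23_15 ++ (j7_23_16 ++ (j7_23_17 ++ (j7_23_18 ++ (j7_23_19 ++ (j7_23_20 ++ (j7_23_21 ++ (j7_23_22 ++ (j7_23_23 ++ (j7_23_24 ++ [])))))))))))))))))))))))))
  (jobs_append t7_23_0 <| jobs_append t7_23_1 <| jobs_append t7_23_2 <| jobs_append t7_23_3 <| jobs_append t7_23_4 <| jobs_append t7_23_5 <| jobs_append t7_23_6 <| jobs_append t7_23_7 <| jobs_append t7_23_8 <| jobs_append t7_23_9 <| jobs_append t7_23_10 <| jobs_append t7_23_11 <| jobs_append t7_23_12 <| jobs_append t7_23_13 <| jobs_append t7_23_14 <| jobs_append t7_23_15 <| jobs_append t7_23_16 <| jobs_append t7_23_17 <| jobs_append t7_23_18 <| jobs_append t7_23_19 <| jobs_append t7_23_20 <| jobs_append t7_23_21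 <| jobs_append t7_23_22 <| jobs_append t7_23_23 <| jobs_append t7_23_24 <| List.forall_mem_nil _) (by decide +kernel)

theorem d7_24 : Dn 7 S8 b7_24 := dn_of (Js := j7_24_0 ++ (j7_24_1 ++ (j7_24_2 ++ (j7_24_3 ++ (j7_24_4 ++ (j7_24_5 ++ (j7_24_6 ++ (j7_24_7 ++ (j7_24_8 ++ (j7_24_9 ++ (j7_24_10 ++ (j7_24_11 ++ (j7_24_12 ++ (j7_24_13 ++ (j7_24_14 ++ (j7_24_15 ++ (j7_24_16 ++ (j7_24_17 ++ (j7_24_18 ++ (j7_24_19 ++ (j7_24_20 ++ (j7_24_21 ++ (j7_24_22 ++ (j7_24_23 ++ (j7_24_24 ++ (j7_24_25 ++ (j7_24_26 ++ (j7_24_27 ++ (j7_24_28 ++ (j7_24_29 ++ (j7_24_30 ++ (j7_24_31 ++ (j7_24_32 ++ (j7_24_33 ++ (j7_24_34 ++ (j7_24_35 ++ (j7_24_36 ++ (j7_24_37 ++ (j7_24_38 ++ (j7_24_39 ++ (j7_24_40 ++ (j7_24_41 ++ (j7_24_42 ++ [])))))))))))))))))))))))))))))))))))))))))))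
  (jobs_append t7_24_0 <| jobs_append t7_24_1 <| jobs_append t7_24_2 <| jobs_append t7_24_3 <| jobs_append t7_24_4 <| jobs_append t7_24_5 <| jobs_append t7_24_6 <| jobs_append t7_24_7 <| jobs_append t7_24_8 <| jobs_append t7_24_9 <| jobs_append t7_24_10 <| jobs_append t7_24_11 <| jobs_append t7_24_12 <| jobs_append t7_24_13 <| jobs_append t7_24_14 <| jobs_append t7_24_15 <| jobs_append t7_24_16 <| jobs_append t7_24_17 <| jobs_append t7_24_18 <| jobs_append t7_24_19 <| jobs_append t7_24_20 <| jobs_append t7_24_21 <| jobs_append t7_24_22 <| jobs_append t7_24_23 <| jobs_append t7_24_24 <| jobs_append t7_24_25 <| jobs_append t7_24_26 <| jobs_append t7_24_27 <| jobs_append t7_24_28 <| jobs_append t7_24_29 <| jobs_append t7_24_30 <| jobs_append t7_24_31 <| jobs_append t7_24_32 <| jobs_append t7_24_33 <| jobs_append t7_24_34 <| jobs_append t7_24_35 <| jobs_append t7_24_36 <| jobs_append t7_24_37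 <| jobs_append t7_24_38 <| jobs_append t7_24_39 <| jobs_append t7_24_40 <| jobs_append t7_24_41 <| jobs_append t7_24_42 <| List.forall_mem_nil _) (by decide +kernel)

theorem d7_25 : Dn 7 S8 b7_25 := dn_of (Js := j7_25_0 ++ (j7_25_1 ++ (j7_25_2 ++ (j7_25_3 ++ (j7_25_4 ++ (j7_25_5 ++ (j7_25_6 ++ (j7_25_7 ++ (j7_25_8 ++ (j7_25_9 ++ (j7_25_10 ++ (j7_25_11 ++ (j7_25_12 ++ (j7_25_13 ++ (j7_25_14 ++ (j7_25_15 ++ (j7_25_16 ++ (j7_25_17 ++ (j7_25_18 ++ [])))))))))))))))))))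
  (jobs_append t7_25_0 <| jobs_append t7_25_1 <| jobs_append t7_25_2 <| jobs_append t7_25_3 <| jobs_append t7_25_4 <| jobs_append t7_25_5 <| jobs_append t7_25_6 <| jobs_append t7_25_7 <| jobs_append t7_25_8 <| jobs_append t7_25_9 <| jobs_append t7_25_10 <| jobs_append t7_25_11 <| jobs_append t7_25_12 <| jobs_append t7_25_13 <| jobs_append t7_25_14 <| jobs_append t7_25_15 <| jobs_append t7_25_16 <| jobs_append t7_25_17 <| jobs_append t7_25_18 <| List.forall_mem_nil _) (by decide +kernel)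

theorem d7_26 : Dn 7 S8 b7_26 := dn_of (Js := j7_26_0 ++ (j7_26_1 ++ (j7_26_2 ++ (j7_26_3 ++ (j7_26_4 ++ (j7_26_5 ++ (j7_26_6 ++ (j7_26_7 ++ (j7_26_8 ++ (j7_26_9 ++ (j7_26_10 ++ (j7_26_11 ++ (j7_26_12 ++ (j7_26_13 ++ (j7_26_14 ++ (j7_26_15 ++ (j7_26_16 ++ (j7_26_17 ++ (j7_26_18 ++ (j7_26_19 ++ (j7_26_20 ++ (j7_26_21 ++ (j7_26_22 ++ (j7_26_23 ++ (j7_26_24 ++ (j7_26_25 ++ []))))))))))))))))))))))))))
  (jobs_append t7_26_0 <| jobs_append t7_26_1 <| jobs_append t7_26_2 <| jobs_append t7_26_3 <| jobs_append t7_26_4 <| jobs_append t7_26_5 <| jobs_append t7_26_6 <| jobs_append t7_26_7 <| jobs_append t7_26_8 <| jobs_append t7_26_9 <| jobs_append t7_26_10 <| jobs_append t7_26_11 <| jobs_append t7_26_12 <| jobs_append t7_26_13 <| jobs_append t7_26_14 <| jobs_append t7_26_15 <| jobs_append t7_26_16 <| jobs_append t7_26_17 <| jobs_append t7_26_18 <| jobs_append t7_26_19 <| jobs_append t7_26_20 <| jobs_append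 t7_26_21 <| jobs_append t7_26_22 <| jobs_append t7_26_23 <| jobs_append t7_26_24 <| jobs_append t7_26_25 <| List.forall_mem_nil _) (by decide +kernel)

theorem d7_27 : Dn 7 S8 b7_27 := dn_of (Js := j7_27_0 ++ (j7_27_1 ++ (j7_27_2 ++ (j7_27_3 ++ (j7_27_4 ++ (j7_27_5 ++ (j7_27_6 ++ (j7_27_7 ++ (j7_27_8 ++ (j7_27_9 ++ (j7_27_10 ++ (j7_27_11 ++ (j7_27_12 ++ (j7_27_13 ++ (j7_27_14 ++ (j7_27_15 ++ (j7_27_16 ++ (j7_27_17 ++ (j7_27_18 ++ (j7_27_19 ++ (j7_27_20 ++ (j7_27_21 ++ (j7_27_22 ++ (j7_27_23 ++ []))))))))))))))))))))))))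
  (jobs_append t7_27_0 <| jobs_append t7_27_1 <| jobs_append t7_27_2 <| jobs_append t7_27_3 <| jobs_append t7_27_4 <| jobs_append t7_27_5 <| jobs_append t7_27_6 <| jobs_append t7_27_7 <| jobs_append t7_27_8 <| jobs_append t7_27_9 <| jobs_append t7_27_10 <| jobs_append t7_27_11 <| jobs_append t7_27_12 <| jobs_append t7_27_13 <| jobs_append t7_27_14 <| jobs_append t7_27_15 <| jobs_append t7_27_16 <| jobs_append t7_27_17 <| jobs_append t7_27_18 <| jobs_append t7_27_19 <| jobs_append t7_27_20 <| jobs_append t7_27_21 <| jobs_append t7_27_22 <| jobs_append t7_27_23 <| List.forall_mem_nil _) (by decide +kernel)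

theorem d7_28 : Dn 7 S8 b7_28 := dn_of (Js := j7_28_0 ++ (j7_28_1 ++ (j7_28_2 ++ (j7_28_3 ++ (j7_28_4 ++ (j7_28_5 ++ (j7_28_6 ++ (j7_28_7 ++ (j7_28_8 ++ (j7_28_9 ++ (j7_28_10 ++ (j7_28_11 ++ (j7_28_12 ++ (j7_28_13 ++ (j7_28_14 ++ (j7_28_15 ++ (j7_28_16 ++ (j7_28_17 ++ (j7_28_18 ++ (j7_28_19 ++ (j7_28_20 ++ (j7_28_21 ++ (j7_28_22 ++ (j7_28_23 ++ (j7_28_24 ++ (j7_28_25 ++ (j7_28_26 ++ (j7_28_27 ++ (j7_28_28 ++ (j7_28_29 ++ (j7_28_30 ++ (j7_28_31 ++ (j7_28_32 ++ (j7_28_33 ++ []))))))))))))))))))))))))))))))))))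
  (jobs_append t7_28_0 <| jobs_append t7_28_1 <| jobs_append t7_28_2 <| jobs_append t7_28_3 <| jobs_append t7_28_4 <| jobs_append t7_28_5 <| jobs_append t7_28_6 <| jobs_append t7_28_7 <| jobs_append t7_28_8 <| jobs_append t7_28_9 <| jobs_append t7_28_10 <| jobs_append t7_28_11 <| jobs_append t7_28_12 <| jobs_append t7_28_13 <| jobs_append t7_28_14 <| jobs_append t7_28_15 <| jobs_append t7_28_16 <| jobs_append t7_28_17 <| jobs_append t7_28_18 <| jobs_append t7_28_19 <| jobs_append t7_28_20 <| jobs_append t7_28_21 <| jobs_append t7_28_22 <| jobs_append t7_28_23 <| jobs_append t7_28_24 <| jobs_append t7_28_25 <| jobs_append t7_28_26 <| jobs_append t7_28_27 <| jobs_append t7_28_28 <| jobs_append t7_28_29 <| jobs_append t7_28_30 <| jobs_append t7_28_31 <| jobs_append t7_28_32 <| jobs_append t7_28_33 <| List.forall_mem_nil _) (by decide +kernel)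

theorem d7_29 : Dn 7 S8 b7_29 := dn_of (Js := j7_29_0 ++ (j7_29_1 ++ (j7_29_2 ++ (j7_29_3 ++ (j7_29_4 ++ (j7_29_5 ++ (j7_29_6 ++ (j7_29_7 ++ (j7_29_8 ++ (j7_29_9 ++ (j7_29_10 ++ (j7_29_11 ++ (j7_29_12 ++ (j7_29_13 ++ (j7_29_14 ++ (j7_29_15 ++ (j7_29_16 ++ (j7_29_17 ++ (j7_29_18 ++ [])))))))))))))))))))
  (jobs_append t7_29_0 <| jobs_append t7_29_1 <| jobs_append t7_29_2 <| jobs_append t7_29_3 <| jobs_append t7_29_4 <| jobs_append t7_29_5 <| jobs_append t7_29_6 <| jobs_append t7_29_7 <| jobs_append t7_29_8 <| jobs_append t7_29_9 <| jobs_append t7_29_10 <| jobs_append t7_29_11 <| jobs_append t7_29_12 <| jobs_append t7_29_13 <| jobs_append t7_29_14 <| jobs_append t7_29_15 <| jobs_append t7_29_16 <| jobs_append t7_29_17 <| jobs_append t7_29_18 <| List.forall_mem_nil _) (by decide +kernel)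

theorem d7_30 : Dn 7 S8 b7_30 := dn_of (Js := j7_30_0 ++ (j7_30_1 ++ (j7_30_2 ++ (j7_30_3 ++ (j7_30_4 ++ (j7_30_5 ++ (j7_30_6 ++ (j7_30_7 ++ (j7_30_8 ++ (j7_30_9 ++ (j7_30_10 ++ (j7_30_11 ++ (j7_30_12 ++ (j7_30_13 ++ (j7_30_14 ++ (j7_30_15 ++ (j7_30_16 ++ (j7_30_17 ++ (j7_30_18 ++ (j7_30_19 ++ []))))))))))))))))))))
  (jobs_append t7_30_0 <| jobs_append t7_30_1 <| jobs_append t7_30_2 <| jobs_append t7_30_3 <| jobs_append t7_30_4 <| jobs_append t7_30_5 <| jobs_append t7_30_6 <| jobs_append t7_30_7 <| jobs_append t7_30_8 <| jobs_append t7_30_9 <| jobs_append t7_30_10 <| jobs_append t7_30_11 <| jobs_append t7_30_12 <| jobs_append t7_30_13 <| jobs_append t7_30_14 <| jobs_append t7_30_15 <| jobs_append t7_30_16 <| jobs_append t7_30_17 <| jobs_append t7_30_18 <| jobs_append t7_30_19 <| List.forall_mem_nil _) (by decide +kernel)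

theorem d7_31 : Dn 7 S8 b7_31 := dn_of (Js := j7_31_0 ++ (j7_31_1 ++ (j7_31_2 ++ (j7_31_3 ++ (j7_31_4 ++ (j7_31_5 ++ (j7_31_6 ++ (j7_31_7 ++ (j7_31_8 ++ (j7_31_9 ++ (j7_31_10 ++ (j7_31_11 ++ (j7_31_12 ++ (j7_31_13 ++ (j7_31_14 ++ (j7_31_15 ++ (j7_31_16 ++ [])))))))))))))))))
  (jobs_append t7_31_0 <| jobs_append t7_31_1 <| jobs_append t7_31_2 <| jobs_append t7_31_3 <| jobs_append t7_31_4 <| jobs_append t7_31_5 <| jobs_append t7_31_6 <| jobs_append t7_31_7 <| jobs_append t7_31_8 <| jobs_append t7_31_9 <| jobs_append t7_31_10 <| jobs_append t7_31_11 <| jobs_append t7_31_12 <| jobs_append t7_31_13 <| jobs_append t7_31_14 <| jobs_append t7_31_15 <| jobs_append t7_31_16 <| List.forall_mem_nil _) (by decide +kernel)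

theorem d7_32 : Dn 7 S8 b7_32 := dn_of (Js := j7_32_0 ++ (j7_32_1 ++ (j7_32_2 ++ (j7_32_3 ++ (j7_32_4 ++ (j7_32_5 ++ (j7_32_6 ++ (j7_32_7 ++ (j7_32_8 ++ (j7_32_9 ++ (j7_32_10 ++ (j7_32_11 ++ (j7_32_12 ++ (j7_32_13 ++ (j7_32_14 ++ (j7_32_15 ++ (j7_32_16 ++ [])))))))))))))))))
  (jobs_append t7_32_0 <| jobs_append t7_32_1 <| jobs_append t7_32_2 <| jobs_append t7_32_3 <| jobs_append t7_32_4 <| jobs_append t7_32_5 <| jobs_append t7_32_6 <| jobs_append t7_32_7 <| jobs_append t7_32_8 <| jobs_append t7_32_9 <| jobs_append t7_32_10 <| jobs_append t7_32_11 <| jobs_append t7_32_12 <| jobs_append t7_32_13 <| jobs_append t7_32_14 <| jobs_append t7_32_15 <| jobs_append t7_32_16 <| List.forall_mem_nil _) (by decide +kernel)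

theorem d7_33 : Dn 7 S8 b7_33 := dn_of (Js := j7_33_0 ++ (j7_33_1 ++ (j7_33_2 ++ (j7_33_3 ++ (j7_33_4 ++ (j7_33_5 ++ (j7_33_6 ++ (j7_33_7 ++ (j7_33_8 ++ (j7_33_9 ++ (j7_33_10 ++ (j7_33_11 ++ (j7_33_12 ++ (j7_33_13 ++ (j7_33_14 ++ (j7_33_15 ++ (j7_33_16 ++ (j7_33_17 ++ (j7_33_18 ++ (j7_33_19 ++ (j7_33_20 ++ (j7_33_21 ++ (j7_33_22 ++ (j7_33_23 ++ []))))))))))))))))))))))))
  (jobs_append t7_33_0 <| jobs_append t7_33_1 <| jobs_append t7_33_2 <| jobs_append t7_33_3 <| jobs_append t7_33_4 <| jobs_append t7_33_5 <| jobs_append t7_33_6 <| jobs_append t7_33_7 <| jobs_append t7_33_8 <| jobs_append t7_33_9 <| jobs_append t7_33_10 <| jobs_append t7_33_11 <| jobs_append t7_33_12 <| jobs_append t7_33_13 <| jobs_append t7_33_14 <| jobs_append t7_33_15 <| jobs_append t7_33_16 <| jobs_append t7_33_17 <| jobs_append t7_33_18 <| jobs_append t7_33_19 <| jobs_append t7_33_20 <| jobs_append t7_33_21 <| jobs_append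 t7_33_22 <| jobs_append t7_33_23 <| List.forall_mem_nil _) (by decide +kernel)

theorem d7_34 : Dn 7 S8 b7_34 := dn_of (Js := j7_34_0 ++ (j7_34_1 ++ (j7_34_2 ++ (j7_34_3 ++ (j7_34_4 ++ (j7_34_5 ++ (j7_34_6 ++ (j7_34_7 ++ (j7_34_8 ++ (j7_34_9 ++ (j7_34_10 ++ (j7_34_11 ++ (j7_34_12 ++ (j7_34_13 ++ (j7_34_14 ++ (j7_34_15 ++ (j7_34_16 ++ (j7_34_17 ++ (j7_34_18 ++ (j7_34_19 ++ (j7_34_20 ++ (j7_34_21 ++ (j7_34_22 ++ (j7_34_23 ++ (j7_34_24 ++ (j7_34_25 ++ (j7_34_26 ++ (j7_34_27 ++ (j7_34_28 ++ (j7_34_29 ++ (j7_34_30 ++ [])))))))))))))))))))))))))))))))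
  (jobs_append t7_34_0 <| jobs_append t7_34_1 <| jobs_append t7_34_2 <| jobs_append t7_34_3 <| jobs_append t7_34_4 <| jobs_append t7_34_5 <| jobs_append t7_34_6 <| jobs_append t7_34_7 <| jobs_append t7_34_8 <| jobs_append t7_34_9 <| jobs_append t7_34_10 <| jobs_append t7_34_11 <| jobs_append t7_34_12 <| jobs_append t7_34_13 <| jobs_append t7_34_14 <| jobs_append t7_34_15 <| jobs_append t7_34_16 <| jobs_append t7_34_17 <| jobs_append t7_34_18 <| jobs_append t7_34_19 <| jobs_append t7_34_20 <| jobs_append t7_34_21 <| jobs_append t7_34_22 <| jobs_append t7_34_23 <| jobs_append t7_34_24 <| jobs_append t7_34_25 <| jobs_append t7_34_26 <| jobs_append t7_34_27 <| jobs_append t7_34_28 <| jobs_append t7_34_29 <| jobs_append t7_34_30 <| List.forall_mem_nil _) (by decide +kernel)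

theorem d7_35 : Dn 7 S8 b7_35 := dn_of (Js := j7_35_0 ++ (j7_35_1 ++ (j7_35_2 ++ (j7_35_3 ++ (j7_35_4 ++ (j7_35_5 ++ (j7_35_6 ++ (j7_35_7 ++ (j7_35_8 ++ (j7_35_9 ++ (j7_35_10 ++ (j7_35_11 ++ (j7_35_12 ++ (j7_35_13 ++ (j7_35_14 ++ (j7_35_15 ++ (j7_35_16 ++ (j7_35_17 ++ (j7_35_18 ++ (j7_35_19 ++ (j7_35_20 ++ (j7_35_21 ++ (j7_35_22 ++ (j7_35_23 ++ (j7_35_24 ++ (j7_35_25 ++ (j7_35_26 ++ [])))))))))))))))))))))))))))
  (jobs_append t7_35_0 <| jobs_append t7_35_1 <| jobs_append t7_35_2 <| jobs_append t7_35_3 <| jobs_append t7_35_4 <| jobs_append t7_35_5 <| jobs_append t7_35_6 <| jobs_append t7_35_7 <| jobs_append t7_35_8 <| jobs_append t7_35_9 <| jobs_append t7_35_10 <| jobs_append t7_35_11 <| jobs_append t7_35_12 <| jobs_append t7_35_13 <| jobs_append t7_35_14 <| jobs_append t7_35_15 <| jobs_append t7_35_16 <| jobs_append t7_35_17 <| jobs_append t7_35_18 <| jobs_append t7_35_19 <| jobs_append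 t7_35_20 <| jobs_append t7_35_21 <| jobs_append t7_35_22 <| jobs_append t7_35_23 <| jobs_append t7_35_24 <| jobs_append t7_35_25 <| jobs_append t7_35_26 <| List.forall_mem_nil _) (by decide +kernel)

theorem d7_36 : Dn 7 S8 b7_36 := dn_of (Js := j7_36_0 ++ (j7_36_1 ++ (j7_36_2 ++ (j7_36_3 ++ (j7_36_4 ++ (j7_36_5 ++ (j7_36_6 ++ (j7_36_7 ++ (j7_36_8 ++ (j7_36_9 ++ (j7_36_10 ++ (j7_36_11 ++ (j7_36_12 ++ (j7_36_13 ++ (j7_36_14 ++ (j7_36_15 ++ (j7_36_16 ++ (j7_36_17 ++ (j7_36_18 ++ (j7_36_19 ++ (j7_36_20 ++ (j7_36_21 ++ (j7_36_22 ++ (j7_36_23 ++ (j7_36_24 ++ (j7_36_25 ++ (j7_36_26 ++ (j7_36_27 ++ (j7_36_28 ++ (j7_36_29 ++ (j7_36_30 ++ (j7_36_31 ++ (j7_36_32 ++ (j7_36_33 ++ (j7_36_34 ++ (j7_36_35 ++ []))))))))))))))))))))))))))))))))))))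
  (jobs_append t7_36_0 <| jobs_append t7_36_1 <| jobs_append t7_36_2 <| jobs_append t7_36_3 <| jobs_append t7_36_4 <| jobs_append t7_36_5 <| jobs_append t7_36_6 <| jobs_append t7_36_7 <| jobs_append t7_36_8 <| jobs_append t7_36_9 <| jobs_append t7_36_10 <| jobs_append t7_36_11 <| jobs_append t7_36_12 <| jobs_append t7_36_13 <| jobs_append t7_36_14 <| jobs_append t7_36_15 <| jobs_append t7_36_16 <| jobs_append t7_36_17 <| jobs_append t7_36_18 <| jobs_append t7_36_19 <| jobs_append t7_36_20 <| jobs_append t7_36_21 <| jobs_append t7_36_22 <| jobs_append t7_36_23 <| jobs_append t7_36_24 <| jobs_append t7_36_25 <| jobs_append t7_36_26 <| jobs_append t7_36_27 <| jobs_append t7_36_28 <| jobs_append t7_36_29 <| jobs_append t7_36_30 <| jobs_append t7_36_31 <| jobs_append t7_36_32 <| jobs_append t7_36_33 <| jobs_append t7_36_34 <| jobs_append t7_36_35 <| List.forall_mem_nil _) (by decide +kernel)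

theorem d7_37 : Dn 7 S8 b7_37 := dn_of (Js := j7_37_0 ++ (j7_37_1 ++ (j7_37_2 ++ (j7_37_3 ++ (j7_37_4 ++ (j7_37_5 ++ (j7_37_6 ++ (j7_37_7 ++ (j7_37_8 ++ (j7_37_9 ++ (j7_37_10 ++ (j7_37_11 ++ (j7_37_12 ++ (j7_37_13 ++ (j7_37_14 ++ (j7_37_15 ++ (j7_37_16 ++ (j7_37_17 ++ (j7_37_18 ++ (j7_37_19 ++ (j7_37_20 ++ (j7_37_21 ++ (j7_37_22 ++ (j7_37_23 ++ (j7_37_24 ++ (j7_37_25 ++ (j7_37_26 ++ (j7_37_27 ++ (j7_37_28 ++ (j7_37_29 ++ []))))))))))))))))))))))))))))))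
  (jobs_append t7_37_0 <| jobs_append t7_37_1 <| jobs_append t7_37_2 <| jobs_append t7_37_3 <| jobs_append t7_37_4 <| jobs_append t7_37_5 <| jobs_append t7_37_6 <| jobs_append t7_37_7 <| jobs_append t7_37_8 <| jobs_append t7_37_9 <| jobs_append t7_37_10 <| jobs_append t7_37_11 <| jobs_append t7_37_12 <| jobs_append t7_37_13 <| jobs_append t7_37_14 <| jobs_append t7_37_15 <| jobs_append t7_37_16 <| jobs_append t7_37_17 <| jobs_append t7_37_18 <| jobs_append t7_37_19 <| jobs_append t7_37_20 <| jobs_append t7_37_21 <| jobs_append t7_37_22 <| jobs_append t7_37_23 <| jobs_append t7_37_24 <| jobs_append t7_37_25 <| jobs_append t7_37_26 <| jobs_append t7_37_27 <| jobs_append t7_37_28 <| jobs_append t7_37_29 <| List.forall_mem_nil _) (by decide +kernel)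

theorem d7_38 : Dn 7 S8 b7_38 := dn_of (Js := j7_38_0 ++ (j7_38_1 ++ (j7_38_2 ++ (j7_38_3 ++ (j7_38_4 ++ (j7_38_5 ++ (j7_38_6 ++ (j7_38_7 ++ (j7_38_8 ++ (j7_38_9 ++ (j7_38_10 ++ (j7_38_11 ++ (j7_38_12 ++ (j7_38_13 ++ (j7_38_14 ++ (j7_38_15 ++ (j7_38_16 ++ (j7_38_17 ++ (j7_38_18 ++ (j7_38_19 ++ (j7_38_20 ++ (j7_38_21 ++ (j7_38_22 ++ (j7_38_23 ++ (j7_38_24 ++ (j7_38_25 ++ (j7_38_26 ++ (j7_38_27 ++ (j7_38_28 ++ (j7_38_29 ++ (j7_38_30 ++ [])))))))))))))))))))))))))))))))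
  (jobs_append t7_38_0 <| jobs_append t7_38_1 <| jobs_append t7_38_2 <| jobs_append t7_38_3 <| jobs_append t7_38_4 <| jobs_append t7_38_5 <| jobs_append t7_38_6 <| jobs_append t7_38_7 <| jobs_append t7_38_8 <| jobs_append t7_38_9 <| jobs_append t7_38_10 <| jobs_append t7_38_11 <| jobs_append t7_38_12 <| jobs_append t7_38_13 <| jobs_append t7_38_14 <| jobs_append t7_38_15 <| jobs_append t7_38_16 <| jobs_append t7_38_17 <| jobs_append t7_38_18 <| jobs_append t7_38_19 <| jobs_append t7_38_20 <| jobs_append t7_38_21 <| jobs_append t7_38_22 <| jobs_append t7_38_23 <| jobs_append t7_38_24 <| jobs_append t7_38_25 <| jobs_append t7_38_26 <| jobs_append t7_38_27 <| jobs_append t7_38_28 <| jobs_append t7_38_29 <| jobs_append t7_38_30 <| List.forall_mem_nil _) (by decide +kernel)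

theorem d7_39 : Dn 7 S8 b7_39 := dn_of (Js := j7_39_0 ++ (j7_39_1 ++ (j7_39_2 ++ (j7_39_3 ++ (j7_39_4 ++ (j7_39_5 ++ (j7_39_6 ++ (j7_39_7 ++ (j7_39_8 ++ (j7_39_9 ++ (j7_39_10 ++ (j7_39_11 ++ (j7_39_12 ++ (j7_39_13 ++ (j7_39_14 ++ (j7_39_15 ++ (j7_39_16 ++ (j7_39_17 ++ (j7_39_18 ++ (j7_39_19 ++ (j7_39_20 ++ (j7_39_21 ++ (j7_39_22 ++ (j7_39_23 ++ (j7_39_24 ++ (j7_39_25 ++ (j7_39_26 ++ (j7_39_27 ++ (j7_39_28 ++ [])))))))))))))))))))))))))))))
  (jobs_append t7_39_0 <| jobs_append t7_39_1 <| jobs_append t7_39_2 <| jobs_append t7_39_3 <| jobs_append t7_39_4 <| jobs_append t7_39_5 <| jobs_append t7_39_6 <| jobs_append t7_39_7 <| jobs_append t7_39_8 <| jobs_append t7_39_9 <| jobs_append t7_39_10 <| jobs_append t7_39_11 <| jobs_append t7_39_12 <| jobs_append t7_39_13 <| jobs_append t7_39_14 <| jobs_append t7_39_15 <| jobs_append t7_39_16 <| jobs_append t7_39_17 <| jobs_append t7_39_18 <| jobs_append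 t7_39_19 <| jobs_append t7_39_20 <| jobs_append t7_39_21 <| jobs_append t7_39_22 <| jobs_append t7_39_23 <| jobs_append t7_39_24 <| jobs_append t7_39_25 <| jobs_append t7_39_26 <| jobs_append t7_39_27 <| jobs_append t7_39_28 <| List.forall_mem_nil _) (by decide +kernel)

theorem d7_40 : Dn 7 S8 b7_40 := dn_of (Js := j7_40_0 ++ (j7_40_1 ++ (j7_40_2 ++ (j7_40_3 ++ (j7_40_4 ++ (j7_40_5 ++ (j7_40_6 ++ (j7_40_7 ++ (j7_40_8 ++ (j7_40_9 ++ (j7_40_10 ++ (j7_40_11 ++ (j7_40_12 ++ (j7_40_13 ++ (j7_40_14 ++ (j7_40_15 ++ (j7_40_16 ++ (j7_40_17 ++ (j7_40_18 ++ (j7_40_19 ++ (j7_40_20 ++ (j7_40_21 ++ (j7_40_22 ++ (j7_40_23 ++ (j7_40_24 ++ (j7_40_25 ++ (j7_40_26 ++ [])))))))))))))))))))))))))))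
  (jobs_append t7_40_0 <| jobs_append t7_40_1 <| jobs_append t7_40_2 <| jobs_append t7_40_3 <| jobs_append t7_40_4 <| jobs_append t7_40_5 <| jobs_append t7_40_6 <| jobs_append t7_40_7 <| jobs_append t7_40_8 <| jobs_append t7_40_9 <| jobs_append t7_40_10 <| jobs_append t7_40_11 <| jobs_append t7_40_12 <| jobs_append t7_40_13 <| jobs_append t7_40_14 <| jobs_append t7_40_15 <| jobs_append t7_40_16 <| jobs_append t7_40_17 <| jobs_append t7_40_18 <| jobs_append t7_40_19 <| jobs_append t7_40_20 <| jobs_append t7_40_21 <| jobs_append t7_40_22 <| jobs_append t7_40_23 <| jobs_append t7_40_24 <| jobs_append t7_40_25 <| jobs_append t7_40_26 <| List.forall_mem_nil _) (by decide +kernel)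

theorem d7_41 : Dn 7 S8 b7_41 := dn_of (Js := j7_41_0 ++ (j7_41_1 ++ (j7_41_2 ++ (j7_41_3 ++ (j7_41_4 ++ (j7_41_5 ++ (j7_41_6 ++ (j7_41_7 ++ (j7_41_8 ++ (j7_41_9 ++ (j7_41_10 ++ (j7_41_11 ++ (j7_41_12 ++ (j7_41_13 ++ (j7_41_14 ++ (j7_41_15 ++ (j7_41_16 ++ (j7_41_17 ++ (j7_41_18 ++ (j7_41_19 ++ (j7_41_20 ++ (j7_41_21 ++ (j7_41_22 ++ (j7_41_23 ++ (j7_41_24 ++ (j7_41_25 ++ (j7_41_26 ++ (j7_41_27 ++ (j7_41_28 ++ (j7_41_29 ++ (j7_41_30 ++ (j7_41_31 ++ (j7_41_32 ++ (j7_41_33 ++ (j7_41_34 ++ (j7_41_35 ++ (j7_41_36 ++ (j7_41_37 ++ (j7_41_38 ++ (j7_41_39 ++ (j7_41_40 ++ (j7_41_41 ++ (j7_41_42 ++ (j7_41_43 ++ (j7_41_44 ++ [])))))))))))))))))))))))))))))))))))))))))))))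
  (jobs_append t7_41_0 <| jobs_append t7_41_1 <| jobs_append t7_41_2 <| jobs_append t7_41_3 <| jobs_append t7_41_4 <| jobs_append t7_41_5 <| jobs_append t7_41_6 <| jobs_append t7_41_7 <| jobs_append t7_41_8 <| jobs_append t7_41_9 <| jobs_append t7_41_10 <| jobs_append t7_41_11 <| jobs_append t7_41_12 <| jobs_append t7_41_13 <| jobs_append t7_41_14 <| jobs_append t7_41_15 <| jobs_append t7_41_16 <| jobs_append t7_41_17 <| jobs_append t7_41_18 <| jobs_append t7_41_19 <| jobs_append t7_41_20 <| jobs_append t7_41_21 <| jobs_append t7_41_22 <| jobs_append t7_41_23 <| jobs_append t7_41_24 <| jobs_append t7_41_25 <| jobs_append t7_41_26 <| jobs_append t7_41_27 <| jobs_append t7_41_28 <| jobs_append t7_41_29 <| jobs_append t7_41_30 <| jobs_append t7_41_31 <| jobs_append t7_41_32 <| jobs_append t7_41_33 <| jobs_append t7_41_34 <| jobs_append t7_41_35 <| jobs_append t7_41_36 <| jobs_append t7_41_37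 <| jobs_append t7_41_38 <| jobs_append t7_41_39 <| jobs_append t7_41_40 <| jobs_append t7_41_41 <| jobs_append t7_41_42 <| jobs_append t7_41_43 <| jobs_append t7_41_44 <| List.forall_mem_nil _) (by decide +kernel)

theorem d7_42 : Dn 7 S8 b7_42 := dn_of (Js := j7_42_0 ++ (j7_42_1 ++ (j7_42_2 ++ (j7_42_3 ++ (j7_42_4 ++ (j7_42_5 ++ (j7_42_6 ++ (j7_42_7 ++ (j7_42_8 ++ (j7_42_9 ++ (j7_42_10 ++ (j7_42_11 ++ (j7_42_12 ++ (j7_42_13 ++ (j7_42_14 ++ (j7_42_15 ++ (j7_42_16 ++ (j7_42_17 ++ (j7_42_18 ++ (j7_42_19 ++ (j7_42_20 ++ (j7_42_21 ++ (j7_42_22 ++ (j7_42_23 ++ (j7_42_24 ++ (j7_42_25 ++ (j7_42_26 ++ (j7_42_27 ++ (j7_42_28 ++ (j7_42_29 ++ (j7_42_30 ++ (j7_42_31 ++ (j7_42_32 ++ (j7_42_33 ++ (j7_42_34 ++ (j7_42_35 ++ (j7_42_36 ++ (j7_42_37 ++ (j7_42_38 ++ (j7_42_39 ++ (j7_42_40 ++ (j7_42_41 ++ (j7_42_42 ++ (j7_42_43 ++ (j7_42_44 ++ (j7_42_45 ++ (j7_42_46 ++ (j7_42_47 ++ (j7_42_48 ++ (j7_42_49 ++ (j7_42_50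 ++ (j7_42_51 ++ []))))))))))))))))))))))))))))))))))))))))))))))))))))
  (jobs_append t7_42_0 <| jobs_append t7_42_1 <| jobs_append t7_42_2 <| jobs_append t7_42_3 <| jobs_append t7_42_4 <| jobs_append t7_42_5 <| jobs_append t7_42_6 <| jobs_append t7_42_7 <| jobs_append t7_42_8 <| jobs_append t7_42_9 <| jobs_append t7_42_10 <| jobs_append t7_42_11 <| jobs_append t7_42_12 <| jobs_append t7_42_13 <| jobs_append t7_42_14 <| jobs_append t7_42_15 <| jobs_append t7_42_16 <| jobs_append t7_42_17 <| jobs_append t7_42_18 <| jobs_append t7_42_19 <| jobs_append t7_42_20 <| jobs_append t7_42_21 <| jobs_append t7_42_22 <| jobs_append t7_42_23 <| jobs_append t7_42_24 <| jobs_append t7_42_25 <| jobs_append t7_42_26 <| jobs_append t7_42_27 <| jobs_append t7_42_28 <| jobs_append t7_42_29 <| jobs_append t7_42_30 <| jobs_append t7_42_31 <| jobs_append t7_42_32 <| jobs_append t7_42_33 <| jobs_append t7_42_34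 <| jobs_append t7_42_35 <| jobs_append t7_42_36 <| jobs_append t7_42_37 <| jobs_append t7_42_38 <| jobs_append t7_42_39 <| jobs_append t7_42_40 <| jobs_append t7_42_41 <| jobs_append t7_42_42 <| jobs_append t7_42_43 <| jobs_append t7_42_44 <| jobs_append t7_42_45 <| jobs_append t7_42_46 <| jobs_append t7_42_47 <| jobs_append t7_42_48 <| jobs_append t7_42_49 <| jobs_append t7_42_50 <| jobs_append t7_42_51 <| List.forall_mem_nil _) (by decide +kernel)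

theorem d7_43 : Dn 7 S8 b7_43 := dn_of (Js := j7_43_0 ++ (j7_43_1 ++ (j7_43_2 ++ (j7_43_3 ++ (j7_43_4 ++ (j7_43_5 ++ (j7_43_6 ++ (j7_43_7 ++ (j7_43_8 ++ (j7_43_9 ++ (j7_43_10 ++ (j7_43_11 ++ (j7_43_12 ++ (j7_43_13 ++ (j7_43_14 ++ (j7_43_15 ++ (j7_43_16 ++ (j7_43_17 ++ (j7_43_18 ++ (j7_43_19 ++ (j7_43_20 ++ (j7_43_21 ++ (j7_43_22 ++ (j7_43_23 ++ (j7_43_24 ++ (j7_43_25 ++ (j7_43_26 ++ (j7_43_27 ++ (j7_43_28 ++ (j7_43_29 ++ (j7_43_30 ++ (j7_43_31 ++ (j7_43_32 ++ (j7_43_33 ++ (j7_43_34 ++ (j7_43_35 ++ (j7_43_36 ++ (j7_43_37 ++ (j7_43_38 ++ (j7_43_39 ++ (j7_43_40 ++ (j7_43_41 ++ (j7_43_42 ++ (j7_43_43 ++ (j7_43_44 ++ [])))))))))))))))))))))))))))))))))))))))))))))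
  (jobs_append t7_43_0 <| jobs_append t7_43_1 <| jobs_append t7_43_2 <| jobs_append t7_43_3 <| jobs_append t7_43_4 <| jobs_append t7_43_5 <| jobs_append t7_43_6 <| jobs_append t7_43_7 <| jobs_append t7_43_8 <| jobs_append t7_43_9 <| jobs_append t7_43_10 <| jobs_append t7_43_11 <| jobs_append t7_43_12 <| jobs_append t7_43_13 <| jobs_append t7_43_14 <| jobs_append t7_43_15 <| jobs_append t7_43_16 <| jobs_append t7_43_17 <| jobs_append t7_43_18 <| jobs_append t7_43_19 <| jobs_append t7_43_20 <| jobs_append t7_43_21 <| jobs_append t7_43_22 <| jobs_append t7_43_23 <| jobs_append t7_43_24 <| jobs_append t7_43_25 <| jobs_append t7_43_26 <| jobs_append t7_43_27 <| jobs_append t7_43_28 <| jobs_append t7_43_29 <| jobs_append t7_43_30 <| jobs_append t7_43_31 <| jobs_append t7_43_32 <| jobs_append t7_43_33 <| jobs_append t7_43_34 <| jobs_append t7_43_35 <| jobs_append t7_43_36 <| jobs_append t7_43_37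 <| jobs_append t7_43_38 <| jobs_append t7_43_39 <| jobs_append t7_43_40 <| jobs_append t7_43_41 <| jobs_append t7_43_42 <| jobs_append t7_43_43 <| jobs_append t7_43_44 <| List.forall_mem_nil _) (by decide +kernel)

theorem d7_44 : Dn 7 S8 b7_44 := dn_of (Js := j7_44_0 ++ (j7_44_1 ++ (j7_44_2 ++ (j7_44_3 ++ (j7_44_4 ++ (j7_44_5 ++ (j7_44_6 ++ (j7_44_7 ++ (j7_44_8 ++ (j7_44_9 ++ (j7_44_10 ++ (j7_44_11 ++ (j7_44_12 ++ (j7_44_13 ++ (j7_44_14 ++ (j7_44_15 ++ (j7_44_16 ++ (j7_44_17 ++ (j7_44_18 ++ (j7_44_19 ++ (j7_44_20 ++ (j7_44_21 ++ (j7_44_22 ++ (j7_44_23 ++ (j7_44_24 ++ (j7_44_25 ++ (j7_44_26 ++ (j7_44_27 ++ (j7_44_28 ++ (j7_44_29 ++ (j7_44_30 ++ [])))))))))))))))))))))))))))))))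
  (jobs_append t7_44_0 <| jobs_append t7_44_1 <| jobs_append t7_44_2 <| jobs_append t7_44_3 <| jobs_append t7_44_4 <| jobs_append t7_44_5 <| jobs_append t7_44_6 <| jobs_append t7_44_7 <| jobs_append t7_44_8 <| jobs_append t7_44_9 <| jobs_append t7_44_10 <| jobs_append t7_44_11 <| jobs_append t7_44_12 <| jobs_append t7_44_13 <| jobs_append t7_44_14 <| jobs_append t7_44_15 <| jobs_append t7_44_16 <| jobs_append t7_44_17 <| jobs_append t7_44_18 <| jobs_append t7_44_19 <| jobs_append t7_44_20 <| jobs_append t7_44_21 <| jobs_append t7_44_22 <| jobs_append t7_44_23 <| jobs_append t7_44_24 <| jobs_append t7_44_25 <| jobs_append t7_44_26 <| jobs_append t7_44_27 <| jobs_append t7_44_28 <| jobs_append t7_44_29 <| jobs_append t7_44_30 <| List.forall_mem_nil _) (by decide +kernel)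

theorem d7_45 : Dn 7 S8 b7_45 := dn_of (Js := j7_45_0 ++ (j7_45_1 ++ (j7_45_2 ++ (j7_45_3 ++ (j7_45_4 ++ (j7_45_5 ++ (j7_45_6 ++ (j7_45_7 ++ (j7_45_8 ++ (j7_45_9 ++ (j7_45_10 ++ (j7_45_11 ++ (j7_45_12 ++ (j7_45_13 ++ (j7_45_14 ++ (j7_45_15 ++ (j7_45_16 ++ (j7_45_17 ++ (j7_45_18 ++ (j7_45_19 ++ (j7_45_20 ++ (j7_45_21 ++ (j7_45_22 ++ (j7_45_23 ++ (j7_45_24 ++ [])))))))))))))))))))))))))
  (jobs_append t7_45_0 <| jobs_append t7_45_1 <| jobs_append t7_45_2 <| jobs_append t7_45_3 <| jobs_append t7_45_4 <| jobs_append t7_45_5 <| jobs_append t7_45_6 <| jobs_append t7_45_7 <| jobs_append t7_45_8 <| jobs_append t7_45_9 <| jobs_append t7_45_10 <| jobs_append t7_45_11 <| jobs_append t7_45_12 <| jobs_append t7_45_13 <| jobs_append t7_45_14 <| jobs_append t7_45_15 <| jobs_append t7_45_16 <| jobs_append t7_45_17 <| jobs_append t7_45_18 <| jobs_append t7_45_19 <| jobs_append t7_45_20 <| jobs_append t7_45_21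 <| jobs_append t7_45_22 <| jobs_append t7_45_23 <| jobs_append t7_45_24 <| List.forall_mem_nil _) (by decide +kernel)

theorem d7_46 : Dn 7 S8 b7_46 := dn_of (Js := j7_46_0 ++ (j7_46_1 ++ (j7_46_2 ++ (j7_46_3 ++ (j7_46_4 ++ (j7_46_5 ++ (j7_46_6 ++ (j7_46_7 ++ (j7_46_8 ++ (j7_46_9 ++ (j7_46_10 ++ (j7_46_11 ++ (j7_46_12 ++ (j7_46_13 ++ []))))))))))))))
  (jobs_append t7_46_0 <| jobs_append t7_46_1 <| jobs_append t7_46_2 <| jobs_append t7_46_3 <| jobs_append t7_46_4 <| jobs_append t7_46_5 <| jobs_append t7_46_6 <| jobs_append t7_46_7 <| jobs_append t7_46_8 <| jobs_append t7_46_9 <| jobs_append t7_46_10 <| jobs_append t7_46_11 <| jobs_append t7_46_12 <| jobs_append t7_46_13 <| List.forall_mem_nil _) (by decide +kernel)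

theorem d7_47 : Dn 7 S8 b7_47 := dn_of (Js := j7_47_0 ++ (j7_47_1 ++ (j7_47_2 ++ (j7_47_3 ++ (j7_47_4 ++ (j7_47_5 ++ (j7_47_6 ++ (j7_47_7 ++ (j7_47_8 ++ (j7_47_9 ++ (j7_47_10 ++ (j7_47_11 ++ (j7_47_12 ++ (j7_47_13 ++ (j7_47_14 ++ (j7_47_15 ++ (j7_47_16 ++ [])))))))))))))))))
  (jobs_append t7_47_0 <| jobs_append t7_47_1 <| jobs_append t7_47_2 <| jobs_append t7_47_3 <| jobs_append t7_47_4 <| jobs_append t7_47_5 <| jobs_append t7_47_6 <| jobs_append t7_47_7 <| jobs_append t7_47_8 <| jobs_append t7_47_9 <| jobs_append t7_47_10 <| jobs_append t7_47_11 <| jobs_append t7_47_12 <| jobs_append t7_47_13 <| jobs_append t7_47_14 <| jobs_append t7_47_15 <| jobs_append t7_47_16 <| List.forall_mem_nil _) (by decide +kernel)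

theorem d7_48 : Dn 7 S8 b7_48 := dn_of (Js := j7_48_0 ++ (j7_48_1 ++ (j7_48_2 ++ (j7_48_3 ++ (j7_48_4 ++ (j7_48_5 ++ (j7_48_6 ++ (j7_48_7 ++ (j7_48_8 ++ (j7_48_9 ++ (j7_48_10 ++ (j7_48_11 ++ (j7_48_12 ++ (j7_48_13 ++ (j7_48_14 ++ (j7_48_15 ++ (j7_48_16 ++ (j7_48_17 ++ (j7_48_18 ++ (j7_48_19 ++ (j7_48_20 ++ (j7_48_21 ++ (j7_48_22 ++ (j7_48_23 ++ (j7_48_24 ++ (j7_48_25 ++ (j7_48_26 ++ [])))))))))))))))))))))))))))
  (jobs_append t7_48_0 <| jobs_append t7_48_1 <| jobs_append t7_48_2 <| jobs_append t7_48_3 <| jobs_append t7_48_4 <| jobs_append t7_48_5 <| jobs_append t7_48_6 <| jobs_append t7_48_7 <| jobs_append t7_48_8 <| jobs_append t7_48_9 <| jobs_append t7_48_10 <| jobs_append t7_48_11 <| jobs_append t7_48_12 <| jobs_append t7_48_13 <| jobs_append t7_48_14 <| jobs_append t7_48_15 <| jobs_append t7_48_16 <| jobs_append t7_48_17 <| jobs_append t7_48_18 <| jobs_append t7_48_19 <| jobs_append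 t7_48_20 <| jobs_append t7_48_21 <| jobs_append t7_48_22 <| jobs_append t7_48_23 <| jobs_append t7_48_24 <| jobs_append t7_48_25 <| jobs_append t7_48_26 <| List.forall_mem_nil _) (by decide +kernel)

theorem d7_49 : Dn 7 S8 b7_49 := dn_of (Js := j7_49_0 ++ (j7_49_1 ++ (j7_49_2 ++ (j7_49_3 ++ (j7_49_4 ++ (j7_49_5 ++ (j7_49_6 ++ (j7_49_7 ++ (j7_49_8 ++ (j7_49_9 ++ (j7_49_10 ++ (j7_49_11 ++ (j7_49_12 ++ (j7_49_13 ++ (j7_49_14 ++ (j7_49_15 ++ (j7_49_16 ++ (j7_49_17 ++ (j7_49_18 ++ (j7_49_19 ++ (j7_49_20 ++ (j7_49_21 ++ []))))))))))))))))))))))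
  (jobs_append t7_49_0 <| jobs_append t7_49_1 <| jobs_append t7_49_2 <| jobs_append t7_49_3 <| jobs_append t7_49_4 <| jobs_append t7_49_5 <| jobs_append t7_49_6 <| jobs_append t7_49_7 <| jobs_append t7_49_8 <| jobs_append t7_49_9 <| jobs_append t7_49_10 <| jobs_append t7_49_11 <| jobs_append t7_49_12 <| jobs_append t7_49_13 <| jobs_append t7_49_14 <| jobs_append t7_49_15 <| jobs_append t7_49_16 <| jobs_append t7_49_17 <| jobs_append t7_49_18 <| jobs_append t7_49_19 <| jobs_append t7_49_20 <| jobs_append t7_49_21 <| List.forall_mem_nil _) (by decide +kernel)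

theorem d7_50 : Dn 7 S8 b7_50 := dn_of (Js := j7_50_0 ++ (j7_50_1 ++ (j7_50_2 ++ (j7_50_3 ++ (j7_50_4 ++ (j7_50_5 ++ (j7_50_6 ++ (j7_50_7 ++ (j7_50_8 ++ (j7_50_9 ++ (j7_50_10 ++ (j7_50_11 ++ (j7_50_12 ++ (j7_50_13 ++ (j7_50_14 ++ (j7_50_15 ++ (j7_50_16 ++ (j7_50_17 ++ (j7_50_18 ++ (j7_50_19 ++ (j7_50_20 ++ (j7_50_21 ++ (j7_50_22 ++ (j7_50_23 ++ (j7_50_24 ++ [])))))))))))))))))))))))))
  (jobs_append t7_50_0 <| jobs_append t7_50_1 <| jobs_append t7_50_2 <| jobs_append t7_50_3 <| jobs_append t7_50_4 <| jobs_append t7_50_5 <| jobs_append t7_50_6 <| jobs_append t7_50_7 <| jobs_append t7_50_8 <| jobs_append t7_50_9 <| jobs_append t7_50_10 <| jobs_append t7_50_11 <| jobs_append t7_50_12 <| jobs_append t7_50_13 <| jobs_append t7_50_14 <| jobs_append t7_50_15 <| jobs_append t7_50_16 <| jobs_append t7_50_17 <| jobs_append t7_50_18 <| jobs_append t7_50_19 <| jobs_append t7_50_20 <| jobs_append t7_50_21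 <| jobs_append t7_50_22 <| jobs_append t7_50_23 <| jobs_append t7_50_24 <| List.forall_mem_nil _) (by decide +kernel)

theorem d7_51 : Dn 7 S8 b7_51 := dn_of (Js := j7_51_0 ++ (j7_51_1 ++ (j7_51_2 ++ (j7_51_3 ++ (j7_51_4 ++ (j7_51_5 ++ (j7_51_6 ++ (j7_51_7 ++ (j7_51_8 ++ (j7_51_9 ++ (j7_51_10 ++ (j7_51_11 ++ (j7_51_12 ++ (j7_51_13 ++ (j7_51_14 ++ (j7_51_15 ++ (j7_51_16 ++ (j7_51_17 ++ (j7_51_18 ++ (j7_51_19 ++ (j7_51_20 ++ (j7_51_21 ++ (j7_51_22 ++ (j7_51_23 ++ []))))))))))))))))))))))))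
  (jobs_append t7_51_0 <| jobs_append t7_51_1 <| jobs_append t7_51_2 <| jobs_append t7_51_3 <| jobs_append t7_51_4 <| jobs_append t7_51_5 <| jobs_append t7_51_6 <| jobs_append t7_51_7 <| jobs_append t7_51_8 <| jobs_append t7_51_9 <| jobs_append t7_51_10 <| jobs_append t7_51_11 <| jobs_append t7_51_12 <| jobs_append t7_51_13 <| jobs_append t7_51_14 <| jobs_append t7_51_15 <| jobs_append t7_51_16 <| jobs_append t7_51_17 <| jobs_append t7_51_18 <| jobs_append t7_51_19 <| jobs_append t7_51_20 <| jobs_append t7_51_21 <| jobs_append t7_51_22 <| jobs_append t7_51_23 <| List.forall_mem_nil _) (by decide +kernel)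

theorem d7_52 : Dn 7 S8 b7_52 := dn_of (Js := j7_52_0 ++ (j7_52_1 ++ (j7_52_2 ++ (j7_52_3 ++ (j7_52_4 ++ (j7_52_5 ++ (j7_52_6 ++ (j7_52_7 ++ (j7_52_8 ++ (j7_52_9 ++ (j7_52_10 ++ (j7_52_11 ++ (j7_52_12 ++ (j7_52_13 ++ []))))))))))))))
  (jobs_append t7_52_0 <| jobs_append t7_52_1 <| jobs_append t7_52_2 <| jobs_append t7_52_3 <| jobs_append t7_52_4 <| jobs_append t7_52_5 <| jobs_append t7_52_6 <| jobs_append t7_52_7 <| jobs_append t7_52_8 <| jobs_append t7_52_9 <| jobs_append t7_52_10 <| jobs_append t7_52_11 <| jobs_append t7_52_12 <| jobs_append t7_52_13 <| List.forall_mem_nil _) (by decide +kernel)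

theorem d7_53 : Dn 7 S8 b7_53 := dn_of (Js := j7_53_0 ++ (j7_53_1 ++ (j7_53_2 ++ (j7_53_3 ++ (j7_53_4 ++ (j7_53_5 ++ (j7_53_6 ++ (j7_53_7 ++ (j7_53_8 ++ (j7_53_9 ++ (j7_53_10 ++ (j7_53_11 ++ (j7_53_12 ++ (j7_53_13 ++ (j7_53_14 ++ (j7_53_15 ++ (j7_53_16 ++ (j7_53_17 ++ (j7_53_18 ++ [])))))))))))))))))))
  (jobs_append t7_53_0 <| jobs_append t7_53_1 <| jobs_append t7_53_2 <| jobs_append t7_53_3 <| jobs_append t7_53_4 <| jobs_append t7_53_5 <| jobs_append t7_53_6 <| jobs_append t7_53_7 <| jobs_append t7_53_8 <| jobs_append t7_53_9 <| jobs_append t7_53_10 <| jobs_append t7_53_11 <| jobs_append t7_53_12 <| jobs_append t7_53_13 <| jobs_append t7_53_14 <| jobs_append t7_53_15 <| jobs_append t7_53_16 <| jobs_append t7_53_17 <| jobs_append t7_53_18 <| List.forall_mem_nil _) (by decide +kernel)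

theorem d7_54 : Dn 7 S8 b7_54 := dn_of (Js := j7_54_0 ++ (j7_54_1 ++ (j7_54_2 ++ (j7_54_3 ++ (j7_54_4 ++ (j7_54_5 ++ (j7_54_6 ++ (j7_54_7 ++ (j7_54_8 ++ (j7_54_9 ++ (j7_54_10 ++ (j7_54_11 ++ (j7_54_12 ++ (j7_54_13 ++ (j7_54_14 ++ [])))))))))))))))
  (jobs_append t7_54_0 <| jobs_append t7_54_1 <| jobs_append t7_54_2 <| jobs_append t7_54_3 <| jobs_append t7_54_4 <| jobs_append t7_54_5 <| jobs_append t7_54_6 <| jobs_append t7_54_7 <| jobs_append t7_54_8 <| jobs_append t7_54_9 <| jobs_append t7_54_10 <| jobs_append t7_54_11 <| jobs_append t7_54_12 <| jobs_append t7_54_13 <| jobs_append t7_54_14 <| List.forall_mem_nil _) (by decide +kernel)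

theorem d7_55 : Dn 7 S8 b7_55 := dn_of (Js := j7_55_0 ++ (j7_55_1 ++ (j7_55_2 ++ (j7_55_3 ++ (j7_55_4 ++ (j7_55_5 ++ (j7_55_6 ++ (j7_55_7 ++ (j7_55_8 ++ [])))))))))
  (jobs_append t7_55_0 <| jobs_append t7_55_1 <| jobs_append t7_55_2 <| jobs_append t7_55_3 <| jobs_append t7_55_4 <| jobs_append t7_55_5 <| jobs_append t7_55_6 <| jobs_append t7_55_7 <| jobs_append t7_55_8 <| List.forall_mem_nil _) (by decide +kernel)

theorem d7_56 : Dn 7 S8 b7_56 := dn_of (Js := j7_56_0 ++ (j7_56_1 ++ (j7_56_2 ++ (j7_56_3 ++ (j7_56_4 ++ (j7_56_5 ++ (j7_56_6 ++ (j7_56_7 ++ []))))))))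
  (jobs_append t7_56_0 <| jobs_append t7_56_1 <| jobs_append t7_56_2 <| jobs_append t7_56_3 <| jobs_append t7_56_4 <| jobs_append t7_56_5 <| jobs_append t7_56_6 <| jobs_append t7_56_7 <| List.forall_mem_nil _) (by decide +kernel)

theorem d7_57 : Dn 7 S8 b7_57 := dn_of (Js := j7_57_0 ++ (j7_57_1 ++ (j7_57_2 ++ (j7_57_3 ++ (j7_57_4 ++ (j7_57_5 ++ (j7_57_6 ++ (j7_57_7 ++ (j7_57_8 ++ (j7_57_9 ++ []))))))))))
  (jobs_append t7_57_0 <| jobs_append t7_57_1 <| jobs_append t7_57_2 <| jobs_append t7_57_3 <| jobs_append t7_57_4 <| jobs_append t7_57_5 <| jobs_append t7_57_6 <| jobs_append t7_57_7 <| jobs_append t7_57_8 <| jobs_append t7_57_9 <| List.forall_mem_nil _) (by decide +kernel)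

theorem d7_58 : Dn 7 S8 b7_58 := dn_of (Js := j7_58_0 ++ (j7_58_1 ++ (j7_58_2 ++ (j7_58_3 ++ (j7_58_4 ++ (j7_58_5 ++ (j7_58_6 ++ (j7_58_7 ++ (j7_58_8 ++ [])))))))))
  (jobs_append t7_58_0 <| jobs_append t7_58_1 <| jobs_append t7_58_2 <| jobs_append t7_58_3 <| jobs_append t7_58_4 <| jobs_append t7_58_5 <| jobs_append t7_58_6 <| jobs_append t7_58_7 <| jobs_append t7_58_8 <| List.forall_mem_nil _) (by decide +kernel)

theorem d7_59 : Dn 7 S8 b7_59 := dn_of (Js := j7_59_0 ++ (j7_59_1 ++ (j7_59_2 ++ (j7_59_3 ++ (j7_59_4 ++ (j7_59_5 ++ (j7_59_6 ++ (j7_59_7 ++ (j7_59_8 ++ [])))))))))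
  (jobs_append t7_59_0 <| jobs_append t7_59_1 <| jobs_append t7_59_2 <| jobs_append t7_59_3 <| jobs_append t7_59_4 <| jobs_append t7_59_5 <| jobs_append t7_59_6 <| jobs_append t7_59_7 <| jobs_append t7_59_8 <| List.forall_mem_nil _) (by decide +kernel)

theorem d7_60 : Dn 7 S8 b7_60 := dn_of (Js := j7_60_0 ++ (j7_60_1 ++ (j7_60_2 ++ (j7_60_3 ++ (j7_60_4 ++ (j7_60_5 ++ (j7_60_6 ++ (j7_60_7 ++ []))))))))
  (jobs_append t7_60_0 <| jobs_append t7_60_1 <| jobs_append t7_60_2 <| jobs_append t7_60_3 <| jobs_append t7_60_4 <| jobs_append t7_60_5 <| jobs_append t7_60_6 <| jobs_append t7_60_7 <| List.forall_mem_nil _) (by decide +kernel)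

theorem d7_61 : Dn 7 S8 b7_61 := dn_of (Js := j7_61_0 ++ (j7_61_1 ++ (j7_61_2 ++ (j7_61_3 ++ (j7_61_4 ++ (j7_61_5 ++ (j7_61_6 ++ (j7_61_7 ++ (j7_61_8 ++ (j7_61_9 ++ (j7_61_10 ++ (j7_61_11 ++ (j7_61_12 ++ [])))))))))))))
  (jobs_append t7_61_0 <| jobs_append t7_61_1 <| jobs_append t7_61_2 <| jobs_append t7_61_3 <| jobs_append t7_61_4 <| jobs_append t7_61_5 <| jobs_append t7_61_6 <| jobs_append t7_61_7 <| jobs_append t7_61_8 <| jobs_append t7_61_9 <| jobs_append t7_61_10 <| jobs_append t7_61_11 <| jobs_append t7_61_12 <| List.forall_mem_nil _) (by decide +kernel)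

theorem d7_62 : Dn 7 S8 b7_62 := dn_of (Js := j7_62_0 ++ (j7_62_1 ++ (j7_62_2 ++ (j7_62_3 ++ (j7_62_4 ++ (j7_62_5 ++ []))))))
  (jobs_append t7_62_0 <| jobs_append t7_62_1 <| jobs_append t7_62_2 <| jobs_append t7_62_3 <| jobs_append t7_62_4 <| jobs_append t7_62_5 <| List.forall_mem_nil _) (by decide +kernel)

theorem d7_63 : Dn 7 S8 b7_63 := dn_of (Js := j7_63_0 ++ (j7_63_1 ++ (j7_63_2 ++ (j7_63_3 ++ (j7_63_4 ++ (j7_63_5 ++ (j7_63_6 ++ (j7_63_7 ++ []))))))))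
  (jobs_append t7_63_0 <| jobs_append t7_63_1 <| jobs_append t7_63_2 <| jobs_append t7_63_3 <| jobs_append t7_63_4 <| jobs_append t7_63_5 <| jobs_append t7_63_6 <| jobs_append t7_63_7 <| List.forall_mem_nil _) (by decide +kernel)

theorem d7_64 : Dn 7 S8 b7_64 := dn_of (Js := j7_64_0 ++ (j7_64_1 ++ (j7_64_2 ++ (j7_64_3 ++ (j7_64_4 ++ [])))))
  (jobs_append t7_64_0 <| jobs_append t7_64_1 <| jobs_append t7_64_2 <| jobs_append t7_64_3 <| jobs_append t7_64_4 <| List.forall_mem_nil _) (by decide +kernel)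

theorem d7_65 : Dn 7 S8 b7_65 := dn_of (Js := j7_65_0 ++ (j7_65_1 ++ (j7_65_2 ++ (j7_65_3 ++ (j7_65_4 ++ (j7_65_5 ++ []))))))
  (jobs_append t7_65_0 <| jobs_append t7_65_1 <| jobs_append t7_65_2 <| jobs_append t7_65_3 <| jobs_append t7_65_4 <| jobs_append t7_65_5 <| List.forall_mem_nil _) (by decide +kernel)

theorem d7_66 : Dn 7 S8 b7_66 := dn_of (Js := j7_66_0 ++ (j7_66_1 ++ (j7_66_2 ++ (j7_66_3 ++ (j7_66_4 ++ (j7_66_5 ++ []))))))
  (jobs_append t7_66_0 <| jobs_append t7_66_1 <| jobs_append t7_66_2 <| jobs_append t7_66_3 <| jobs_append t7_66_4 <| jobs_append t7_66_5 <| List.forall_mem_nil _) (by decide +kernel)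

theorem d7_67 : Dn 7 S8 b7_67 := dn_of (Js := j7_67_0 ++ (j7_67_1 ++ (j7_67_2 ++ (j7_67_3 ++ (j7_67_4 ++ (j7_67_5 ++ (j7_67_6 ++ (j7_67_7 ++ (j7_67_8 ++ (j7_67_9 ++ (j7_67_10 ++ (j7_67_11 ++ []))))))))))))
  (jobs_append t7_67_0 <| jobs_append t7_67_1 <| jobs_append t7_67_2 <| jobs_append t7_67_3 <| jobs_append t7_67_4 <| jobs_append t7_67_5 <| jobs_append t7_67_6 <| jobs_append t7_67_7 <| jobs_append t7_67_8 <| jobs_append t7_67_9 <| jobs_append t7_67_10 <| jobs_append t7_67_11 <| List.forall_mem_nil _) (by decide +kernel)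

theorem d7_68 : Dn 7 S8 b7_68 := dn_of (Js := j7_68_0 ++ (j7_68_1 ++ (j7_68_2 ++ (j7_68_3 ++ (j7_68_4 ++ (j7_68_5 ++ (j7_68_6 ++ (j7_68_7 ++ (j7_68_8 ++ (j7_68_9 ++ (j7_68_10 ++ [])))))))))))
  (jobs_append t7_68_0 <| jobs_append t7_68_1 <| jobs_append t7_68_2 <| jobs_append t7_68_3 <| jobs_append t7_68_4 <| jobs_append t7_68_5 <| jobs_append t7_68_6 <| jobs_append t7_68_7 <| jobs_append t7_68_8 <| jobs_append t7_68_9 <| jobs_append t7_68_10 <| List.forall_mem_nil _) (by decide +kernel)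

theorem d7_69 : Dn 7 S8 b7_69 := dn_of (Js := j7_69_0 ++ (j7_69_1 ++ (j7_69_2 ++ (j7_69_3 ++ (j7_69_4 ++ (j7_69_5 ++ (j7_69_6 ++ (j7_69_7 ++ (j7_69_8 ++ [])))))))))
  (jobs_append t7_69_0 <| jobs_append t7_69_1 <| jobs_append t7_69_2 <| jobs_append t7_69_3 <| jobs_append t7_69_4 <| jobs_append t7_69_5 <| jobs_append t7_69_6 <| jobs_append t7_69_7 <| jobs_append t7_69_8 <| List.forall_mem_nil _) (by decide +kernel)

theorem d7_70 : Dn 7 S8 b7_70 := dn_of (Js := j7_70_0 ++ (j7_70_1 ++ (j7_70_2 ++ (j7_70_3 ++ (j7_70_4 ++ (j7_70_5 ++ (j7_70_6 ++ (j7_70_7 ++ (j7_70_8 ++ (j7_70_9 ++ []))))))))))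
  (jobs_append t7_70_0 <| jobs_append t7_70_1 <| jobs_append t7_70_2 <| jobs_append t7_70_3 <| jobs_append t7_70_4 <| jobs_append t7_70_5 <| jobs_append t7_70_6 <| jobs_append t7_70_7 <| jobs_append t7_70_8 <| jobs_append t7_70_9 <| List.forall_mem_nil _) (by decide +kernel)

theorem d7_71 : Dn 7 S8 b7_71 := dn_of (Js := j7_71_0 ++ (j7_71_1 ++ (j7_71_2 ++ (j7_71_3 ++ (j7_71_4 ++ (j7_71_5 ++ (j7_71_6 ++ (j7_71_7 ++ (j7_71_8 ++ (j7_71_9 ++ (j7_71_10 ++ (j7_71_11 ++ (j7_71_12 ++ [])))))))))))))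
  (jobs_append t7_71_0 <| jobs_append t7_71_1 <| jobs_append t7_71_2 <| jobs_append t7_71_3 <| jobs_append t7_71_4 <| jobs_append t7_71_5 <| jobs_append t7_71_6 <| jobs_append t7_71_7 <| jobs_append t7_71_8 <| jobs_append t7_71_9 <| jobs_append t7_71_10 <| jobs_append t7_71_11 <| jobs_append t7_71_12 <| List.forall_mem_nil _) (by decide +kernel)

theorem d7_72 : Dn 7 S8 b7_72 := dn_of (Js := j7_72_0 ++ (j7_72_1 ++ (j7_72_2 ++ (j7_72_3 ++ (j7_72_4 ++ [])))))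
  (jobs_append t7_72_0 <| jobs_append t7_72_1 <| jobs_append t7_72_2 <| jobs_append t7_72_3 <| jobs_append t7_72_4 <| List.forall_mem_nil _) (by decide +kernel)

theorem d7_73 : Dn 7 S8 b7_73 := dn_of (Js := j7_73_0 ++ (j7_73_1 ++ (j7_73_2 ++ (j7_73_3 ++ (j7_73_4 ++ [])))))
  (jobs_append t7_73_0 <| jobs_append t7_73_1 <| jobs_append t7_73_2 <| jobs_append t7_73_3 <| jobs_append t7_73_4 <| List.forall_mem_nil _) (by decide +kernel)

theorem d7_74 : Dn 7 S8 b7_74 := dn_of (Js := j7_74_0 ++ (j7_74_1 ++ (j7_74_2 ++ (j7_74_3 ++ (j7_74_4 ++ [])))))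
  (jobs_append t7_74_0 <| jobs_append t7_74_1 <| jobs_append t7_74_2 <| jobs_append t7_74_3 <| jobs_append t7_74_4 <| List.forall_mem_nil _) (by decide +kernel)

theorem d7_75 : Dn 7 S8 b7_75 := dn_of (Js := j7_75_0 ++ (j7_75_1 ++ (j7_75_2 ++ (j7_75_3 ++ (j7_75_4 ++ [])))))
  (jobs_append t7_75_0 <| jobs_append t7_75_1 <| jobs_append t7_75_2 <| jobs_append t7_75_3 <| jobs_append t7_75_4 <| List.forall_mem_nil _) (by decide +kernel)

theorem d7_76 : Dn 7 S8 b7_76 := dn_of (Js := j7_76_0 ++ (j7_76_1 ++ (j7_76_2 ++ (j7_76_3 ++ []))))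
  (jobs_append t7_76_0 <| jobs_append t7_76_1 <| jobs_append t7_76_2 <| jobs_append t7_76_3 <| List.forall_mem_nil _) (by decide +kernel)

theorem d7_77 : Dn 7 S8 b7_77 := dn_of (Js := j7_77_0 ++ (j7_77_1 ++ (j7_77_2 ++ (j7_77_3 ++ (j7_77_4 ++ (j7_77_5 ++ []))))))
  (jobs_append t7_77_0 <| jobs_append t7_77_1 <| jobs_append t7_77_2 <| jobs_append t7_77_3 <| jobs_append t7_77_4 <| jobs_append t7_77_5 <| List.forall_mem_nil _) (by decide +kernel)

theorem d7_78 : Dn 7 S8 b7_78 := dn_of (Js := j7_78_0 ++ (j7_78_1 ++ (j7_78_2 ++ (j7_78_3 ++ (j7_78_4 ++ (j7_78_5 ++ []))))))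
  (jobs_append t7_78_0 <| jobs_append t7_78_1 <| jobs_append t7_78_2 <| jobs_append t7_78_3 <| jobs_append t7_78_4 <| jobs_append t7_78_5 <| List.forall_mem_nil _) (by decide +kernel)

theorem d7_79 : Dn 7 S8 b7_79 := dn_of (Js := j7_79_0 ++ (j7_79_1 ++ (j7_79_2 ++ (j7_79_3 ++ (j7_79_4 ++ [])))))
  (jobs_append t7_79_0 <| jobs_append t7_79_1 <| jobs_append t7_79_2 <| jobs_append t7_79_3 <| jobs_append t7_79_4 <| List.forall_mem_nil _) (by decide +kernel)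

theorem d7_80 : Dn 7 S8 b7_80 := dn_of (Js := j7_80_0 ++ (j7_80_1 ++ (j7_80_2 ++ (j7_80_3 ++ (j7_80_4 ++ [])))))
  (jobs_append t7_80_0 <| jobs_append t7_80_1 <| jobs_append t7_80_2 <| jobs_append t7_80_3 <| jobs_append t7_80_4 <| List.forall_mem_nil _) (by decide +kernel)

theorem d7_81 : Dn 7 S8 b7_81 := dn_of (Js := j7_81_0 ++ (j7_81_1 ++ (j7_81_2 ++ [])))
  (jobs_append t7_81_0 <| jobs_append t7_81_1 <| jobs_append t7_81_2 <| List.forall_mem_nil _) (by decide +kernel)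

theorem d7_82 : Dn 7 S8 b7_82 := dn_of (Js := j7_82_0 ++ (j7_82_1 ++ []))
  (jobs_append t7_82_0 <| jobs_append t7_82_1 <| List.forall_mem_nil _) (by decide +kernel)

theorem dn7 : ∀ l ∈ L7, Dn 7 S8 l :=
  List.forall_mem_cons.2 <| And.intro d7_0 <|
  List.forall_mem_cons.2 <| And.intro d7_1 <|
  List.forall_mem_cons.2 <| And.intro d7_2 <|
  List.forall_mem_cons.2 <| And.intro d7_3 <|
  List.forall_mem_cons.2 <| And.intro d7_4 <|
  List.forall_mem_cons.2 <| And.intro d7_5 <|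
  List.forall_mem_cons.2 <| And.intro d7_6 <|
  List.forall_mem_cons.2 <| And.intro d7_7 <|
  List.forall_mem_cons.2 <| And.intro d7_8 <|
  List.forall_mem_cons.2 <| And.intro d7_9 <|
  List.forall_mem_cons.2 <| And.intro d7_10 <|
  List.forall_mem_cons.2 <| And.intro d7_11 <|
  List.forall_mem_cons.2 <| And.intro d7_12 <|
  List.forall_mem_cons.2 <| And.intro d7_13 <|
  List.forall_mem_cons.2 <| And.intro d7_14 <|
  List.forall_mem_cons.2 <| And.intro d7_15 <|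
  List.forall_mem_cons.2 <| And.intro d7_16 <|
  List.forall_mem_cons.2 <| And.intro d7_17 <|
  List.forall_mem_cons.2 <| And.intro d7_18 <|
  List.forall_mem_cons.2 <| And.intro d7_19 <|
  List.forall_mem_cons.2 <| And.intro d7_20 <|
  List.forall_mem_cons.2 <| And.intro d7_21 <|
  List.forall_mem_cons.2 <| And.intro d7_22 <|
  List.forall_mem_cons.2 <| And.intro d7_23 <|
  List.forall_mem_cons.2 <| And.intro d7_24 <|
  List.forall_mem_cons.2 <| And.intro d7_25 <|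
  List.forall_mem_cons.2 <| And.intro d7_26 <|
  List.forall_mem_cons.2 <| And.intro d7_27 <|
  List.forall_mem_cons.2 <| And.intro d7_28 <|
  List.forall_mem_cons.2 <| And.intro d7_29 <|
  List.forall_mem_cons.2 <| And.intro d7_30 <|
  List.forall_mem_cons.2 <| And.intro d7_31 <|
  List.forall_mem_cons.2 <| And.intro d7_32 <|
  List.forall_mem_cons.2 <| And.intro d7_33 <|
  List.forall_mem_cons.2 <| And.intro d7_34 <|
  List.forall_mem_cons.2 <| And.intro d7_35 <|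
  List.forall_mem_cons.2 <| And.intro d7_36 <|
  List.forall_mem_cons.2 <| And.intro d7_37 <|
  List.forall_mem_cons.2 <| And.intro d7_38 <|
  List.forall_mem_cons.2 <| And.intro d7_39 <|
  List.forall_mem_cons.2 <| And.intro d7_40 <|
  List.forall_mem_cons.2 <| And.intro d7_41 <|
  List.forall_mem_cons.2 <| And.intro d7_42 <|
  List.forall_mem_cons.2 <| And.intro d7_43 <|
  List.forall_mem_cons.2 <| And.intro d7_44 <|
  List.forall_mem_cons.2 <| And.intro d7_45 <|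
  List.forall_mem_cons.2 <| And.intro d7_46 <|
  List.forall_mem_cons.2 <| And.intro d7_47 <|
  List.forall_mem_cons.2 <| And.intro d7_48 <|
  List.forall_mem_cons.2 <| And.intro d7_49 <|
  List.forall_mem_cons.2 <| And.intro d7_50 <|
  List.forall_mem_cons.2 <| And.intro d7_51 <|
  List.forall_mem_cons.2 <| And.intro d7_52 <|
  List.forall_mem_cons.2 <| And.intro d7_53 <|
  List.forall_mem_cons.2 <| And.intro d7_54 <|
  List.forall_mem_cons.2 <| And.intro d7_55 <|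
  List.forall_mem_cons.2 <| And.intro d7_56 <|
  List.forall_mem_cons.2 <| And.intro d7_57 <|
  List.forall_mem_cons.2 <| And.intro d7_58 <|
  List.forall_mem_cons.2 <| And.intro d7_59 <|
  List.forall_mem_cons.2 <| And.intro d7_60 <|
  List.forall_mem_cons.2 <| And.intro d7_61 <|
  List.forall_mem_cons.2 <| And.intro d7_62 <|
  List.forall_mem_cons.2 <| And.intro d7_63 <|
  List.forall_mem_cons.2 <| And.intro d7_64 <|
  List.forall_mem_cons.2 <| And.intro d7_65 <|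
  List.forall_mem_cons.2 <| And.intro d7_66 <|
  List.forall_mem_cons.2 <| And.intro d7_67 <|
  List.forall_mem_cons.2 <| And.intro d7_68 <|
  List.forall_mem_cons.2 <| And.intro d7_69 <|
  List.forall_mem_cons.2 <| And.intro d7_70 <|
  List.forall_mem_cons.2 <| And.intro d7_71 <|
  List.forall_mem_cons.2 <| And.intro d7_72 <|
  List.forall_mem_cons.2 <| And.intro d7_73 <|
  List.forall_mem_cons.2 <| And.intro d7_74 <|
  List.forall_mem_cons.2 <| And.intro d7_75 <|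
  List.forall_mem_cons.2 <| And.intro d7_76 <|
  List.forall_mem_cons.2 <| And.intro d7_77 <|
  List.forall_mem_cons.2 <| And.intro d7_78 <|
  List.forall_mem_cons.2 <| And.intro d7_79 <|
  List.forall_mem_cons.2 <| And.intro d7_80 <|
  List.forall_mem_cons.2 <| And.intro d7_81 <|
  List.forall_mem_cons.2 <| And.intro d7_82 <|
  List.forall_mem_nil _

end Cfsg.Agent.FS.Sw
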