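import Cfsg.Agent.FS.Sw.Bits
import Cfsg.Agent.FS.Pc.Ext

/-!
# The filter on pairs (base, class): definitions (helper49, project FS)

Masks are subsets of the base group `T` of order `N = 2 ^ n`; planes are subsets of `T × T` (bit `N a + b`).
-/

set_option autoImplicit false

namespace Cfsg.Agent.FS.Sw

open Cfsg.Agent.FS.Pc

/-- `if` on a boolean, by the recursor -/
noncomputable def ite' {α : Type} (b : Bool) (x y : α) : α := Bool.rec (motive := fun _ => α) y x b

noncomputable def band (a b : Bool) : Bool := Bool.rec (motive := fun _ => Bool) false b a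
noncomputable def bor (a b : Bool) : Bool := Bool.rec (motive := fun _ => Bool) b true a
noncomputable def bnot (a : Bool) : Bool := Bool.rec (motive := fun _ => Bool) true false a

/-- bit `i` -/
def tb (X i : ℕ) : Bool := Nat.beq (Nat.land (Nat.shiftRight X i) 1) 1

/-- the lowest bit -/
def ctz (M : ℕ) : ℕ := pop (Nat.shiftRight (Nat.xor M (Nat.sub M 1)) 1)

/-- row `x` of a plane; `F = 2 ^ N - 1` -/
def row (n F X x : ℕ) : ℕ := Nat.land (Nat.shiftRight X (Nat.shiftLeft x n)) F

/-- entries of width `w` repacked with width `32` -/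
noncomputable def repack (w R m : ℕ) : ℕ :=
  Nat.rec (motive := fun _ => ℕ) 0
    (fun i A => Nat.add A (Nat.shiftLeft (Nat.land (Nat.shiftRight R (Nat.mul w i)) (msk w)) (Nat.mul 32 i))) m

/-- the address of the plane of bit `k` -/
def pa (n k : ℕ) : ℕ :=
  Nat.land (Nat.lor (Nat.shiftLeft k (Nat.mod (Nat.mul 3 n) 5)) (Nat.shiftRight k (Nat.sub 5 (Nat.mod (Nat.mul 3 n) 5)))) 31

def plane (n F2 X k : ℕ) : ℕ := Nat.land (Nat.shiftRight X (Nat.shiftLeft (pa n k) (Nat.add n n))) F2

/-- union of the planes `r, …, r + j - 1` -/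
noncomputable def orPl (n F2 X r j : ℕ) : ℕ :=
  Nat.rec (motive := fun _ => ℕ) 0 (fun i A => Nat.lor A (plane n F2 X (Nat.add r i))) j

/-- the diagonal of a plane; `O1 = ones (N + 1) n`, `md = 2 ^ (N + 1) - 2` -/
def diag (O1 md X : ℕ) : ℕ := Nat.mod (Nat.land X O1) md

/-- the diagonals of the planes `r, …, r + j - 1` -/
noncomputable def diags (n F2 O1 md X r j : ℕ) : ℕ :=
  Nat.rec (motive := fun _ => ℕ) 0
    (fun i A => Nat.add A (Nat.shiftLeft (diag O1 md (plane n F2 X (Nat.add r i))) (Nat.shiftLeft i n))) j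

/-- row `u` (width `N1`) is the part of `X` where the low `j` bits of the vector `Dg` are those of `u` -/
noncomputable def sqt (n F N1 Dg j : ℕ) : ℕ → ℕ :=
  Nat.rec (motive := fun _ => ℕ → ℕ) (fun X => X) (fun i ih X => frc (Nat.land X (row n F Dg i)) fun Y =>
    Nat.add (frc (Nat.xor X Y) ih) (Nat.shiftLeft (ih Y) (Nat.shiftLeft N1 i))) j

/-- the list of the tail planes `r - 1, …, 0`, evaluated -/
noncomputable def mkE {α : Type} (n F2 N2 O1 md PM D r : ℕ) : (List ℕ → α) → α :=
  Nat.rec (motive := fun _ => (List ℕ → α) → α) (fun k => k [])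
    (fun i ih k => frc (Nat.add (plane n F2 D i) (Nat.shiftLeft (diag O1 md (plane n F2 PM i)) N2)) fun e =>
      ih fun L => k (e :: L)) r

/-- the sum of the members of `L` at the bits of `c` (top bit first; `h = 2 ^ (length - 1)`) -/
noncomputable def xorL (L : List ℕ) : ℕ → ℕ → ℕ → ℕ :=
  List.rec (motive := fun _ => ℕ → ℕ → ℕ → ℕ) (fun _ _ A => A)
    (fun e _ ih c i A => Nat.rec (motive := fun _ => ℕ) A (fun i _ =>
      ite' (tb c i) (frc (Nat.xor A e) (ih c i)) (ih c i A)) i) L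

/-- `{g | v g = g u}` in the base group -/
noncomputable def cjm (n F F2 PM PT r v u : ℕ) : ℕ :=
  Nat.xor F (Nat.rec (motive := fun _ => ℕ) 0 (fun i A => Nat.lor A
    (Nat.xor (row n F (plane n F2 PM (Nat.add r i)) v) (row n F (plane n F2 PT (Nat.add r i)) u))) n)

noncomputable def mkU {α : Type} (f : ℕ → ℕ) (us : List ℕ) : (List (ℕ × ℕ) → α) → α :=
  List.rec (motive := fun _ => (List (ℕ × ℕ) → α) → α) (fun k => k [])
    (fun u _ ih k => frc u fun u => frc (f u) fun m => ih fun L => k ((u, m) :: L)) us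

noncomputable def mkC {α : Type} (f : ℕ → ℕ → ℕ) (cs : List (ℕ × List ℕ)) : (List (ℕ × List (ℕ × ℕ)) → α) → α :=
  List.rec (motive := fun _ => (List (ℕ × List (ℕ × ℕ)) → α) → α) (fun k => k [])
    (fun c _ ih k => frc c.1 fun v => mkU (f v) c.2 fun U => ih fun L => k ((v, U) :: L)) cs

/-- the precomputed data of a base -/
structure Pre where
  n : ℕ
  r : ℕ
  N : ℕ
  F : ℕ
  N1 : ℕ
  N2 : ℕ
  F2 : ℕ
  O : ℕ
  Lm : ℕ
  O1 : ℕ
  m1 : ℕ
  m2 : ℕ
  T : ℕ
  NC0 : ℕ
  ZP : ℕ
  SQ : ℕ
  E : List ℕ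
  C : List (ℕ × List (ℕ × ℕ))

noncomputable def pre {α : Type} (n r w R : ℕ) (cs : List (ℕ × List ℕ)) (k : Pre → α) : α :=
  frc n fun n => frc r fun r => frc (Nat.shiftLeft 1 n) fun N => frc (msk N) fun F => frc (Nat.succ N) fun N1 =>
  frc (Nat.shiftLeft N n) fun N2 => frc (msk N2) fun F2 => frc (ones N n) fun O =>
  frc (Nat.mul (msk (Nat.pred N)) O) fun Lm => frc (ones N1 n) fun O1 => frc (msk N1) fun m1 =>
  frc (Nat.pred F) fun m2 => frc (Nat.pred m1) fun md => frc (repack w R (tri n 0)) fun R' =>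
  frc (tab r n 32 R') fun T => frc (Nat.add (Nat.add n n) 5) fun m => frc (swps m 5 (Nat.add n n) T) fun PM =>
  frc (swps m n n PM) fun PT => frc (Nat.xor PM PT) fun D => frc (orPl n F2 D r n) fun NC0 =>
  frc (Nat.xor F2 (orPl n F2 PM r n)) fun ZP => frc (diags n F2 O1 md PM r n) fun Dg => frc (sqt n F N1 Dg n F) fun SQ =>
  mkE n F2 N2 O1 md PM D r fun E => mkC (cjm n F F2 PM PT r) cs fun C =>
  k ⟨n, r, N, F, N1, N2, F2, O, Lm, O1, m1, m2, T, NC0, ZP, SQ, E, C⟩

namespace Pre

/-- `{y | y² = u}` in the base group -/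
def sq (p : Pre) (u : ℕ) : ℕ := Nat.land (Nat.shiftRight p.SQ (Nat.mul p.N1 u)) p.F

/-- `{t | t² ∈ X}` -/
def sqin (p : Pre) (X : ℕ) : ℕ := Nat.mod (Nat.land (Nat.mul (Nat.land (Nat.mul X p.O) p.O1) p.F) p.SQ) p.m1

/-- the elements that do not centralize `X` -/
def nz (p : Pre) (NC X : ℕ) : ℕ :=
  Nat.mod (rnz (Nat.pred p.N) p.O p.Lm (Nat.land (Nat.mul X p.O) NC)) p.m2

/-- the square roots of the element `2 u + e` -/
noncomputable def rt (p : Pre) (Q a : ℕ) : ℕ :=
  Nat.land (p.sq (Nat.shiftRight a 1)) (ite' (tb a 0) Q (Nat.xor p.F Q))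

/-- product of the elements `2 u + e` -/
def mul (p : Pre) (c a b : ℕ) : ℕ :=
  (fun t => Nat.add (Nat.shiftLeft (Nat.shiftRight t p.r) 1)
    (Nat.land (Nat.xor (pop (Nat.land (Nat.land t c) (msk p.r))) (Nat.xor a b)) 1))
  (Nat.land (Nat.shiftRight p.T (Nat.shiftLeft (Nat.add (Nat.shiftLeft (Nat.shiftRight a 1) p.n) (Nat.shiftRight b 1)) 5))
    4294967295)

/-- the commuting pairs with first member in `X` (which contains `0`) -/
noncomputable def cp (p : Pre) (NC X : ℕ) : ℕ :=
  Nat.land (Nat.add p.F (Nat.shiftLeft (Nat.mul (Nat.land (Nat.mul (Nat.shiftRight X 1) (ones (Nat.pred p.N) p.n)) p.O)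
    p.F) p.N)) (Nat.xor p.F2 NC)

noncomputable def c2 (p : Pre) (Q X a : ℕ) : ℕ := pop (Nat.land X (p.rt Q a))

noncomputable def c4 (p : Pre) (Q X a : ℕ) : ℕ := pop (Nat.land X (p.sqin (p.rt Q a)))

noncomputable def cw (p : Pre) (NC Q X a : ℕ) : ℕ :=
  Nat.mod (Nat.land (rep (Nat.land (Nat.mul (Nat.land X (p.rt Q a)) p.O) (p.cp NC X)) 16391 3) (ones 8 15)) 255

/-- the elements `a`, `b` have the same colour in the subgroup `X` -/
noncomputable def same (p : Pre) (lev : Bool) (NC Q X a b : ℕ) : Bool :=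
  band (Nat.beq (p.c2 Q X a) (p.c2 Q X b))
    (ite' lev (band (Nat.beq (p.c4 Q X a) (p.c4 Q X b)) (Nat.beq (p.cw NC Q X a) (p.cw NC Q X b))) true)

/-- the union of the masks of the conjugates with the same centralizer -/
noncomputable def orN (p : Pre) (NC rw : ℕ) (U : List (ℕ × ℕ)) : ℕ :=
  List.rec (motive := fun _ => ℕ) 0
    (fun u _ A => ite' (Nat.beq (row p.n p.F NC u.1) rw) (Nat.lor u.2 A) A) U

/-- some bit of `M` has the property `f` -/
noncomputable def anyM (f : ℕ → Bool) (fuel : ℕ) : ℕ → Bool :=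
  Nat.rec (motive := fun _ => ℕ → Bool) (fun _ => false) (fun _ ih M => ite' (Nat.beq M 0) false
    (frc (ctz M) fun t => bor (f t) (frc (Nat.xor M (Nat.shiftLeft 1 t)) ih))) fuel

/-- `f a = 0`: nothing, `f a = 1`: count, otherwise stop; `a = 2 x + e` over the bits `x` of `M` -/
noncomputable def cntM (f : ℕ → ℕ) (fin : ℕ → Bool) (fuel : ℕ) : ℕ → ℕ → Bool :=
  Nat.rec (motive := fun _ => ℕ → ℕ → Bool) (fun _ _ => false) (fun _ ih M k => ite' (Nat.beq M 0) (fin k)
    (frc (ctz M) fun x => frc (Nat.shiftLeft x 1) fun a => frc (f a) fun b => ite' (Nat.ble b 1)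
      (frc (Nat.succ a) fun a' => frc (f a') fun b' => ite' (Nat.ble b' 1)
        (frc (Nat.xor M (Nat.shiftLeft 1 x)) fun M' => frc (Nat.add k (Nat.add b b')) (ih M')) false) false)) fuel

noncomputable def shp (p : Pre) (lev : Bool) (c NC Q w X t ti a : ℕ) : ℕ :=
  ite' (p.same lev NC Q X a w)
    (frc (p.mul c t a) fun b => frc (p.mul c b ti) fun u => frc (p.mul c a u) fun au => frc (p.mul c w a) fun wa =>
      ite' (p.same lev NC Q X wa au) 2 1) 0

/-- the shape test at `t` -/
noncomputable def shape (p : Pre) (lev : Bool) (c NC Q w X V pv t : ℕ) : Bool :=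
  frc (Nat.land V (row p.n p.F NC t)) fun Mv => frc (Nat.shiftLeft t 1) fun t2 =>
  frc (Nat.shiftLeft (ctz (row p.n p.F p.ZP t)) 1) fun i2 => frc (p.mul c t2 i2) fun e =>
  band (Nat.blt e 2) (band (Nat.blt i2 (Nat.add p.N p.N)) (frc (Nat.add i2 e) fun ti =>
    cntM (p.shp lev c NC Q w X t2 ti) (fun k => bor (Nat.blt k 4) (Nat.beq (Nat.shiftLeft (pop Mv) 1) pv)) p.N1 Mv 0))

/-- no datum at the centralizer of the class `v` -/
noncomputable def cls (p : Pre) (lev : Bool) (c NC Q I w : ℕ) (d : ℕ × List (ℕ × ℕ)) : Bool :=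
  bor (tb Q d.1) (frc (row p.n p.F NC d.1) fun rw => bor (Nat.beq rw 0)
    (frc (Nat.xor p.F rw) fun X => frc (p.orN NC rw d.2) fun Nm =>
      frc (Nat.land I (Nat.xor p.F (p.nz NC X))) fun V => frc (Nat.land (Nat.land Nm rw) (p.sqin X)) fun R =>
      frc (pop V) fun pv => frc (pop X) fun px => frc (pop Nm) fun pn =>
      bor (band (Nat.blt (Nat.shiftLeft px 1) pn)
          (anyM (fun t => Nat.beq (Nat.shiftLeft (pop (Nat.land V (row p.n p.F NC t))) 1) pv) p.N R))
        (bor (band lev (band (Nat.ble (Nat.shiftLeft px 3) pn) (Nat.ble pv 16)))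
          (band (Nat.blt 0 R) (frc (ctz R) (p.shape lev c NC Q w X V pv))))))

noncomputable def allL {α : Type} (f : α → Bool) (L : List α) : Bool :=
  List.rec (motive := fun _ => Bool) true (fun a _ ih => band (f a) ih) L

/-- the planes of the class `c` -/
noncomputable def conc {α : Type} (p : Pre) (c : ℕ) (k : ℕ → ℕ → ℕ → α) : α :=
  frc (xorL p.E c p.r 0) fun E => frc (Nat.lor p.NC0 (Nat.land E p.F2)) fun NC => frc (Nat.shiftRight E p.N2) fun Q =>
  frc (Nat.land (p.sq 0) (Nat.xor p.F Q)) fun I => k NC Q I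

/-- the central involutions and `0`, modulo `z` -/
noncomputable def cen (p : Pre) (NC I : ℕ) : ℕ :=
  Nat.land I (Nat.xor p.F (Nat.rec (motive := fun _ => ℕ) 0
    (fun k A => Nat.lor A (row p.n p.F NC (Nat.shiftLeft 1 k))) p.n))

/-- the elements `2 x + e` over the bits `x` of `M` with the property `f` -/
noncomputable def colM {α : Type} (f : ℕ → Bool) (fail : α) (k : List ℕ → α) (fuel : ℕ) : ℕ → List ℕ → α :=
  Nat.rec (motive := fun _ => ℕ → List ℕ → α) (fun _ _ => fail) (fun _ ih M L => ite' (Nat.beq M 0) (k L)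
    (frc (ctz M) fun x => frc (Nat.shiftLeft x 1) fun a => frc (Nat.succ a) fun a' =>
      frc (Nat.xor M (Nat.shiftLeft 1 x)) fun M' =>
      ite' (f a) (ite' (f a') (ih M' (a :: a' :: L)) (ih M' (a :: L))) (ite' (f a') (ih M' (a' :: L)) (ih M' L)))) fuel

noncomputable def short (L : List ℕ) : Bool :=
  List.rec (motive := fun _ => Bool) true (fun _ L _ => List.rec (motive := fun _ => Bool) true
    (fun _ L _ => List.rec (motive := fun _ => Bool) true (fun _ _ _ => false) L) L) L

/-- the first test -/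
noncomputable def s1 (p : Pre) (c : ℕ) : Bool := p.conc c fun NC Q I => allL (p.cls false c NC Q I 1) p.C

/-- the second test, with the central involution `w` -/
noncomputable def s2 (p : Pre) (c w : ℕ) : Bool := p.conc c fun NC Q I => frc (p.cen NC I) fun W =>
  band (Nat.blt 0 w) (band (tb W (Nat.shiftRight w 1))
    (colM (fun a => band (Nat.blt 0 a) (p.same true NC Q p.F a w)) false
      (fun L => ite' (short L) (allL (p.cls true c NC Q I w) p.C)
        (allL (fun a => allL (p.cls true c NC Q I a) p.C) L)) p.N1 W []))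

/-- the classes cover the involutions -/
noncomputable def cover (p : Pre) : Bool :=
  band (allL (fun d => band (Nat.blt d.1 p.N) (band (Nat.blt 0 d.1)
      (allL (fun u => band (Nat.blt u.1 p.N) (Nat.blt 0 u.2)) d.2))) p.C)
    (frc (List.rec (motive := fun _ => ℕ) 1 (fun d _ A => List.rec (motive := fun _ => ℕ) A
      (fun u _ B => Nat.lor B (Nat.shiftLeft 1 u.1)) d.2) p.C) fun A => Nat.beq (Nat.land (p.sq 0) A) (p.sq 0))

/-- the representatives `cnt - 1, …, lo`; a certificate `512 i + w` sends number `i` to the second test (`w > 0`)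
or lets it pass (`w = 0`); the certificates are packed in decreasing order of `i` with `24` bits, shifted by one -/
noncomputable def run (p : Pre) (reps lo k : ℕ) (outs : List ℕ) : ℕ → Bool :=
  Nat.rec (motive := fun _ => ℕ → Bool) (fun _ => true) (fun j ih ce => frc (Nat.add lo j) fun i =>
    frc (Nat.land (Nat.shiftRight reps (Nat.mul p.r i)) (msk p.r)) fun c =>
    ite' (Nat.beq (Nat.shiftRight (Nat.land ce 16777215) 9) (Nat.succ i))
      (frc (Nat.land ce 511) fun w => band (ite' (Nat.beq w 0) (bnot (allL (fun o => bnot (Nat.beq o i)) outs)) (p.s2 c w))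
        (frc (Nat.shiftRight ce 24) ih))
      (band (p.s1 c) (ih ce))) k

end Pre

/-- the classes, packed with `8` bits: `128 + v` begins a class -/
noncomputable def dec (k : ℕ) : ℕ → List ℕ → List (ℕ × List ℕ) :=
  Nat.rec (motive := fun _ => ℕ → List ℕ → List (ℕ × List ℕ)) (fun _ _ => []) (fun _ ih cd us =>
    ite' (Nat.beq cd 0) [] (frc (Nat.land cd 127) fun u => frc (Nat.shiftRight cd 8) fun cd' =>
      ite' (tb cd 7) ((u, u :: us) :: ih cd' []) (ih cd' (u :: us)))) k

/-- the check of the representatives `lo, …, lo + k - 1` of a base -/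
noncomputable def chk (n : ℕ) (B : Base) (cd lo k ce : ℕ) (outs : List ℕ) : Bool :=
  band (Nat.ble B.w 32) (band (Nat.ble n 7) (band (Nat.ble 1 n)
    (pre n B.r B.w B.rel (dec 128 cd []) fun p => band p.cover (frc B.reps fun reps => p.run reps lo k outs ce))))

end Cfsg.Agent.FS.Sw
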