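import Cfsg.Agent.FS.Sw.Dn
import Cfsg.Agent.FS.Sw.Snd
import Cfsg.Agent.FS.Gen.Has7
import Cfsg.Agent.FS.Th.Shape
import Cfsg.Agent.FS.Th.Elem

/-!
# The list of the groups which survive the filter (helper79, project FS)
-/

set_option autoImplicit false

namespace Cfsg.Agent.FS.Sw

open Cfsg Cfsg.FusionSystem Cfsg.Agent.FS.Th
open Pc (Base Ext)

universe u

variable {G : Type u} [Group G] [Finite G] {F : FusionSystem (⊤ : Subgroup G)}

omit [Finite G] in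
theorem of_has {n : ℕ} {LL SS : List (List Base)} (hd : ∀ l ∈ LL, Dn n SS l) (hF : Hyp F) {z : G}
    {P : Subgroup G} (hz : LocZ z P ⊥) (h : ∃ l ∈ LL, ∃ T ∈ l, T.Has n z) :
    ∃ l ∈ SS, ∃ T ∈ l, ∃ y : ℕ → G, Gen.P0 (n + 1) T y := by
  obtain ⟨l, hl, T, hT, i, hi, x, hx⟩ := h
  obtain ⟨cd, lo, k, ce, ics, h1, h2, h3⟩ := hd l hl T hT i hi
  obtain ⟨h4, h5⟩ := seg_spec.{u} h3
  exact h5 i (chk_sound h4 h1 h2 hx hF hz) G z x hx

/-- **The list.** -/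
theorem list (hF : Hyp F) {n : ℕ} (h2 : 2 ≤ n) (h7 : n ≤ 7) (hG : Nat.card G = 2 ^ (n + 1)) :
    ∃ l ∈ S (n + 1), ∃ T ∈ l, ∃ y : ℕ → G, Gen.P0 (n + 1) T y := by
  have hp : IsPGroup 2 G := IsPGroup.of_card hG
  have : Nontrivial G := Finite.one_lt_card_iff_nontrivial.1 (hG ▸ Nat.one_lt_two_pow (Nat.succ_ne_zero n))
  obtain ⟨z, z2, z1, zc, P, -, hz⟩ := hF.exists_locZ_inv hp
  interval_cases n
  · exact of_has dn2 hF hz (Gen.has2 hG z2 z1 zc)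
  · exact of_has dn3 hF hz (Gen.has3 hG z2 z1 zc)
  · exact of_has dn4 hF hz (Gen.has4 hG z2 z1 zc)
  · exact of_has dn5 hF hz (Gen.has5 hG z2 z1 zc)
  · exact of_has dn6 hF hz (Gen.has6 hG z2 z1 zc)
  · refine of_has dn7 hF hz ((Gen.has7 hG z2 z1 zc).resolve_left fun h => ?_)
    have h8 := hF.card_of_sq hp z2 z1 zc h
    rw [hG] at h8
    exact absurd h8 (by norm_num)

end Cfsg.Agent.FS.Sw
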